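import Cfsg.Agent.Lib.LocalEven.TIEndgame.CountThree

/-!
# A two-group normalising an irreducible commuting pair in dimension two

`J` gives the scalars of a field of order `2 ^ r` on `V` of order `2 ^ (2 * r)`, `w` commutes with
`J` and is irreducible with it.  A 2-group commuting with `J` whose conjugates of `w` commute with
`w` has order at most two modulo the elements acting trivially.
-/

set_option autoImplicit false

open scoped Classical

namespace CfsgLib.LocalEven.TIEndgame.CubeAlgebra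

universe u v

variable {N : Type u} [Group N] [Finite N] {V : Type v} [AddCommGroup V] [Finite V] [DistribMulAction N V]

theorem card_le_two_mul (h2 : ∀ x : V, x + x = 0) {r : ℕ} (hr : 2 ≤ r)
    (hV : Nat.card V = 2 ^ (2 * r)) (J : Subgroup N) (hJcard : Nat.card J + 1 = 2 ^ r)
    (hfree : ∀ j ∈ J, j ≠ 1 → ∀ x : V, j • x = x → x = 0)
    (hJJ : ∀ i ∈ J, ∀ j ∈ J, ∀ x : V, i • j • x = j • i • x)
    (w : N) (hwJ : ∀ j ∈ J, ∀ x : V, w • j • x = j • w • x)
    (hirr : ∀ U : AddSubgroup V, (∀ x ∈ U, w • x ∈ U) → (∀ j ∈ J, ∀ x ∈ U, j • x ∈ U) →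
      U = ⊥ ∨ U = ⊤)
    (T : Subgroup N) (hT : IsPGroup 2 T)
    (hTJ : ∀ s ∈ T, ∀ j ∈ J, ∀ x : V, s • j • x = j • s • x)
    (hTw : ∀ s ∈ T, ∀ x : V, (s * w * s⁻¹) • w • x = w • (s * w * s⁻¹) • x)
    (K : Subgroup N) (hK : ∀ s ∈ T, (∀ x : V, s • x = x) → s ∈ K) :
    Nat.card T ≤ 2 * Nat.card ↥(T ⊓ K) := by
  haveI : Fact (Nat.Prime 2) := ⟨Nat.prime_two⟩
  have hneg : ∀ x : V, -x = x := fun x => neg_eq_of_add_eq_zero_left (h2 x)
  have hq : 4 ≤ 2 ^ r := le_trans (by norm_num) (Nat.pow_le_pow_right (by norm_num : 0 < 2) hr)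
  by_cases htriv : ∀ s ∈ T, ∀ x : V, s • x = x
  · rw [inf_eq_left.2 fun s hs => hK s hs (htriv s hs)]
    omega
  -- the fixed space
  let L : AddSubgroup V :=
    { carrier := {x | ∀ s ∈ T, s • x = x}
      zero_mem' := fun s _ => smul_zero s
      add_mem' := fun {x y} hx hy s hs => by rw [smul_add, hx s hs, hy s hs]
      neg_mem' := fun {x} hx s hs => by rw [smul_neg, hx s hs] }
  have hLJ : ∀ j ∈ J, ∀ x ∈ L, j • x ∈ L := fun j hj x hx s hs => by rw [hTJ s hs j hj, hx s hs]
  have hLtop : L ≠ ⊤ := fun e => htriv fun s hs x => (show x ∈ L by rw [e]; trivial) s hs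
  obtain ⟨e0, he0L, he0⟩ : ∃ e0 ∈ L, e0 ≠ 0 := by
    have hdvd : 2 ∣ Nat.card V := by rw [hV]; exact dvd_pow_self 2 (by omega)
    have h0 : (0 : V) ∈ MulAction.fixedPoints T V := fun s => smul_zero (s : N)
    obtain ⟨x, hx, hx0⟩ :=
      hT.exists_fixed_point_of_prime_dvd_card_of_fixed_point V hdvd h0
    exact ⟨x, fun s hs => hx ⟨s, hs⟩, fun e => hx0 e.symm⟩
  have hinj : ∀ x : V, x ≠ 0 → Function.Injective fun j : J => (j : N) • x := by
    intro x hx i j hij
    by_contra hne
    refine hx (hfree ((i : N)⁻¹ * j) (mul_mem (inv_mem i.2) j.2) (fun e => hne ?_) x ?_)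
    · exact Subtype.ext (inv_mul_eq_one.1 e)
    · rw [mul_smul, ← show (i : N) • x = (j : N) • x from hij, inv_smul_smul]
  -- its order
  have hLcard : Nat.card L = 2 ^ r := by
    let act : MulAction J {x : L // x ≠ 0} :=
      { smul := fun j x => ⟨⟨(j : N) • (x.1 : V), hLJ j j.2 _ x.1.2⟩, fun e => x.2 (by
          have e' : (j : N) • (x.1 : V) = 0 := congrArg Subtype.val e
          rw [smul_eq_zero_iff_eq] at e'
          exact Subtype.ext e')⟩
        one_smul := fun x => Subtype.ext (Subtype.ext (one_smul N _))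
        mul_smul := fun i j x => Subtype.ext (Subtype.ext (mul_smul (i : N) j _)) }
    have hd := @CountThree.card_dvd_of_free J {x : L // x ≠ 0} _ _ _ act fun j x hjx => by
      by_contra hj
      exact x.2 (Subtype.ext (hfree j j.2 (fun e => hj (Subtype.ext e)) _
        (congrArg (fun y : {x : L // x ≠ 0} => ((y.1 : L) : V)) hjx)))
    have hdL : Nat.card L ∣ 2 ^ (2 * r) := hV ▸ AddSubgroup.card_addSubgroup_dvd_card L
    obtain ⟨k, hk, hk'⟩ := (Nat.dvd_prime_pow Nat.prime_two).1 hdL
    have hlt : k ≠ 2 * r := fun e => hLtop (AddSubgroup.eq_top_of_card_eq L (by rw [hk', e, hV]))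
    have hk0 : 1 ≤ k := by
      by_contra h
      rw [show k = 0 by omega, pow_zero, AddSubgroup.card_eq_one] at hk'
      exact he0 (by simpa [hk'] using he0L)
    haveI : Fintype L := Fintype.ofFinite _
    have hc : Nat.card {x : L // x ≠ 0} = 2 ^ k - 1 := by
      rw [← hk', Nat.card_eq_fintype_card, Nat.card_eq_fintype_card, Fintype.card_subtype_compl,
        Fintype.card_subtype_eq]
    rw [hc, show Nat.card J = 2 ^ r - 1 by omega] at hd
    have hg := (Nat.pow_sub_one_gcd_pow_sub_one 2 r k).symm.trans (Nat.gcd_eq_left hd)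
    have hrk : r ∣ k := Nat.gcd_eq_left_iff_dvd.1 (Nat.pow_right_injective le_rfl (by
      have := Nat.one_le_two_pow (n := r)
      have := Nat.one_le_two_pow (n := Nat.gcd r k)
      omega : 2 ^ Nat.gcd r k = 2 ^ r))
    obtain ⟨i, rfl⟩ := hrk
    rw [hk']
    congr 1
    rcases i with _ | _ | i
    · simp at hk0
    · simp
    · exfalso
      have : r * 2 ≤ r * (i + 1 + 1) := Nat.mul_le_mul_left r (by omega)
      omega
  have htrans : ∀ l ∈ L, l ≠ 0 → ∃ j ∈ J, j • e0 = l := by
    intro l hl hl0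
    haveI : Fintype L := Fintype.ofFinite _
    let f : J → {x : L // x ≠ 0} := fun j => ⟨⟨(j : N) • e0, hLJ j j.2 e0 he0L⟩, fun e => he0 (by
      have e' : (j : N) • e0 = 0 := congrArg Subtype.val e
      rwa [smul_eq_zero_iff_eq] at e')⟩
    have hf : Function.Bijective f := by
      refine (Nat.bijective_iff_injective_and_card f).2 ⟨fun i j h => hinj e0 he0
        (congrArg (fun y : {x : L // x ≠ 0} => ((y.1 : L) : V)) h), ?_⟩
      rw [Nat.card_eq_fintype_card (α := {x : L // x ≠ 0}), Fintype.card_subtype_compl,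
        Fintype.card_subtype_eq, ← Nat.card_eq_fintype_card (α := L), hLcard]
      omega
    obtain ⟨j, hj⟩ := hf.2 ⟨⟨l, hl⟩, fun e => hl0 (congrArg Subtype.val e)⟩
    exact ⟨j, j.2, congrArg (fun y : {x : L // x ≠ 0} => ((y.1 : L) : V)) hj⟩
  have hwL : ∀ l ∈ L, l ≠ 0 → w • l ∉ L := by
    intro l hl hl0 hwl
    obtain ⟨i, hi, rfl⟩ := htrans l hl hl0
    have h0 : w • e0 ∈ L := by
      have := hLJ i⁻¹ (inv_mem hi) _ hwl
      rwa [hwJ i hi, inv_smul_smul] at this
    have hinv : ∀ x ∈ L, w • x ∈ L := by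
      intro x hx
      by_cases hx0 : x = 0
      · rw [hx0, smul_zero]; exact L.zero_mem
      obtain ⟨j, hj, rfl⟩ := htrans x hx hx0
      rw [hwJ j hj]
      exact hLJ j hj _ h0
    rcases hirr L hinv hLJ with e | e
    · exact he0 (by simpa [e] using he0L)
    · exact hLtop e
  -- the space is `L + w L`
  have hsplit : ∀ x : V, ∃ a ∈ L, ∃ b ∈ L, x = a + w • b := by
    let f : L × L → V := fun p => (p.1 : V) + w • (p.2 : V)
    have hf : Function.Bijective f := by
      refine (Nat.bijective_iff_injective_and_card f).2 ⟨fun p p' h => ?_, ?_⟩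
      · have h' : w • ((p.2 : V) - p'.2) = (p'.1 : V) - p.1 := by
          have h0 : (p.1 : V) + w • (p.2 : V) = (p'.1 : V) + w • (p'.2 : V) := h
          rw [smul_sub, sub_eq_sub_iff_add_eq_add, add_comm, h0]
        by_cases h0 : (p.2 : V) - p'.2 = 0
        · rw [h0, smul_zero, eq_comm, sub_eq_zero] at h'
          exact Prod.ext (Subtype.ext h'.symm) (Subtype.ext (sub_eq_zero.1 h0))
        · exact absurd (h' ▸ L.sub_mem p'.1.2 p.1.2) (hwL _ (L.sub_mem p.2.2 p'.2.2) h0)
      · rw [Nat.card_prod, hLcard, hV, ← pow_add, two_mul]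
    intro x
    obtain ⟨⟨a, b⟩, hab⟩ := hf.2 x
    exact ⟨a, a.2, b, b.2, hab.symm⟩
  -- the translations of `w • e0`
  have hwe0 : w • e0 ∉ L := hwL e0 he0L he0
  have hm : ∀ s ∈ T, s • w • e0 + w • e0 ∈ L := by
    let act : MulAction T (V ⧸ L) :=
      { smul := fun s => QuotientAddGroup.map L L (DistribMulAction.toAddMonoidHom V (s : N))
          fun x hx => by
            show (s : N) • x ∈ L
            rw [hx s s.2]
            exact hx
        one_smul := fun x => by
          induction x using QuotientAddGroup.induction_on with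
          | H x => exact congrArg QuotientAddGroup.mk (one_smul N x)
        mul_smul := fun s t x => by
          induction x using QuotientAddGroup.induction_on with
          | H x => exact congrArg QuotientAddGroup.mk (mul_smul (s : N) t x) }
    have hdvd : 2 ∣ Nat.card (V ⧸ L) := by
      have h := L.card_eq_card_quotient_mul_card_addSubgroup
      rw [hV, hLcard, two_mul, pow_add] at h
      rw [← Nat.eq_of_mul_eq_mul_right (by positivity) h]
      exact dvd_pow_self 2 (by omega)
    have h0 : (0 : V ⧸ L) ∈ @MulAction.fixedPoints T (V ⧸ L) _ act := fun s =>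
      map_zero (QuotientAddGroup.map L L (DistribMulAction.toAddMonoidHom V (s : N)) _)
    obtain ⟨y, hy, hy0⟩ :=
      @IsPGroup.exists_fixed_point_of_prime_dvd_card_of_fixed_point 2 T _ hT _ (V ⧸ L) act _ hdvd 0 h0
    obtain ⟨x, rfl⟩ := QuotientAddGroup.mk_surjective y
    have hxL : x ∉ L := fun e => hy0 ((QuotientAddGroup.eq_zero_iff x).2 e).symm
    obtain ⟨a, ha, b, hb, rfl⟩ := hsplit x
    have hb0 : b ≠ 0 := fun e => hxL (by simpa [e] using ha)
    obtain ⟨i, hi, rfl⟩ := htrans b hb hb0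
    intro s hs
    have h1 := (QuotientAddGroup.eq).1 (hy ⟨s, hs⟩)
    have h1' : -(s • (a + w • i • e0)) + (a + w • i • e0) ∈ L := h1
    rw [hneg, smul_add, ha s hs, hwJ i hi, hTJ s hs i hi] at h1'
    have h3 : i • (s • w • e0 + w • e0) ∈ L := by
      rw [smul_add]
      have e : a + i • s • w • e0 + (a + i • w • e0) =
          (a + a) + (i • s • w • e0 + i • w • e0) := by abel
      rwa [e, h2, zero_add] at h1'
    have := hLJ i⁻¹ (inv_mem hi) _ h3
    rwa [inv_smul_smul] at this
  -- the square of `w`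
  obtain ⟨c, hc, d, hd, hcd⟩ := hsplit (w • w • e0)
  have hval : ∀ s ∈ T, s • w • e0 + w • e0 = 0 ∨ s • w • e0 + w • e0 = d := by
    intro s hs
    by_cases h0 : s • w • e0 + w • e0 = 0
    · exact Or.inl h0
    right
    obtain ⟨j, hj, hje⟩ := htrans _ (hm s hs) h0
    rw [← hje]
    have hse : s⁻¹ • e0 = e0 := by rw [inv_smul_eq_iff, he0L s hs]
    set w' := s * w * s⁻¹ with hw'
    have hw'J : ∀ i ∈ J, ∀ x : V, w' • i • x = i • w' • x := by
      intro i hi x
      rw [hw', mul_smul, mul_smul, mul_smul, mul_smul, hTJ s⁻¹ (inv_mem hs) i hi, hwJ i hi,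
        hTJ s hs i hi]
    have he : w' • e0 = w • e0 + j • e0 := by
      rw [hje, hw', mul_smul, mul_smul, hse, add_left_comm, h2, add_zero]
    have hL' : ∀ l ∈ L, w' • l = w • l + j • l := by
      intro l hl
      by_cases hl0 : l = 0
      · simp [hl0]
      obtain ⟨i, hi, rfl⟩ := htrans l hl hl0
      rw [hw'J i hi, he, smul_add, hwJ i hi, hJJ i hi j hj]
    have hw'eq : ∀ x : V, w' • x = w • x + j • x := by
      intro x
      obtain ⟨a, ha, b, hb, rfl⟩ := hsplit x
      rw [smul_add, hTw s hs, hL' a ha, hL' b hb, smul_add w (w • b), hwJ j hj, smul_add, smul_add]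
      abel
    -- apply `s` to the quadratic equation
    have hsw : s • w • e0 = w • e0 + j • e0 := by
      rw [hje, add_left_comm, h2, add_zero]
    have hlhs : s • w • w • e0 = w • w • e0 + j • j • e0 := by
      have e : s • w • w • e0 = w' • (s • w • e0) := by
        rw [hw', mul_smul, mul_smul, inv_smul_smul]
      rw [e, hsw, hw'eq, smul_add, smul_add, hwJ j hj]
      have e' : w • w • e0 + j • w • e0 + (j • w • e0 + j • j • e0) =
          w • w • e0 + j • j • e0 + (j • w • e0 + j • w • e0) := by abel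
      rw [e', h2, add_zero]
    by_cases hd0 : d = 0
    · exfalso
      rw [hd0, smul_zero, add_zero] at hcd
      rw [hcd, hc s hs] at hlhs
      have : j • j • e0 = 0 := by
        rwa [eq_comm, add_eq_left] at hlhs
      exact he0 (by rwa [smul_eq_zero_iff_eq, smul_eq_zero_iff_eq] at this)
    obtain ⟨i, hi, hid⟩ := htrans d hd hd0
    have hrhs : s • w • w • e0 = w • w • e0 + j • d := by
      rw [hcd, smul_add, hc s hs, ← hid, hwJ i hi, hTJ s hs i hi, hsw, smul_add, hJJ i hi j hj,
        add_assoc]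
    have hjj : j • j • e0 = j • d := add_left_cancel (hlhs.symm.trans hrhs)
    exact MulAction.injective j hjj
  -- so at most two classes modulo the kernel
  haveI : Fintype T := Fintype.ofFinite _
  let f : T → V := fun s => (s : N) • w • e0 + w • e0
  have himg : (Finset.univ.image f).card ≤ 2 := by
    refine (Finset.card_le_card (t := {0, d}) fun y hy => ?_).trans Finset.card_le_two
    obtain ⟨s, -, rfl⟩ := Finset.mem_image.1 hy
    rcases hval s s.2 with e | e <;> simp [f, e]
  have hfib : ∀ y ∈ Finset.univ.image f,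
      (Finset.univ.filter fun s => f s = y).card ≤ Nat.card ↥(T ⊓ K) := by
    intro y hy
    obtain ⟨s, -, rfl⟩ := Finset.mem_image.1 hy
    have hmem : ∀ t : T, f t = f s → (s : N)⁻¹ * (t : N) ∈ T ⊓ K := by
      intro t hts
      refine ⟨T.mul_mem (T.inv_mem s.2) t.2, hK _ (T.mul_mem (T.inv_mem s.2) t.2) fun x => ?_⟩
      rw [mul_smul, inv_smul_eq_iff]
      obtain ⟨a, ha, b, hb, rfl⟩ := hsplit x
      rw [smul_add, smul_add, ha t t.2, ha s s.2]
      congr 1
      by_cases hb0 : b = 0
      · simp [hb0]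
      obtain ⟨i, hi, rfl⟩ := htrans b hb hb0
      rw [hwJ i hi, hTJ t t.2 i hi, hTJ s s.2 i hi, add_right_cancel (show (t : N) • w • e0 + w • e0 =
        (s : N) • w • e0 + w • e0 from hts)]
    rw [← Fintype.card_subtype, ← Nat.card_eq_fintype_card]
    exact Nat.card_le_card_of_injective
      (fun t : {t : T // f t = f s} => (⟨(s : N)⁻¹ * (t.1 : N), hmem t.1 t.2⟩ : ↥(T ⊓ K)))
      fun t t' h => Subtype.ext (Subtype.ext (mul_left_cancel (congrArg Subtype.val h)))
  have h := Finset.card_le_mul_card_image (f := f) Finset.univ _ hfib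
  rw [Finset.card_univ, ← Nat.card_eq_fintype_card] at h
  calc Nat.card T ≤ Nat.card ↥(T ⊓ K) * (Finset.univ.image f).card := h
    _ ≤ Nat.card ↥(T ⊓ K) * 2 := Nat.mul_le_mul_left _ himg
    _ = 2 * Nat.card ↥(T ⊓ K) := mul_comm _ _

end CfsgLib.LocalEven.TIEndgame.CubeAlgebra
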