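import Cfsg.Agent.Lib.LocalEven.TIEndgame.Defs
import Cfsg.Agent.Lib.LocalEven.TIEndgame.Central.CubeAlgebra
import Mathlib.GroupTheory.GroupAction.FixingSubgroup
import Mathlib.GroupTheory.QuotientGroup.Basic
import Mathlib.GroupTheory.SpecificGroups.Cyclic

/-!
# Two-groups fixing two points of a cubic line

For a bad involution `v` with `|Q| = q ^ 3` a 2-group centralising `v` and `W a` and fixing a
second point has order at most twice that of its subgroup fixing the whole line.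
-/

set_option autoImplicit false
set_option linter.style.haveILetI false

namespace CfsgLib.LocalEven.TIEndgame

open MulAction Subgroup
open scoped commutatorElement

universe u

namespace TISetting

theorem card_two_stab_le_cube {G Ω : Type u} [Group G] [Finite G] [Finite Ω] [MulAction G Ω]
    [FaithfulSMul G Ω] {W : Ω → Subgroup G} (h : TISetting W) {v : G} {a c : Ω} {Q J : Subgroup G}
    {w : G} (hv : orderOf v = 2) (hva : v • a = a) (hvc : v • c = c) (hca : c ≠ a)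
    (hcomm : ∀ d ∈ W a, Commute v d) (four : 4 ≤ Nat.card (W a))
    (hQ : Loc W (centralizer {v}) a Q) (hJ : Torus W (centralizer {v}) a c Q J)
    (hw : Rot W (centralizer {v}) a c Q J w) (hcube : Nat.card Q = Nat.card (W a) ^ 3)
    {T : Subgroup G} (hT : IsPGroup 2 T) (hTY : T ≤ cY W a v) (hTc : ∀ t ∈ T, t • c = c) :
    Nat.card T ≤ 2 * Nat.card ↥(T ⊓ fixingSubgroup G (MulAction.fixedBy Ω v)) := by
  classical
  haveI : Fact (Nat.Prime 2) := ⟨Nat.prime_two⟩
  have hWC : W a ⊓ centralizer {v} = W a := inf_eq_left.2 fun d hd =>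
    Subgroup.mem_centralizer_singleton_iff.2 (hcomm d hd).eq.symm
  have hWQ : W a ≤ Q := hWC.symm.le.trans hQ.inf_le
  have hQW : ∀ x ∈ Q, ∀ d ∈ W a, Commute x d := fun x hx d hd => hQ.central x hx d (hWC.symm ▸ hd)
  have hWsq : ∀ d ∈ W a, d⁻¹ = d := fun d hd => inv_eq_of_mul_eq_one_right (h.sq a d hd)
  have hcore : ∀ g ∈ core W (centralizer {v}), g ∈ centralizer ({v} : Set G) := fun g hg =>
    (closure_le _).2 Set.inter_subset_right hg
  have hQcore : ∀ x ∈ Q, x ∈ core W (centralizer {v}) ∧ x • a = a := fun x hx =>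
    ⟨(mem_inf.1 (hQ.le hx)).1, mem_stabilizer_iff.1 (mem_inf.1 (hQ.le hx)).2⟩
  have hpts : pts W (centralizer {v}) = {e : Ω | v • e = e} := h.pts_centralizer hv
  have hcp : c ∈ pts W (centralizer {v}) := hpts.symm ▸ hvc
  have hQfix : ∀ x ∈ Q, v • (x • c) = x • c := fun x hx => by
    rw [smul_smul, ← Subgroup.mem_centralizer_singleton_iff.1 (hcore _ (hQcore x hx).1), mul_smul,
      hvc]
  have hQne : ∀ x ∈ Q, x • c ≠ a := fun x hx e =>
    hca (smul_left_cancel x (e.trans (hQcore x hx).2.symm))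
  have hQreg : ∀ x ∈ Q, x • c = c → x = 1 := fun x hx hxc =>
    (hQ.regular c hcp hca c hcp hca).unique ⟨hx, hxc⟩ ⟨one_mem _, one_smul G c⟩
  -- the acting group
  let Nn : Subgroup G := centralizer ({v} : Set G) ⊓ stabilizer G a ⊓ stabilizer G c
  have hNn : ∀ {g : G}, g ∈ Nn → g ∈ centralizer ({v} : Set G) ∧ g • a = a ∧ g • c = c :=
    fun {g} hg => ⟨(mem_inf.1 (mem_inf.1 hg).1).1, mem_stabilizer_iff.1 (mem_inf.1 (mem_inf.1 hg).1).2,
      mem_stabilizer_iff.1 (mem_inf.1 hg).2⟩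
  have hmkNn : ∀ {g : G}, g ∈ centralizer ({v} : Set G) → g • a = a → g • c = c → g ∈ Nn :=
    fun {g} h1 h2 h3 => mem_inf.2 ⟨mem_inf.2 ⟨h1, mem_stabilizer_iff.2 h2⟩, mem_stabilizer_iff.2 h3⟩
  have hconjQ : ∀ g ∈ Nn, ∀ x ∈ Q, g * x * g⁻¹ ∈ Q := fun g hg x hx =>
    hQ.normal g (hNn hg).1 (hNn hg).2.1 x hx
  have hconjW : ∀ g ∈ Nn, ∀ x ∈ W a, g * x * g⁻¹ ∈ W a := fun g hg x hx => by
    have h' := h.conj g a x hx
    rwa [(hNn hg).2.1] at h'
  let W' : Subgroup Q := (W a).subgroupOf Q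
  have hW'c : W' ≤ Subgroup.center Q := fun d hd => Subgroup.mem_center_iff.2 fun x =>
    Subtype.ext (hQW x x.2 (d : G) (mem_subgroupOf.1 hd)).eq
  haveI hW'n : W'.Normal := ⟨fun d hd x => by
    rw [Subgroup.mem_center_iff.1 (hW'c hd) x, mul_inv_cancel_right]; exact hd⟩
  letI : CommGroup (Q ⧸ W') :=
    { (inferInstance : Group (Q ⧸ W')) with
      mul_comm := fun x y => by
        induction x using QuotientGroup.induction_on with
        | H x =>
          induction y using QuotientGroup.induction_on with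
          | H y =>
            refine QuotientGroup.eq.2 (mem_subgroupOf.2 ?_)
            have hc := hQ.comm_mem (y : G)⁻¹ (inv_mem y.2) (x : G)⁻¹ (inv_mem x.2)
            convert hc using 1
            simp [commutatorElement_def, mul_assoc] }
  let conjHomQ : Nn → (Q →* Q ⧸ W') := fun g =>
    MonoidHom.mk' (fun x => QuotientGroup.mk ⟨g * x * (g : G)⁻¹, hconjQ g g.2 x x.2⟩) fun x y => by
      rw [← QuotientGroup.mk_mul]
      exact congrArg QuotientGroup.mk (Subtype.ext (by simp [mul_assoc]))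
  have hker : ∀ g : Nn, W' ≤ (conjHomQ g).ker := fun g x hx =>
    MonoidHom.mem_ker.2 ((QuotientGroup.eq_one_iff _).2 (mem_subgroupOf.2
      (hconjW g g.2 x (mem_subgroupOf.1 hx))))
  let act : Nn → Additive (Q ⧸ W') → Additive (Q ⧸ W') := fun g y =>
    Additive.ofMul (QuotientGroup.lift W' (conjHomQ g) (hker g) y.toMul)
  have act_mk : ∀ (g : Nn) (x : Q), act g (Additive.ofMul (x : Q ⧸ W')) =
      Additive.ofMul ((⟨g * x * (g : G)⁻¹, hconjQ g g.2 x x.2⟩ : Q) : Q ⧸ W') := fun _ _ => rfl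
  have act_one : ∀ y : Additive (Q ⧸ W'), act 1 y = y := fun y => by
    obtain ⟨x, hx⟩ := QuotientGroup.mk_surjective y.toMul
    rw [← ofMul_toMul y, ← hx, act_mk]
    exact congrArg (fun e : Q => Additive.ofMul (e : Q ⧸ W')) (Subtype.ext (by simp))
  have act_mul : ∀ (g g' : Nn) (y : Additive (Q ⧸ W')), act (g * g') y = act g (act g' y) := by
    intro g g' y
    obtain ⟨x, hx⟩ := QuotientGroup.mk_surjective y.toMul
    rw [← ofMul_toMul y, ← hx, act_mk, act_mk, act_mk]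
    exact congrArg (fun e : Q => Additive.ofMul (e : Q ⧸ W')) (Subtype.ext (by simp [mul_assoc]))
  letI : SMul Nn (Additive (Q ⧸ W')) := ⟨act⟩
  letI : MulAction Nn (Additive (Q ⧸ W')) := { one_smul := act_one, mul_smul := act_mul }
  letI : DistribMulAction Nn (Additive (Q ⧸ W')) :=
    { smul_zero := fun g => congrArg Additive.ofMul (map_one _)
      smul_add := fun g x y => congrArg Additive.ofMul (map_mul _ x.toMul y.toMul) }
  let π : Q → Additive (Q ⧸ W') := fun x => Additive.ofMul (x : Q ⧸ W')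
  have hπ : Function.Surjective π := fun y => by
    obtain ⟨x, hx⟩ := QuotientGroup.mk_surjective y.toMul
    exact ⟨x, congrArg Additive.ofMul hx⟩
  have hsmul : ∀ (g : Nn) (x : Q), g • π x = π ⟨g * x * (g : G)⁻¹, hconjQ g g.2 x x.2⟩ :=
    fun _ _ => rfl
  have hπeq : ∀ x y : Q, π x = π y ↔ (x : G)⁻¹ * y ∈ W a := fun x y =>
    Additive.ofMul.apply_eq_iff_eq.trans (QuotientGroup.eq.trans mem_subgroupOf)
  have hπ0 : ∀ x : Q, π x = 0 ↔ (x : G) ∈ W a := fun x =>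
    (Additive.ofMul.apply_eq_iff_eq (y := (1 : Q ⧸ W'))).trans
      ((QuotientGroup.eq_one_iff x).trans mem_subgroupOf)
  -- sizes
  obtain ⟨r, hr⟩ : ∃ r : ℕ, Nat.card (W a) = 2 ^ r := by
    have hW2 : IsPGroup 2 (W a) := fun x => ⟨1, Subtype.ext (by
      simpa [pow_two] using h.sq a x x.2)⟩
    exact IsPGroup.iff_card.1 hW2
  have hr2 : 2 ≤ r := by
    by_contra hlt
    have : 2 ^ r ≤ 2 ^ 1 := Nat.pow_le_pow_right (by norm_num) (by omega)
    rw [← hr] at this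
    omega
  have hVcard : Nat.card (Additive (Q ⧸ W')) = 2 ^ (2 * r) := by
    have h1 := W'.card_eq_card_quotient_mul_card_subgroup
    rw [Nat.card_congr (Subgroup.subgroupOfEquivOfLe hWQ).toEquiv, hcube, hr] at h1
    have h2 : Nat.card (Q ⧸ W') * 2 ^ r = 2 ^ (2 * r) * 2 ^ r := by
      rw [← h1]; ring
    rw [Nat.card_congr Additive.toMul]
    exact Nat.eq_of_mul_eq_mul_right (by positivity) h2
  have h2V : ∀ y : Additive (Q ⧸ W'), y + y = 0 := fun y => by
    obtain ⟨x, rfl⟩ := hπ y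
    show π (x * x) = 0
    exact (hπ0 _).2 (hQ.sq_mem x x.2)
  -- the torus
  have hJN : J ≤ Nn := fun j hj => by
    obtain ⟨hj1, hj2⟩ := mem_inf.1 (hJ.le hj)
    obtain ⟨hj0, hj1⟩ := mem_inf.1 hj1
    exact hmkNn (hcore j hj0) (mem_stabilizer_iff.1 hj1) (mem_stabilizer_iff.1 hj2)
  have hJcard' : Nat.card J + 1 = Nat.card (W a) := by rw [hJ.card, hWC]
  have hJreg : ∀ f ∈ W a, f ≠ 1 → ∀ j ∈ J, Commute j f → j = 1 := by
    intro f hf hf1 j hj hjf
    let F : J → {x : W a // x ≠ 1} := fun i => ⟨⟨(i : G) * f * (i : G)⁻¹, hconjW i (hJN i.2) f hf⟩,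
      fun e => hf1 (conj_eq_one_iff.1 (congrArg Subtype.val e))⟩
    have hsurj : Function.Surjective F := fun x => by
      obtain ⟨i, hi, hif⟩ := hJ.trans f (hWC.symm ▸ hf) hf1 (x.1 : G) (hWC.symm ▸ x.1.2)
        fun e => x.2 (Subtype.ext e)
      exact ⟨⟨i, hi⟩, Subtype.ext (Subtype.ext hif)⟩
    haveI : Fintype (W a) := Fintype.ofFinite _
    have hbij : Function.Bijective F := (Nat.bijective_iff_surjective_and_card F).2 ⟨hsurj, by
      rw [Nat.card_eq_fintype_card (α := {x : W a // x ≠ 1}), Fintype.card_subtype_compl,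
        Fintype.card_subtype_eq, ← Nat.card_eq_fintype_card]
      omega⟩
    exact congrArg Subtype.val (hbij.1 (a₁ := ⟨j, hj⟩) (a₂ := 1) (Subtype.ext (Subtype.ext (by
      show j * f * j⁻¹ = (1 : G) * f * (1 : G)⁻¹
      rw [hjf.eq, mul_inv_cancel_right]; simp))))
  haveI := hJ.cyclic
  have hJcomm : ∀ i ∈ J, ∀ j ∈ J, i * j = j * i := fun i hi j hj =>
    congrArg Subtype.val (show (⟨i, hi⟩ : J) * ⟨j, hj⟩ = ⟨j, hj⟩ * ⟨i, hi⟩ from
      (IsCyclic.commutative (α := J)).is_comm.comm _ _)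
  have hNJ : ∀ g ∈ Nn, (∀ d ∈ W a, Commute g d) → ∀ j ∈ J, Commute g j := by
    intro g hg hgW j hj
    have hgj : g * j * g⁻¹ ∈ J := hJ.normal g (hNn hg).1 (hNn hg).2.1 (hNn hg).2.2 j hj
    obtain ⟨f, hf, hf1⟩ := ((W a).bot_or_exists_ne_one).resolve_left (h.ne_bot a)
    have hfix : Commute (j⁻¹ * (g * j * g⁻¹)) f := by
      have hgf : Commute g (j * f * j⁻¹) := hgW _ (hconjW j (hJN hj) f hf)
      refine mul_inv_eq_iff_eq_mul.1 ?_
      have hgi : g⁻¹ * f * g = f := by rw [mul_assoc, ← (hgW f hf).eq, inv_mul_cancel_left]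
      calc j⁻¹ * (g * j * g⁻¹) * f * (j⁻¹ * (g * j * g⁻¹))⁻¹
          = j⁻¹ * (g * (j * (g⁻¹ * f * g) * j⁻¹) * g⁻¹) * j := by group
        _ = j⁻¹ * (g * (j * f * j⁻¹) * g⁻¹) * j := by rw [hgi]
        _ = f := by rw [hgf.eq]; group
    have h1 := inv_mul_eq_one.1 (hJreg f hf hf1 _ (mul_mem (inv_mem hj) hgj) hfix)
    exact (mul_inv_eq_iff_eq_mul.1 h1.symm)
  have hwcore := hw.mem
  have hwN : w ∈ Nn := hmkNn (hcore w hwcore) hw.fix_a hw.fix_b
  have hwW : ∀ d ∈ W a, Commute w d := fun d hd => hw.central d (hWC.symm ▸ hd)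
  have hTN : T ≤ Nn := fun t ht => hmkNn (mem_inf.1 (hTY ht)).2
    (mem_stabilizer_iff.1 (mem_inf.1 (mem_inf.1 (hTY ht)).1).1) (hTc t ht)
  have hTW : ∀ t ∈ T, ∀ d ∈ W a, Commute t d := fun t ht d hd =>
    (Subgroup.mem_centralizer_iff.1 (mem_inf.1 (mem_inf.1 (hTY ht)).1).2 d hd).symm
  have hcoreconj : ∀ g ∈ centralizer ({v} : Set G), ∀ x ∈ core W (centralizer {v}),
      g * x * g⁻¹ ∈ core W (centralizer {v}) := by
    intro g hg x hx
    induction hx using Subgroup.closure_induction with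
    | mem d hd =>
      exact subset_closure ⟨h.onePoint.conj_mem g d hd.1, mul_mem (mul_mem hg hd.2) (inv_mem hg)⟩
    | one => simpa using one_mem _
    | mul x y _ _ hx hy => rw [show g * (x * y) * g⁻¹ = g * x * g⁻¹ * (g * y * g⁻¹) by group]; exact mul_mem hx hy
    | inv x _ hx => rw [show g * x⁻¹ * g⁻¹ = (g * x * g⁻¹)⁻¹ by group]; exact inv_mem hx
  let J' : Subgroup Nn := J.subgroupOf Nn
  let T' : Subgroup Nn := T.subgroupOf Nn
  let K' : Subgroup Nn := (fixingSubgroup G (MulAction.fixedBy Ω v)).subgroupOf Nn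
  -- elements acting trivially fix the line
  have hK : ∀ s ∈ T', (∀ y : Additive (Q ⧸ W'), s • y = y) → s ∈ K' := by
    rintro ⟨s, hsN⟩ hs htriv
    have hsT : s ∈ T := hs
    have hsx : ∀ x ∈ Q, x⁻¹ * (s * x * s⁻¹) ∈ W a := fun x hx => by
      have h1 := htriv (π ⟨x, hx⟩)
      rw [hsmul, eq_comm, hπeq] at h1
      exact h1
    set k := s * w * s⁻¹ * w⁻¹ with hk
    have hkc : k ∈ core W (centralizer {v}) :=
      mul_mem (hcoreconj s (hNn hsN).1 w hwcore) (inv_mem hwcore)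
    have hkN : k ∈ Nn := mul_mem (mul_mem (mul_mem hsN hwN) (inv_mem hsN)) (inv_mem hwN)
    obtain ⟨e, m, hm, hem⟩ : ∃ e m, ¬ 2 ∣ m ∧ orderOf k = 2 ^ e * m :=
      Nat.exists_eq_pow_mul_and_not_dvd (orderOf_pos k).ne' 2 (by norm_num)
    have hkm : k ^ m = 1 := by
      refine hQreg _ (hQ.mem_of_two _ (pow_mem hkc m)
        (mem_stabilizer_iff.1 (pow_mem (mem_stabilizer_iff.2 (hNn hkN).2.1) m)) ⟨e, ?_⟩) ?_
      · rw [← pow_mul, mul_comm, ← hem, pow_orderOf_eq_one]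
      · exact mem_stabilizer_iff.1 (pow_mem (mem_stabilizer_iff.2 (hNn hkN).2.2) m)
    have hmodd : Odd m := Nat.not_even_iff_odd.1 fun he => hm (even_iff_two_dvd.1 he)
    have hkW : ∀ d ∈ W a, Commute k d := fun d hd =>
      (((hTW s hsT d hd).mul_left (hwW d hd)).mul_left ((hTW s hsT d hd).inv_left)).mul_left
        (hwW d hd).inv_left
    have hkQ : ∀ x ∈ Q, k * x * k⁻¹ = x := by
      intro x hx
      have htrivk : (⟨k, hkN⟩ : Nn) • π ⟨x, hx⟩ = π ⟨x, hx⟩ := by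
        have hs' : ∀ y : Additive (Q ⧸ W'), (⟨s, hsN⟩ : Nn)⁻¹ • y = y := fun y => by
          rw [inv_smul_eq_iff]; exact (htriv y).symm
        rw [show (⟨k, hkN⟩ : Nn) = ⟨s, hsN⟩ * ⟨w, hwN⟩ * (⟨s, hsN⟩ : Nn)⁻¹ * (⟨w, hwN⟩ : Nn)⁻¹
          from rfl, mul_smul, mul_smul, mul_smul, hs', smul_inv_smul]
        exact htriv _
      rw [hsmul, eq_comm, hπeq] at htrivk
      obtain ⟨f, hf, hkx⟩ : ∃ f ∈ W a, k * x * k⁻¹ = x * f :=
        ⟨x⁻¹ * (k * x * k⁻¹), htrivk, by rw [mul_inv_cancel_left]⟩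
      have hiter : ∀ i : ℕ, k ^ i * x * (k ^ i)⁻¹ = x * f ^ i := by
        intro i
        induction i with
        | zero => simp
        | succ i ih =>
          have hkfi : k * f ^ i * k⁻¹ = f ^ i := by
            rw [((hkW f hf).pow_right i).eq, mul_inv_cancel_right]
          calc k ^ (i + 1) * x * (k ^ (i + 1))⁻¹ = k * (k ^ i * x * (k ^ i)⁻¹) * k⁻¹ := by
                rw [pow_succ']; group
            _ = k * x * k⁻¹ * (k * f ^ i * k⁻¹) := by rw [ih]; group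
            _ = x * f * f ^ i := by rw [hkfi, hkx]
            _ = x * f ^ (i + 1) := by rw [pow_succ', mul_assoc]
      have hfm : f ^ m = 1 := by
        have := hiter m
        rw [hkm, one_mul, inv_one, mul_one, left_eq_mul] at this
        exact this
      have hf1 : f = 1 := by
        obtain ⟨i, hi⟩ := hmodd
        rw [hi, pow_succ, pow_mul, pow_two, h.sq a f hf, one_pow, one_mul] at hfm
        exact hfm
      rw [hkx, hf1, mul_one]
    -- the homomorphism to `W a`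
    let φ : G → G := fun x => x⁻¹ * (s * x * s⁻¹)
    have hφw : ∀ x ∈ Q, φ (w * x * w⁻¹) = φ x := by
      intro x hx
      have hwx : w * x * w⁻¹ ∈ Q := hconjQ w hwN x hx
      have h1 : s * (w * x * w⁻¹) * s⁻¹ = k * (w * (s * x * s⁻¹) * w⁻¹) * k⁻¹ := by
        rw [hk]; group
      have h2 : w * (s * x * s⁻¹) * w⁻¹ = w * x * w⁻¹ * φ x := by
        have hwφ : w * φ x * w⁻¹ = φ x := by rw [(hwW _ (hsx x hx)).eq, mul_inv_cancel_right]
        calc w * (s * x * s⁻¹) * w⁻¹ = w * x * w⁻¹ * (w * φ x * w⁻¹) := by show _ = _; simp [φ, mul_assoc]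
          _ = w * x * w⁻¹ * φ x := by rw [hwφ]
      have h3 : s * (w * x * w⁻¹) * s⁻¹ = w * x * w⁻¹ * φ x := by
        rw [h1, h2, hkQ _ (mul_mem hwx (hWQ (hsx x hx)))]
      show (w * x * w⁻¹)⁻¹ * (s * (w * x * w⁻¹) * s⁻¹) = φ x
      rw [h3, inv_mul_cancel_left]
    have hφmul : ∀ x ∈ Q, ∀ y ∈ Q, φ (x * y) = φ x * φ y := by
      intro x hx y hy
      have hc : y⁻¹ * φ x * y = φ x := by
        rw [mul_assoc, ← (hQW y hy _ (hsx x hx)).eq, inv_mul_cancel_left]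
      calc φ (x * y) = y⁻¹ * φ x * y * φ y := by simp [φ, mul_assoc]
        _ = φ x * φ y := by rw [hc]
    let θ : Additive (Q ⧸ W') → Additive (Q ⧸ W') := fun y => (⟨w, hwN⟩ : Nn) • y - y
    have hθ : Function.Surjective θ := by
      refine Finite.surjective_of_injective fun y y' hyy => ?_
      have h0 : (⟨w, hwN⟩ : Nn) • (y - y') = y - y' := by
        rw [smul_sub, sub_eq_sub_iff_sub_eq_sub]; exact hyy
      obtain ⟨x, hx⟩ := hπ (y - y')
      rw [← hx, hsmul, eq_comm, hπeq] at h0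
      have hxW : (x : G) ∈ W a := hw.fpf x x.2 (by
        have hmem : w * x * w⁻¹ ∈ Q := hconjQ w hwN x x.2
        obtain ⟨f, hf, hfe⟩ : ∃ f ∈ W a, w * (x : G) * w⁻¹ = x * f :=
          ⟨_, h0, by rw [mul_inv_cancel_left]⟩
        rw [commutatorElement_def, hfe, (hQW x x.2 f hf).eq, mul_inv_cancel_right]
        exact hf)
      rw [← sub_eq_zero, ← hx, hπ0]
      exact hxW
    have hsQ : ∀ x ∈ Q, s * x * s⁻¹ = x := by
      intro x hx
      obtain ⟨y, hy⟩ := hθ (π ⟨x, hx⟩)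
      obtain ⟨⟨y, hyQ⟩, rfl⟩ := hπ y
      have hwy : w * y * w⁻¹ ∈ Q := hconjQ w hwN y hyQ
      have hy' : π ⟨w * y * w⁻¹, hwy⟩ = π ⟨x * y, mul_mem hx hyQ⟩ :=
        (sub_eq_iff_eq_add.1 hy).trans rfl
      obtain ⟨f, hf, hfe⟩ : ∃ f ∈ W a, x * y = w * y * w⁻¹ * f :=
        ⟨_, (hπeq _ _).1 hy', by rw [mul_inv_cancel_left]⟩
      have h1 := hφmul x hx y hyQ
      rw [hfe, hφmul _ hwy f (hWQ hf), hφw y hyQ, show φ f = 1 by
        show f⁻¹ * (s * f * s⁻¹) = 1
        rw [(hTW s hsT f hf).eq, mul_inv_cancel_right, inv_mul_cancel], mul_one] at h1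
      have h2 : x⁻¹ * (s * x * s⁻¹) = 1 := mul_eq_right.1 h1.symm
      exact (inv_mul_eq_one.1 h2).symm
    refine mem_subgroupOf.2 ((mem_fixingSubgroup_iff G).2 fun e he => ?_)
    have he' : v • e = e := he
    show s • e = e
    by_cases hea : e = a
    · rw [hea]; exact (hNn hsN).2.1
    obtain ⟨x, ⟨hxQ, hxe⟩, -⟩ := hQ.regular c hcp hca e (hpts.symm ▸ he') hea
    rw [← hxe, smul_smul, mul_inv_eq_iff_eq_mul.1 (hsQ x hxQ), mul_smul, hTc s hsT]
  -- apply the algebra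
  have hmain := CubeAlgebra.card_le_two_mul (N := Nn) (V := Additive (Q ⧸ W')) h2V hr2 hVcard J'
    (by rw [Nat.card_congr (Subgroup.subgroupOfEquivOfLe hJN).toEquiv, hJcard', hr])
    ?_ (fun i hi j hj y => ?_) (⟨w, hwN⟩ : Nn) (fun j hj y => ?_) ?_ T'
    (hT.comap_subtype) (fun s hs j hj y => ?_) (fun s hs y => ?_) K' hK
  · rw [Nat.card_congr (Subgroup.subgroupOfEquivOfLe hTN).toEquiv] at hmain
    refine hmain.trans (Nat.mul_le_mul_left 2 (le_of_eq ?_))
    rw [← Nat.card_congr (Subgroup.subgroupOfEquivOfLe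
      (show T ⊓ fixingSubgroup G (MulAction.fixedBy Ω v) ≤ Nn from inf_le_left.trans hTN)).toEquiv]
    rfl
  · -- no fixed vectors
    rintro ⟨j, hjN⟩ hj hj1 y hy
    obtain ⟨⟨x, hx⟩, rfl⟩ := hπ y
    rw [hsmul, eq_comm, hπeq] at hy
    have hjJ : j ∈ J := hj
    have hj1' : j ≠ 1 := fun e => hj1 (Subtype.ext e)
    obtain ⟨g, hg, hjx⟩ : ∃ g ∈ W a, j * x * j⁻¹ = x * g := ⟨_, hy, by rw [mul_inv_cancel_left]⟩
    let F : W a → W a := fun f => ⟨j * f * j⁻¹ * f, mul_mem (hconjW j hjN f f.2) f.2⟩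
    have hF : Function.Surjective F := by
      refine Finite.surjective_of_injective fun f f' hff => ?_
      by_contra hne
      have hf : (f : G) * f' ∈ W a := mul_mem f.2 f'.2
      refine hj1' (hJreg _ hf (fun e => hne (Subtype.ext ?_)) j hjJ ?_)
      · rw [mul_eq_one_iff_eq_inv.1 e, hWsq _ f'.2]
      · have h1 : j * (f : G) * j⁻¹ * f = j * f' * j⁻¹ * f' := congrArg Subtype.val hff
        have h2 : j * (f' : G) * j⁻¹ = j * f * j⁻¹ * (f * f') := by
          rw [← mul_assoc, h1, mul_assoc (j * (f' : G) * j⁻¹) (f' : G), h.sq a f' f'.2, mul_one]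
        refine mul_inv_eq_iff_eq_mul.1 ?_
        calc j * ((f : G) * f') * j⁻¹ = j * f * j⁻¹ * (j * f' * j⁻¹) := by group
          _ = (j * f * j⁻¹ * (j * f * j⁻¹)) * (f * f') := by rw [h2]; group
          _ = f * f' := by rw [h.sq a _ (hconjW j hjN f f.2), one_mul]
    obtain ⟨⟨f, hf⟩, hff⟩ := hF ⟨g, hg⟩
    have hff' : j * f * j⁻¹ * f = g := congrArg Subtype.val hff
    have hx0 : Commute j (x * f) := by
      refine mul_inv_eq_iff_eq_mul.1 ?_
      have hjf : j * f * j⁻¹ = g * f := by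
        rw [← hff', mul_assoc (j * f * j⁻¹), h.sq a f hf, mul_one]
      calc j * (x * f) * j⁻¹ = j * x * j⁻¹ * (j * f * j⁻¹) := by group
        _ = x * (g * g) * f := by rw [hjx, hjf]; group
        _ = x * f := by rw [h.sq a g hg, mul_one]
    have hx0Q : x * f ∈ Q := mul_mem hx (hWQ hf)
    have hfix : j • ((x * f) • c) = (x * f) • c := by
      rw [smul_smul, hx0.eq, mul_smul, (hNn hjN).2.2]
    rcases hJ.fix_two j hjJ hj1' _ (hpts.symm ▸ hQfix _ hx0Q) hfix with e | e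
    · exact absurd e (hQne _ hx0Q)
    · rw [hπ0]
      show x ∈ W a
      rw [mul_eq_one_iff_eq_inv.1 (hQreg _ hx0Q e)]
      exact inv_mem hf
  · rw [← mul_smul, ← mul_smul]
    exact congrArg (fun g : Nn => g • y) (Subtype.ext (hJcomm i hi j hj))
  · rw [← mul_smul, ← mul_smul]
    exact congrArg (fun g : Nn => g • y) (Subtype.ext (hNJ w hwN hwW j hj).eq)
  · -- irreducibility
    intro U hUw hUJ
    let U₀ : Subgroup G :=
      { carrier := {x | ∃ hx : x ∈ Q, π ⟨x, hx⟩ ∈ U}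
        one_mem' := ⟨one_mem _, by rw [(hπ0 _).2 (one_mem (W a))]; exact U.zero_mem⟩
        mul_mem' := fun ⟨hx, hx'⟩ ⟨hy, hy'⟩ => ⟨mul_mem hx hy, U.add_mem hx' hy'⟩
        inv_mem' := fun ⟨hx, hx'⟩ => ⟨inv_mem hx, U.neg_mem hx'⟩ }
    rcases hw.irred U₀ (fun x hx => ⟨hQ.inf_le hx, by
        rw [(hπ0 _).2 (mem_inf.1 hx).1]; exact U.zero_mem⟩) (fun x hx => hx.1)
      (fun x ⟨hx, hx'⟩ => ⟨hconjQ w hwN x hx, hUw _ hx'⟩)
      (fun j hj x ⟨hx, hx'⟩ => ⟨hconjQ j (hJN hj) x hx,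
        hUJ ⟨j, hJN hj⟩ (mem_subgroupOf.2 hj) _ hx'⟩) with e | e
    · left
      refine eq_bot_iff.2 fun y hy => ?_
      obtain ⟨⟨x, hx⟩, rfl⟩ := hπ y
      have hxU : x ∈ U₀ := ⟨hx, hy⟩
      rw [e] at hxU
      exact AddSubgroup.mem_bot.2 ((hπ0 _).2 (mem_inf.1 hxU).1)
    · right
      refine eq_top_iff.2 fun y _ => ?_
      obtain ⟨⟨x, hx⟩, rfl⟩ := hπ y
      have hxU : x ∈ U₀ := e.symm ▸ hx
      exact hxU.2
  · rw [← mul_smul, ← mul_smul]
    exact congrArg (fun g : Nn => g • y) (Subtype.ext (hNJ (s : G) s.2 (hTW s hs) j hj).eq)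
  · -- conjugates of the rotation commute with it on `V`
    have hp : (s : G) * w * (s : G)⁻¹ ∈ core W (centralizer {v}) :=
      hcoreconj s (hNn s.2).1 w hwcore
    have hpN := hNn (mul_mem (mul_mem s.2 hwN) (inv_mem s.2))
    have hpW : ∀ d ∈ W a ⊓ centralizer {v}, Commute ((s : G) * w * (s : G)⁻¹) d := fun d hd =>
      ((hTW s hs d (mem_inf.1 hd).1).mul_left (hw.central d hd)).mul_left
        (hTW s hs d (mem_inf.1 hd).1).inv_left
    have hA := hw.abelian _ hp hpN.2.1 hpN.2.2 hpW w hwcore hw.fix_a hw.fix_b hw.central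
    obtain ⟨⟨x, hx⟩, rfl⟩ := hπ y
    rw [← mul_smul, ← mul_smul]
    generalize hp' : (s : G) * w * (s : G)⁻¹ = p at hA
    have hz := hA _ (hconjQ _ (mul_mem hwN (hp' ▸ mul_mem (mul_mem s.2 hwN) (inv_mem s.2))) x hx)
    refine congrArg π (Subtype.ext ?_)
    show (s : G) * w * (s : G)⁻¹ * w * x * ((s : G) * w * (s : G)⁻¹ * w)⁻¹ =
      w * ((s : G) * w * (s : G)⁻¹) * x * (w * ((s : G) * w * (s : G)⁻¹))⁻¹
    rw [hp']
    calc p * w * x * (p * w)⁻¹ = ⁅p, w⁆ * (w * p * x * (w * p)⁻¹) * ⁅p, w⁆⁻¹ := by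
          rw [commutatorElement_def]; group
      _ = w * p * x * (w * p)⁻¹ := by rw [hz.eq, mul_inv_cancel_right]

end TISetting

end CfsgLib.LocalEven.TIEndgame
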