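import Cfsg.Agent.Lib.LocalEven.TIEndgame.Central.CubeLines
import Cfsg.Agent.Lib.LocalEven.TIEndgame.Central.CubeStab
import Cfsg.Agent.Lib.Fusion.Thompson
import Mathlib.GroupTheory.Sylow

/-!
# No centred configuration of unitary size

With `z` bad and `w` a rotation on its line, the translations `R` of `centralizer {w}` normalise the
translations `Q` of `z`.  Together with the 2-part of the pointwise stabiliser of the line they give a
2-group of order `q ^ 5 * 2 ^ e`, too large for the number of points.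
-/

set_option autoImplicit false
set_option linter.style.haveILetI false

open scoped commutatorElement Pointwise

namespace CfsgLib.LocalEven.TIEndgame

open MulAction Subgroup

universe u

variable {G Ω : Type u} [Group G] [Finite G] [Finite Ω] [MulAction G Ω] [FaithfulSMul G Ω]
  {W : Ω → Subgroup G}

/-- The elements of `cY W a z` fixing the line of `z` pointwise. -/
def lineKernel (W : Ω → Subgroup G) (a : Ω) (z : G) : Subgroup G :=
  cY W a z ⊓ fixingSubgroup G (fixedBy Ω z)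

/-- The group `R` normalises `Q` and centralises enough of it. -/
structure RotPair (W : Ω → Subgroup G) (a b : Ω) (z w : G) (Q R : Subgroup G) : Prop where
  Q_fix : ∀ x ∈ Q, x • a = a
  Q_z : ∀ x ∈ Q, Commute z x
  Q_W : ∀ x ∈ Q, ∀ d ∈ W a, Commute x d
  R_fix : ∀ y ∈ R, y • a = a
  R_w : ∀ y ∈ R, Commute w y
  R_W : ∀ y ∈ R, ∀ d ∈ W a, Commute y d
  R_z : ∀ y ∈ R, Commute z y → y ∈ W a
  normal : ∀ y ∈ R, ∀ x ∈ Q, y * x * y⁻¹ ∈ Q

namespace CubeSetting

variable {q : ℕ} (S : CubeSetting W q)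
include S

theorem exists_rotPair {z : G} {a b : Ω} {Q J : Subgroup G} {w : G} (hz : IsBad Ω z)
    (hza : z • a = a) (hzb : z • b = b) (hba : b ≠ a) (hQ : Loc W (centralizer {z}) a Q)
    (hJ : Torus W (centralizer {z}) a b Q J) (hw : Rot W (centralizer {z}) a b Q J w)
    (hQc : Nat.card Q = q ^ 3) :
    ∃ R : Subgroup G, Nat.card R = q ^ 3 ∧ b ∈ pts W (centralizer {w}) ∧
      Loc W (centralizer {w}) a R ∧ RotPair W a b z w Q R := by
  classical
  haveI : Fact (Nat.Prime 2) := ⟨Nat.prime_two⟩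
  obtain ⟨hbX, R, hR, hRc⟩ := S.exists_loc_rot hz hza hzb hba hJ hw
  have hinf := S.inf_eq hz hza
  have hzz : z * z = 1 := by rw [← pow_two, ← hz.1, pow_orderOf_eq_one]
  have hzi : z⁻¹ = z := inv_eq_of_mul_eq_one_right hzz
  have hp := S.setting.pts_centralizer (z := z) hz.1
  have hwz : Commute w z := mem_centralizer_singleton_iff.1 (core_le W _ hw.mem)
  have hwW : ∀ d ∈ W a, Commute w d := fun d hd => hw.central d (by rw [hinf]; exact hd)
  have hinfw : W a ⊓ centralizer {w} = W a :=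
    inf_eq_left.2 fun d hd => mem_centralizer_singleton_iff.2 (hwW d hd).eq.symm
  have hWQ : W a ≤ Q := hinf ▸ hQ.inf_le
  have hWR : W a ≤ R := hinfw ▸ hR.inf_le
  have hWa : ∀ d ∈ W a, d • a = a := fun d hd => mem_stabilizer_iff.1 (S.setting.fix a hd)
  have hQa : ∀ x ∈ Q, x • a = a := fun x hx => (hQ.le hx).2
  have hQz : ∀ x ∈ Q, Commute z x := fun x hx =>
    (mem_centralizer_singleton_iff.1 (core_le W _ (hQ.le hx).1) : x * z = z * x).symm
  have hQW : ∀ x ∈ Q, ∀ d ∈ W a, Commute x d := fun x hx d hd =>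
    hQ.central x hx d (by rw [hinf]; exact hd)
  have hRa : ∀ y ∈ R, y • a = a := fun y hy => (hR.le hy).2
  have hRw : ∀ y ∈ R, Commute w y := fun y hy =>
    (mem_centralizer_singleton_iff.1 (core_le W _ (hR.le hy).1) : y * w = w * y).symm
  have hRW : ∀ y ∈ R, ∀ d ∈ W a, Commute y d := fun y hy d hd =>
    hR.central y hy d (by rw [hinfw]; exact hd)
  -- an element of `R` commuting with `z` is a member
  have hRz : ∀ y ∈ R, Commute z y → y ∈ W a := by
    intro y hy hc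
    have hyb : z • y • b = y • b := by rw [smul_smul, hc.eq, mul_smul, hzb]
    have hne : y • b ≠ a := fun e => hba (MulAction.injective y (e.trans (hRa y hy).symm))
    obtain ⟨x, ⟨hx, hxb⟩, hxu⟩ := hQ.regular b (hp.symm ▸ hzb) hba (y • b) (hp.symm ▸ hyb) hne
    have hconj : w * x * w⁻¹ = x := by
      refine hxu _ ⟨hQ.normal w (core_le W _ hw.mem) hw.fix_a x hx, ?_⟩
      rw [mul_smul, mul_smul, inv_smul_eq_iff.2 hw.fix_b.symm, hxb, smul_smul, (hRw y hy).eq, mul_smul,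
        hw.fix_b]
    have hxW : x ∈ W a := hw.fpf x hx (by
      rw [commutatorElement_def, hconj, mul_inv_cancel]; exact one_mem _)
    obtain ⟨g, -, hgu⟩ := hR.regular b hbX hba (y • b)
      (S.setting.smul_mem_pts (core_le W _ (hR.le hy).1) hbX) hne
    rw [hgu y ⟨hy, rfl⟩, ← hgu x ⟨hWR hxW, hxb⟩]
    exact hxW
  -- `Q` consists of commutators with `w`
  have hsurj : ∀ x ∈ Q, ∃ x' ∈ Q, ∃ f ∈ W a, x = ⁅w, x'⁆ * f := by
    let W' : Subgroup Q := (W a).subgroupOf Q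
    have hmem : ∀ x ∈ Q, ⁅w, x⁆ ∈ Q := fun x hx =>
      mul_mem (hQ.normal w (core_le W _ hw.mem) hw.fix_a x hx) (inv_mem hx)
    have hmul : ∀ x ∈ Q, ∀ u : G, ⁅w, x * u⁆ = ⁅w, x⁆ * (x * ⁅w, u⁆ * x⁻¹) := fun x _ u => by
      simp only [commutatorElement_def]; group
    let Φ : Q ⧸ W' → Q ⧸ W' := Quotient.lift
      (fun x : Q => QuotientGroup.mk (⟨⁅w, (x : G)⁆, hmem _ x.2⟩ : Q)) (by
        intro x y hxy
        have hxy' : (x : G)⁻¹ * y ∈ W a :=
          (QuotientGroup.leftRel_apply.1 hxy : x⁻¹ * y ∈ W')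
        refine congrArg QuotientGroup.mk (Subtype.ext ?_)
        have e : ⁅w, (y : G)⁆ = ⁅w, (x : G) * ((x : G)⁻¹ * y)⁆ := by rw [mul_inv_cancel_left]
        show ⁅w, (x : G)⁆ = ⁅w, (y : G)⁆
        rw [e, hmul _ x.2, commutatorElement_eq_one_iff_commute.2 (hwW _ hxy'), mul_one,
          mul_inv_cancel, mul_one])
    have hΦ : Function.Surjective Φ := by
      refine Finite.injective_iff_surjective.1 fun X Y h => ?_
      induction X using QuotientGroup.induction_on with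
      | H x =>
      induction Y using QuotientGroup.induction_on with
      | H y =>
      have h' : ⁅w, (x : G)⁆⁻¹ * ⁅w, (y : G)⁆ ∈ W a :=
        (QuotientGroup.eq.1 h : (_ : Q)⁻¹ * _ ∈ W')
      rw [show ⁅w, (y : G)⁆ = ⁅w, (x : G) * ((x : G)⁻¹ * y)⁆ by rw [mul_inv_cancel_left],
        hmul _ x.2, inv_mul_cancel_left] at h'
      have hconj : ⁅w, (x : G)⁻¹ * y⁆ ∈ W a := by
        have h2 := (hQW (x : G) x.2 _ h').eq
        have h3 : ⁅w, (x : G)⁻¹ * y⁆ = (x : G)⁻¹ * ((x : G) * ⁅w, (x : G)⁻¹ * y⁆ * (x : G)⁻¹) * x := by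
          group
        rw [h3, mul_assoc, ← h2, inv_mul_cancel_left]
        exact h'
      exact QuotientGroup.eq.2 (show x⁻¹ * y ∈ W' from
        hw.fpf _ (mul_mem (inv_mem x.2) y.2) hconj)
    intro x hx
    obtain ⟨X, hX⟩ := hΦ (QuotientGroup.mk (⟨x, hx⟩ : Q))
    induction X using QuotientGroup.induction_on with
    | H x' =>
    have h' : ⁅w, (x' : G)⁆⁻¹ * x ∈ W a := (QuotientGroup.eq.1 hX : (_ : Q)⁻¹ * _ ∈ W')
    exact ⟨x', x'.2, _, h', (mul_inv_cancel_left _ _).symm⟩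
  -- when a conjugate of `Q` is `Q`
  have hnorm : ∀ y : G, y • a = a → Commute w y → (∀ d ∈ W a, Commute y d) →
      (∀ x ∈ Q, Commute z (y * x * y⁻¹)) → ∀ x ∈ Q, y * x * y⁻¹ ∈ Q := by
    intro y hya hyw hyW hyz x hx
    obtain ⟨x', hx', f, hf, rfl⟩ := hsurj x hx
    rw [show y * (⁅w, x'⁆ * f) * y⁻¹ = (y * ⁅w, x'⁆ * y⁻¹) * (y * f * y⁻¹) by group,
      show y * f * y⁻¹ = f by rw [(hyW f hf).eq, mul_inv_cancel_right]]
    refine mul_mem ?_ (hWQ hf)
    have e : y * ⁅w, x'⁆ * y⁻¹ = w * ((y * x' * y⁻¹) * w⁻¹ * (y * x' * y⁻¹)⁻¹) := by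
      calc y * ⁅w, x'⁆ * y⁻¹ = (y * w) * x' * w⁻¹ * x'⁻¹ * y⁻¹ := by
            rw [commutatorElement_def]; group
        _ = w * (y * x' * y⁻¹) * (y * w⁻¹ * y⁻¹) * (y * x' * y⁻¹)⁻¹ := by rw [← hyw.eq]; group
        _ = _ := by rw [← (hyw.inv_left).eq]; group
    have hcore : y * ⁅w, x'⁆ * y⁻¹ ∈ core W (centralizer {z}) := by
      rw [e]
      exact mul_mem hw.mem (S.setting.core_conj_mem
        (mem_centralizer_singleton_iff.2 (hyz x' hx').eq.symm) (inv_mem hw.mem))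
    have hfix : (y * ⁅w, x'⁆ * y⁻¹) • a = a := by
      have h1 : ⁅w, x'⁆ • a = a := hQa _ (mul_mem (hQ.normal w (core_le W _ hw.mem) hw.fix_a x' hx')
        (inv_mem hx'))
      rw [mul_smul, mul_smul, inv_smul_eq_iff.2 hya.symm, h1, hya]
    refine hQ.mem_of_two _ hcore hfix ?_
    obtain ⟨k, hk⟩ := hQ.pgroup ⟨⁅w, x'⁆, mul_mem (hQ.normal w (core_le W _ hw.mem) hw.fix_a x' hx')
      (inv_mem hx')⟩
    refine ⟨k, ?_⟩
    have hk' : ⁅w, x'⁆ ^ 2 ^ k = 1 := congrArg Subtype.val hk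
    rw [conj_pow, hk', mul_one, mul_inv_cancel]
  have hcond : ∀ y : G, (∀ x ∈ Q, Commute x ⁅z, y⁻¹⁆) → ∀ x ∈ Q, Commute z (y * x * y⁻¹) := by
    intro y hy x hx
    have e : z = y * (z * ⁅z, y⁻¹⁆) * y⁻¹ := by
      rw [commutatorElement_def, hzi, inv_inv, show z * (z * y⁻¹ * z * y) = (z * z) * y⁻¹ * z * y by
        group, hzz]
      group
    have h := ((hQz x hx).symm.mul_right (hy x hx)).symm
    rw [e]
    show y * (z * ⁅z, y⁻¹⁆) * y⁻¹ * (y * x * y⁻¹) = y * x * y⁻¹ * (y * (z * ⁅z, y⁻¹⁆) * y⁻¹)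
    calc y * (z * ⁅z, y⁻¹⁆) * y⁻¹ * (y * x * y⁻¹) = y * ((z * ⁅z, y⁻¹⁆) * x) * y⁻¹ := by group
      _ = y * (x * (z * ⁅z, y⁻¹⁆)) * y⁻¹ := by rw [h.eq]
      _ = _ := by group
  -- the part of `R` moving `z` within `z * W a`
  have hzR : ∀ y ∈ R, z * y * z⁻¹ ∈ R :=
    fun y hy => hR.normal z (mem_centralizer_singleton_iff.2 hwz.eq.symm) hza y hy
  let E : Subgroup G :=
    { carrier := {y | y ∈ R ∧ ⁅z, y⁆ ∈ W a}
      one_mem' := ⟨one_mem _, by rw [commutatorElement_one_right]; exact one_mem _⟩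
      mul_mem' := fun {x y} hx hy => ⟨mul_mem hx.1 hy.1, by
        rw [show ⁅z, x * y⁆ = ⁅z, x⁆ * (x * ⁅z, y⁆ * x⁻¹) by simp only [commutatorElement_def]; group,
          (hRW x hx.1 _ hy.2).eq, mul_inv_cancel_right]
        exact mul_mem hx.2 hy.2⟩
      inv_mem' := fun {x} hx => ⟨inv_mem hx.1, by
        rw [show ⁅z, x⁻¹⁆ = x⁻¹ * ⁅z, x⁆⁻¹ * x by simp only [commutatorElement_def]; group,
          (hRW x⁻¹ (inv_mem hx.1) _ (inv_mem hx.2)).eq, inv_mul_cancel_right]
        exact inv_mem hx.2⟩ }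
  have hcommE : ∀ y ∈ R, ⁅z, y⁆ ∈ E := by
    intro y hy
    have hu : ⁅z, y⁆ ∈ R := mul_mem (hzR y hy) (inv_mem hy)
    refine ⟨hu, ?_⟩
    have e : ⁅z, ⁅z, y⁆⁆ = (⁅z, y⁆ * ⁅z, y⁆)⁻¹ := by
      rw [commutatorElement_def z ⁅z, y⁆, commutatorElement_def, hzi,
        show z * (z * y * z * y⁻¹) * z = (z * z) * y * z * y⁻¹ * z by group, hzz, mul_inv_rev]
      simp only [mul_inv_rev, hzi, inv_inv]
      group
    rw [e]
    exact inv_mem (hR.sq_mem _ hu)
  have hE1 : ∀ y ∈ E, ∀ x ∈ Q, y * x * y⁻¹ ∈ Q := fun y hy =>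
    hnorm y (hRa y hy.1) (hRw y hy.1) (hRW y hy.1)
      (hcond y fun x hx => hQW x hx _ (inv_mem hy : y⁻¹ ∈ E).2)
  -- `E` acts trivially on `Q / W a`
  have hE2 : ∀ y ∈ E, ∀ x ∈ Q, ⁅y, x⁆ ∈ W a := by
    let U : Subgroup G :=
      { carrier := {x | x ∈ Q ∧ ∀ y ∈ E, ⁅y, x⁆ ∈ W a}
        one_mem' := ⟨one_mem _, fun y _ => by rw [commutatorElement_one_right]; exact one_mem _⟩
        mul_mem' := fun {x x'} hx hx' => ⟨mul_mem hx.1 hx'.1, fun y hy => by
          rw [show ⁅y, x * x'⁆ = ⁅y, x⁆ * (x * ⁅y, x'⁆ * x⁻¹) by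
              simp only [commutatorElement_def]; group,
            (hQW x hx.1 _ (hx'.2 y hy)).eq, mul_inv_cancel_right]
          exact mul_mem (hx.2 y hy) (hx'.2 y hy)⟩
        inv_mem' := fun {x} hx => ⟨inv_mem hx.1, fun y hy => by
          rw [show ⁅y, x⁻¹⁆ = x⁻¹ * ⁅y, x⁆⁻¹ * x by simp only [commutatorElement_def]; group,
            (hQW x⁻¹ (inv_mem hx.1) _ (inv_mem (hx.2 y hy))).eq, inv_mul_cancel_right]
          exact inv_mem (hx.2 y hy)⟩ }
    have hWU : W a ≤ U := fun d hd => ⟨hWQ hd, fun y hy => by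
      rw [commutatorElement_eq_one_iff_commute.2 (hRW y hy.1 d hd)]; exact one_mem _⟩
    have hinv : ∀ g : G, Commute g z → Commute g w → g • a = a → ∀ x ∈ U, g * x * g⁻¹ ∈ U := by
      intro g hgz hgw hga x hx
      refine ⟨hQ.normal g (mem_centralizer_singleton_iff.2 hgz.eq) hga x hx.1, fun y hy => ?_⟩
      have hga' : g⁻¹ • a = a := inv_smul_eq_iff.2 hga.symm
      have hy' : g⁻¹ * y * g ∈ E := by
        refine ⟨?_, ?_⟩
        · have := hR.normal g⁻¹ (inv_mem (mem_centralizer_singleton_iff.2 hgw.eq)) hga' y hy.1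
          rwa [inv_inv] at this
        · have h1 := S.setting.conj g⁻¹ a _ hy.2
          rw [hga', inv_inv] at h1
          convert h1 using 1
          have hzg : g⁻¹ * z * g = z := by rw [mul_assoc, ← hgz.eq, inv_mul_cancel_left]
          calc ⁅z, g⁻¹ * y * g⁆ = ⁅g⁻¹ * z * g, g⁻¹ * y * g⁆ := by rw [hzg]
            _ = _ := by simp only [commutatorElement_def]; group
      have h1 := S.setting.conj g a _ (hx.2 _ hy')
      rw [hga] at h1
      convert h1 using 1
      simp only [commutatorElement_def]; group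
    have hUQ : U ≤ Q := fun x hx => hx.1
    have hne : U ≠ W a := by
      intro hU
      let W' : Subgroup Q := (W a).subgroupOf Q
      haveI : W'.Normal := ⟨fun x hx g => by
        show (g : G) * (x : G) * (g : G)⁻¹ ∈ W a
        have hx' : (x : G) ∈ W a := hx
        rw [(hQW g g.2 _ hx').eq, mul_inv_cancel_right]
        exact hx⟩
      let cj : E → (Q →* Q) := fun y =>
        { toFun := fun x => ⟨(y : G) * x * (y : G)⁻¹, hE1 y y.2 x x.2⟩
          map_one' := Subtype.ext (by simp)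
          map_mul' := fun x x' => Subtype.ext (by simp) }
      have hcj : ∀ y : E, W' ≤ W'.comap (cj y) := fun y x hx => by
        show (y : G) * x * (y : G)⁻¹ ∈ W a
        have hx' : (x : G) ∈ W a := hx
        rw [(hRW y y.2.1 _ hx').eq, mul_inv_cancel_right]
        exact hx
      let act : MulAction E (Q ⧸ W') :=
        { smul := fun y => QuotientGroup.map W' W' (cj y) (hcj y)
          one_smul := fun X => by
            induction X using QuotientGroup.induction_on with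
            | H x =>
              exact congrArg QuotientGroup.mk (Subtype.ext (by simp [cj]) : cj 1 x = x)
          mul_smul := fun y y' X => by
            induction X using QuotientGroup.induction_on with
            | H x =>
              exact congrArg QuotientGroup.mk
                (Subtype.ext (by simp [cj, mul_assoc]) : cj (y * y') x = cj y (cj y' x)) }
      have hEP : IsPGroup 2 E := hR.pgroup.to_le fun y hy => hy.1
      have hcard : Nat.card (Q ⧸ W') = q ^ 2 := by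
        have h1 := W'.card_eq_card_quotient_mul_card_subgroup
        rw [hQc, Nat.card_congr (Subgroup.subgroupOfEquivOfLe hWQ).toEquiv, S.cfg.card_W] at h1
        refine Nat.eq_of_mul_eq_mul_right (show 0 < q by have := S.cfg.four; omega) ?_
        rw [← h1]; ring
      obtain ⟨r, -, hqr, hr⟩ := S.two_pow a
      have hdvd : 2 ∣ Nat.card (Q ⧸ W') := by
        rw [hcard, hqr, ← pow_mul]; exact dvd_pow_self 2 (by omega)
      have h0 : (QuotientGroup.mk (1 : Q) : Q ⧸ W') ∈ @fixedPoints E (Q ⧸ W') _ act := fun y =>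
        congrArg QuotientGroup.mk (map_one (cj y))
      obtain ⟨X, hX, hX1⟩ := @IsPGroup.exists_fixed_point_of_prime_dvd_card_of_fixed_point 2 E _ hEP _
        (Q ⧸ W') act _ hdvd _ h0
      induction X using QuotientGroup.induction_on with
      | H x =>
      have hxW : (x : G) ∈ W a := by
        rw [← hU]
        refine ⟨x.2, fun y hy => ?_⟩
        have h1 : ((y : G) * x * (y : G)⁻¹)⁻¹ * (x : G) ∈ W a :=
          (QuotientGroup.eq.1 (hX ⟨y, hy⟩) : (_ : Q)⁻¹ * _ ∈ W')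
        have h2 : ⁅y, (x : G)⁆ = (x : G) * (((y : G) * x * (y : G)⁻¹)⁻¹ * (x : G))⁻¹ * (x : G)⁻¹ := by
          simp only [commutatorElement_def]; group
        rw [h2, (hQW _ x.2 _ (inv_mem h1)).eq, mul_inv_cancel_right]
        exact inv_mem h1
      exact hX1 (QuotientGroup.eq.2 (show (1 : Q)⁻¹ * x ∈ W' by simpa [W', mem_subgroupOf] using hxW))
    have hJw : ∀ j ∈ J, Commute j w := by
      intro j hj
      have hjH : j ∈ centralizer {z} := core_le W _ (hJ.le hj).1.1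
      have hk : w * j * w⁻¹ * j⁻¹ ∈ J :=
        mul_mem (hJ.normal w (core_le W _ hw.mem) hw.fix_a hw.fix_b j hj) (inv_mem hj)
      obtain ⟨f, hf, hf1⟩ : ∃ f ∈ W a, f ≠ 1 := (W a).bot_or_exists_ne_one.resolve_left
        (S.setting.ne_bot a)
      have hkf : ∀ d ∈ W a, Commute (w * j * w⁻¹ * j⁻¹) d := by
        intro d hd
        have hja : j • a = a := (hJ.le hj).1.2
        have hd' : j⁻¹ * d * j ∈ W a := by
          have h1 := S.setting.conj j⁻¹ a d hd
          rwa [inv_smul_eq_iff.2 hja.symm, inv_inv] at h1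
        have e1 : w * j * w⁻¹ * j⁻¹ * d = w * j * (w⁻¹ * (j⁻¹ * d * j)) * j⁻¹ := by group
        show w * j * w⁻¹ * j⁻¹ * d = d * (w * j * w⁻¹ * j⁻¹)
        rw [e1, ((hwW _ hd').inv_left).eq]
        calc w * j * (j⁻¹ * d * j * w⁻¹) * j⁻¹ = (w * d) * j * w⁻¹ * j⁻¹ := by group
          _ = _ := by rw [(hwW d hd).eq]; group
      have hinjJ : Function.Bijective fun i : J => (⟨(i : G) * f * (i : G)⁻¹, by
          have h1 := S.setting.conj i a f hf
          rw [mem_stabilizer_iff.1 (hJ.le i.2).1.2] at h1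
          exact ⟨h1, fun e => hf1 (conj_eq_one_iff.1 e)⟩⟩ : {d : G // d ∈ W a ∧ d ≠ 1}) := by
        refine (Nat.bijective_iff_surjective_and_card _).2 ⟨fun d => ?_, ?_⟩
        · obtain ⟨i, hi, e⟩ := hJ.trans f (by rw [hinf]; exact hf) hf1 d.1
            (by rw [hinf]; exact d.2.1) d.2.2
          exact ⟨⟨i, hi⟩, Subtype.ext e⟩
        · haveI : Fintype G := Fintype.ofFinite G
          have h1 := hJ.card
          rw [hinf] at h1
          rw [Nat.card_eq_fintype_card (α := {d : G // d ∈ W a ∧ d ≠ 1}), Fintype.card_subtype,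
            show (Finset.univ.filter fun d : G => d ∈ W a ∧ d ≠ 1) =
              (Finset.univ.filter fun d : G => d ∈ W a).erase 1 by ext d; simp [and_comm],
            Finset.card_erase_of_mem (by simp [one_mem]), ← Fintype.card_subtype,
            ← Nat.card_eq_fintype_card]
          omega
      have h1 := hinjJ.1 (a₁ := ⟨_, hk⟩) (a₂ := 1) (Subtype.ext (by
        show w * j * w⁻¹ * j⁻¹ * f * (w * j * w⁻¹ * j⁻¹)⁻¹ = 1 * f * 1⁻¹
        rw [(hkf f hf).eq, mul_inv_cancel_right]; group))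
      have h2 : w * j * w⁻¹ * j⁻¹ = 1 := congrArg Subtype.val h1
      rw [mul_inv_eq_one, mul_inv_eq_iff_eq_mul] at h2
      exact h2.symm
    rcases hw.irred U (by rw [hinf]; exact hWU) hUQ (hinv w hwz (Commute.refl w) hw.fix_a)
      (fun j hj => hinv j
        (mem_centralizer_singleton_iff.1 (core_le W _ (hJ.le hj).1.1))
        (hJw j hj) (mem_stabilizer_iff.1 (hJ.le hj).1.2)) with e | e
    · rw [hinf] at e
      exact absurd e hne
    · intro y hy x hx
      rw [← e] at hx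
      exact hx.2 y hy
  -- so `E` centralises `Q`
  have hE3 : ∀ y ∈ E, ∀ x ∈ Q, Commute y x := by
    intro y hy x hx
    obtain ⟨x', hx', f, hf, rfl⟩ := hsurj x hx
    refine Commute.mul_right ?_ (hRW y hy.1 f hf)
    have hwx' : w * x' * w⁻¹ ∈ Q := hQ.normal w (core_le W _ hw.mem) hw.fix_a x' hx'
    have hc : ⁅w, x'⁆ ∈ Q := mul_mem hwx' (inv_mem hx')
    have e1 : ⁅y, w * x' * w⁻¹⁆ = ⁅y, x'⁆ := by
      have hyc : w * y * w⁻¹ = y := by rw [(hRw y hy.1).eq, mul_inv_cancel_right]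
      calc ⁅y, w * x' * w⁻¹⁆ = ⁅w * y * w⁻¹, w * x' * w⁻¹⁆ := by rw [hyc]
        _ = w * ⁅y, x'⁆ * w⁻¹ := by simp only [commutatorElement_def]; group
        _ = ⁅y, x'⁆ := by rw [(hwW _ (hE2 y hy x' hx')).eq, mul_inv_cancel_right]
    have e2 : ⁅y, w * x' * w⁻¹⁆ = ⁅y, ⁅w, x'⁆⁆ * ⁅y, x'⁆ := by
      calc ⁅y, w * x' * w⁻¹⁆ = ⁅y, ⁅w, x'⁆ * x'⁆ := by
            rw [commutatorElement_def w x', inv_mul_cancel_right]
        _ = ⁅y, ⁅w, x'⁆⁆ * (⁅w, x'⁆ * ⁅y, x'⁆ * ⁅w, x'⁆⁻¹) := by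
            simp only [commutatorElement_def]; group
        _ = _ := by rw [(hQW _ hc _ (hE2 y hy x' hx')).eq, mul_inv_cancel_right]
    exact commutatorElement_eq_one_iff_commute.1 (mul_eq_right.1 (e2.symm.trans e1))
  refine ⟨R, hRc, hbX, hR, hQa, hQz, hQW, hRa, hRw, hRW, hRz, fun y hy => ?_⟩
  exact hnorm y (hRa y hy) (hRw y hy) (hRW y hy)
    (hcond y fun x hx => (hE3 _ (hcommE y⁻¹ (inv_mem hy)) x hx).symm)

theorem absurd_of_bad {x₀ : G} (hx₀ : IsBad Ω x₀) : False := by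
  classical
  haveI : Fact (Nat.Prime 2) := ⟨Nat.prime_two⟩
  haveI : Fintype Ω := Fintype.ofFinite _
  obtain ⟨-, a, -, -, hxa, -⟩ := id hx₀
  -- `z` with the largest kernel
  haveI : Nonempty {v : G // IsBad Ω v ∧ v • a = a} := ⟨⟨x₀, hx₀, hxa⟩⟩
  obtain ⟨⟨z, hz, hza⟩, hmax⟩ := Finite.exists_max fun v : {v : G // IsBad Ω v ∧ v • a = a} =>
    (Nat.card (lineKernel W a (v : G))).factorization 2
  obtain ⟨b, hba, hzb⟩ : ∃ b, b ≠ a ∧ z • b = b := by
    obtain ⟨-, c, d, hcd, hc, hd⟩ := hz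
    by_cases h : c = a
    · exact ⟨d, fun e => hcd (h.trans e.symm), hd⟩
    · exact ⟨c, h, hc⟩
  obtain ⟨Q, J, w, hQ, hJ, hw, hQc⟩ := S.exists_line hz hza hzb hba
  obtain ⟨R, hRc, hbX, hR, hP⟩ := S.exists_rotPair hz hza hzb hba hQ hJ hw hQc
  have hp := S.setting.pts_centralizer (z := z) hz.1
  obtain ⟨r, -, hqr, hr⟩ := S.two_pow a
  set e := (Nat.card (lineKernel W a z)).factorization 2 with he
  obtain ⟨T₀⟩ : Nonempty (Sylow 2 (lineKernel W a z)) := inferInstance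
  set K := ((T₀ : Subgroup (lineKernel W a z)).map (lineKernel W a z).subtype) with hK
  have hKle : K ≤ lineKernel W a z := map_subtype_le _
  have hKc : Nat.card K = 2 ^ e := by
    rw [hK, card_subtype, he]; exact T₀.card_eq_multiplicity
  have hKfix : ∀ g ∈ K, g • a = a ∧ Commute g z ∧ (∀ d ∈ W a, Commute g d) ∧
      ∀ c ∈ pts W (centralizer {z}), g • c = c := by
    intro g hg
    obtain ⟨⟨⟨hga, hgW⟩, hgz⟩, hgF⟩ := hKle hg
    refine ⟨hga, mem_centralizer_singleton_iff.1 hgz, fun d hd => ((mem_centralizer_iff.1 hgW) d hd).symm,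
      fun c hc => ?_⟩
    rw [hp] at hc
    exact (mem_fixingSubgroup_iff G).1 hgF c hc
  have hKw : ∀ g ∈ K, Commute g w := fun g hg =>
    S.setting.commute_core_of_fix_pts (hp.symm ▸ hza) (hp.symm ▸ hzb) hba.symm (hKfix g hg).2.2.2 hw.mem
  have hmk : ∀ (H N : Subgroup G), (∀ g ∈ H, ∀ x ∈ N, g * x * g⁻¹ ∈ N) →
      H ≤ normalizer (N : Set G) := by
    intro H N hH g hg
    refine mem_normalizer_iff.2 fun x => ⟨hH g hg x, fun hx => ?_⟩
    have := hH g⁻¹ (inv_mem hg) _ hx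
    simpa [mul_assoc] using this
  have hKR : K ≤ normalizer (R : Set G) := hmk _ _ fun g hg x hx =>
    hR.normal g (mem_centralizer_singleton_iff.2 (hKw g hg).eq) (hKfix g hg).1 x hx
  have hSQ : R ⊔ K ≤ normalizer (Q : Set G) := sup_le (hmk _ _ hP.normal)
    (hmk _ _ fun g hg x hx =>
      hQ.normal g (mem_centralizer_singleton_iff.2 (hKfix g hg).2.1.eq) (hKfix g hg).1 x hx)
  have hWaQ : W a ≤ Q := S.inf_eq hz hza ▸ hQ.inf_le
  have hQb : ∀ g ∈ Q, g • b = b → g = 1 := fun g hg hgb => by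
    obtain ⟨g₀, -, hu⟩ := hQ.regular b (hp.symm ▸ hzb) hba b (hp.symm ▸ hzb) hba
    rw [hu g ⟨hg, hgb⟩, hu 1 ⟨one_mem _, one_smul _ _⟩]
  have hRb : ∀ g ∈ R, g • b = b → g = 1 := fun g hg hgb => by
    obtain ⟨g₀, -, hu⟩ := hR.regular b hbX hba b hbX hba
    rw [hu g ⟨hg, hgb⟩, hu 1 ⟨one_mem _, one_smul _ _⟩]
  have hRK : Nat.card ↥(R ⊔ K) = q ^ 3 * 2 ^ e := by
    have h1 := CfsgLib.Fusion.Thompson.card_sup_mul_card_inf hKR
    rw [show R ⊓ K = ⊥ from (Subgroup.eq_bot_iff_forall _).2 fun g hg =>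
      hRb g hg.1 ((hKfix g hg.2).2.2.2 b (hp.symm ▸ hzb)), card_bot, mul_one, hRc, hKc] at h1
    exact h1
  have hint : Q ⊓ (R ⊔ K) ≤ W a := by
    rintro x ⟨hxQ, hx⟩
    have hx' : x ∈ (R : Set G) * (K : Set G) := by
      rw [← coe_mul_of_right_le_normalizer_left R K hKR]; exact hx
    obtain ⟨y, hy, k, hk, rfl⟩ := hx'
    have hyz : Commute z y := by
      have := (hP.Q_z _ hxQ).mul_right ((hKfix k hk).2.1.symm.inv_right)
      rwa [mul_inv_cancel_right] at this
    have hyW := hP.R_z y hy hyz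
    have hk1 : k = 1 := hQb k (by simpa using mul_mem (inv_mem (hWaQ hyW)) hxQ)
      ((hKfix k hk).2.2.2 b (hp.symm ▸ hzb))
    show y * k ∈ W a
    rw [hk1, mul_one]
    exact hyW
  set P := Q ⊔ (R ⊔ K) with hPdef
  have hmulP := CfsgLib.Fusion.Thompson.card_sup_mul_card_inf hSQ
  rw [← hPdef, hQc, hRK] at hmulP
  obtain ⟨m, hm⟩ : ∃ m, Nat.card P = 2 ^ m := by
    have hdvd : Nat.card P ∣ 2 ^ (6 * r + e) := ⟨Nat.card ↥(Q ⊓ (R ⊔ K)), by
      rw [hmulP, hqr]; ring⟩
    obtain ⟨m, -, hm⟩ := (Nat.dvd_prime_pow Nat.prime_two).1 hdvd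
    exact ⟨m, hm⟩
  have hPbig : q ^ 5 * 2 ^ e ≤ Nat.card P := by
    refine Nat.le_of_mul_le_mul_right ?_ (show 0 < q by have := S.cfg.four; omega)
    calc q ^ 5 * 2 ^ e * q = Nat.card P * Nat.card ↥(Q ⊓ (R ⊔ K)) := by rw [hmulP]; ring
      _ ≤ Nat.card P * q := Nat.mul_le_mul_left _ (by
        rw [← S.cfg.card_W a]; exact Subgroup.card_le_of_le hint)
  have hPY : P ≤ cW W a := by
    refine sup_le (fun g hg => ⟨hP.Q_fix g hg, mem_centralizer_iff.2 fun d hd =>
      (hP.Q_W g hg d hd).eq.symm⟩) (sup_le (fun g hg => ⟨hP.R_fix g hg, mem_centralizer_iff.2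
      fun d hd => (hP.R_W g hg d hd).eq.symm⟩) fun g hg => (hKle hg).1.1)
  -- an orbit of length at most `q ^ 4`
  let X := {c : Ω // c ≠ a}
  let act : MulAction P X :=
    { smul := fun g c => ⟨(g : G) • (c : Ω), fun h =>
        c.2 (MulAction.injective (g : G) (h.trans (hPY g.2).1.symm))⟩
      one_smul := fun c => Subtype.ext (one_smul G (c : Ω))
      mul_smul := fun g g' c => Subtype.ext (mul_smul (g : G) g' (c : Ω)) }
  have hXc : Nat.card X = q ^ 4 * (q ^ 2 * (q - 1) + 1) := by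
    rw [show Nat.card X = Nat.card Ω - 1 by
      rw [Nat.card_eq_fintype_card, Fintype.card_subtype_compl, Fintype.card_subtype_eq,
        Nat.card_eq_fintype_card], S.cfg.card_points]
    obtain ⟨d, hd⟩ : ∃ d, q = d + 1 := ⟨q - 1, by have := S.cfg.four; omega⟩
    rw [hd, Nat.add_sub_cancel,
      show ((d + 1) ^ 3 + 1) * (1 + (d + 1) ^ 3 * d) =
        (d + 1) ^ 4 * ((d + 1) ^ 2 * d + 1) + 1 by ring, Nat.add_sub_cancel]
  have hodd : ¬ 2 ^ (4 * r + 1) ∣ Nat.card X := by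
    intro hd
    rw [hXc, hqr, ← pow_mul, show r * 4 = 4 * r by ring, pow_succ] at hd
    have h2 := Nat.dvd_of_mul_dvd_mul_left (Nat.two_pow_pos _) hd
    have h3 : 2 ∣ (2 ^ r) ^ 2 * (2 ^ r - 1) :=
      dvd_mul_of_dvd_left (by rw [← pow_mul]; exact dvd_pow_self 2 (by omega)) _
    omega
  obtain ⟨c, hc⟩ : ∃ c : X, ¬ 2 ^ (4 * r + 1) ∣ Nat.card (orbit P c) := by
    by_contra hall
    push Not at hall
    refine hodd ?_
    haveI := Fintype.ofFinite (orbitRel.Quotient P X)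
    rw [Nat.card_congr (selfEquivSigmaOrbits P X), Nat.card_sigma]
    exact Finset.dvd_sum fun o _ => hall _
  have hoc := (stabilizer P c).card_mul_index
  rw [index_stabilizer, ← Nat.card_coe_set_eq, hm] at hoc
  obtain ⟨k, -, hk⟩ := (Nat.dvd_prime_pow Nat.prime_two).1 (Dvd.intro_left _ hoc)
  have hk4 : k ≤ 4 * r := by
    by_contra h
    exact hc (hk ▸ pow_dvd_pow 2 (by omega))
  -- its stabiliser
  set T := P ⊓ stabilizer G (c : Ω) with hT
  have hTc : Nat.card T = Nat.card (stabilizer P c) := Nat.card_congr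
    { toFun := fun g => ⟨⟨g, g.2.1⟩, Subtype.ext g.2.2⟩
      invFun := fun g => ⟨(g : P), (g : P).2, congrArg Subtype.val g.2⟩
      left_inv := fun g => rfl
      right_inv := fun g => rfl }
  have hTbig : q * 2 ^ e ≤ Nat.card T := by
    refine Nat.le_of_mul_le_mul_right ?_ (Nat.two_pow_pos k)
    rw [hTc, ← hk, hoc, ← hm, hk]
    refine le_trans ?_ hPbig
    rw [hqr, ← pow_add, ← pow_add, ← pow_mul, ← pow_add]
    exact Nat.pow_le_pow_right (by norm_num) (by omega)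
  have hTP : IsPGroup 2 T := (IsPGroup.of_card hm).to_le inf_le_left
  have hT1 : Nontrivial T := by
    rw [Subgroup.nontrivial_iff_ne_bot]
    intro h
    rw [h, card_bot] at hTbig
    have := Nat.two_pow_pos e
    have := S.cfg.four
    nlinarith
  haveI := hT1
  have hZ : Nontrivial (center T) := hTP.center_nontrivial
  have h2 : 2 ∣ Nat.card (center T) := by
    obtain ⟨i, hi, h⟩ := (hTP.to_subgroup (center T)).nontrivial_iff_card.1 hZ
    rw [h]; exact dvd_pow_self 2 hi.ne'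
  obtain ⟨v, hv⟩ := exists_prime_orderOf_dvd_card' 2 h2
  have hv2 : orderOf ((v : T) : G) = 2 := by rw [Subgroup.orderOf_coe, Subgroup.orderOf_coe, hv]
  have hva : ((v : T) : G) • a = a := (hPY (v : T).2.1).1
  have hvc : ((v : T) : G) • (c : Ω) = c := (v : T).2.2
  have hvbad : IsBad Ω ((v : T) : G) := ⟨hv2, a, c, c.2.symm, hva, hvc⟩
  obtain ⟨Qv, Jv, wv, hQv, hJv, hwv, hQvc⟩ := S.exists_line hvbad hva hvc c.2
  have hTY : T ≤ cY W a ((v : T) : G) := fun g hg => ⟨hPY hg.1, mem_centralizer_singleton_iff.2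
    (congrArg Subtype.val (mem_center_iff.1 v.2 ⟨g, hg⟩))⟩
  have hbound := S.setting.card_two_stab_le_cube hv2 hva hvc c.2 (S.cfg.comm _ a hvbad hva)
    (by rw [S.cfg.card_W]; exact S.cfg.four) hQv hJv hwv (by rw [hQvc, S.cfg.card_W])
    hTP hTY (fun t ht => ht.2)
  have hker : Nat.card ↥(T ⊓ fixingSubgroup G (fixedBy Ω ((v : T) : G))) ≤ 2 ^ e := by
    obtain ⟨i, hi⟩ := IsPGroup.iff_card.1 (hTP.to_le
      (inf_le_left : T ⊓ fixingSubgroup G (fixedBy Ω ((v : T) : G)) ≤ T))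
    have hdvd : 2 ^ i ∣ Nat.card (lineKernel W a ((v : T) : G)) :=
      hi ▸ card_dvd_of_le (le_inf (inf_le_left.trans hTY) inf_le_right)
    rw [hi]
    exact Nat.pow_le_pow_right (by norm_num)
      (((Nat.prime_two.pow_dvd_iff_le_factorization Nat.card_pos.ne').1 hdvd).trans
        (hmax ⟨_, hvbad, hva⟩))
  have h4 := S.cfg.four
  have := Nat.two_pow_pos e
  nlinarith [hTbig, hbound, hker]

end CubeSetting

/-- No centred configuration of unitary size. -/
theorem TIMin.false_of_cube (h : TIMin G Ω W) (hcore : CoreLocHyp W) {w : ℕ}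
    (hc : CentredConfig W w 3) {x : G} (hx : IsBad Ω x) : False :=
  CubeSetting.absurd_of_bad ⟨h.toTISetting, hc, hcore⟩ hx

end CfsgLib.LocalEven.TIEndgame
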