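import Cfsg.Agent.Lib.LocalEven.TIEndgame.Central.LinearBasic
import Cfsg.Agent.Lib.LocalEven.TIEndgame.OddIndexTransfer
import Cfsg.Agent.Lib.RankOne.SuzukiTwoTypeA

/-!
# The linear case: a Sylow subgroup covered by `T` and the stabiliser of `b`

If a subgroup `S` of odd index is `T` times the stabiliser of `b` in it, the latter is abelian
(modulo the scalars it is a cyclic group of field automorphisms), so `S` has an abelian factor
group in which the conjugates of `z` survive and the members die.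
-/

set_option autoImplicit false
set_option linter.unusedSectionVars false
set_option linter.unusedVariables false

namespace CfsgLib.LocalEven.TIEndgame

open MulAction Subgroup
open scoped commutatorElement

universe u

namespace LinearCover

/-- A 2-group of automorphisms of an elementary abelian 2-group normalising a commutative group
transitive on the nonidentity elements is cyclic. -/
theorem isCyclic_of_normalising {V : Type u} [CommGroup V] [Finite V] (hV : ∀ v : V, v * v = 1)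
    {A : Type*} [CommGroup A] (σ : A →* MulAut V) {v₀ : V} (hv₀ : v₀ ≠ 1)
    (htr : ∀ v : V, v ≠ 1 → ∃ x, σ x v₀ = v) {H : Subgroup (MulAut V)} (hH : IsPGroup 2 H)
    (hnorm : ∀ h ∈ H, ∀ x, ∃ y, h * σ x * h⁻¹ = σ y) : IsCyclic H := by
  classical
  let act : A →* AddMonoid.End (Additive V) :=
    { toFun := fun x => MonoidHom.toAdditive (σ x).toMonoidHom
      map_one' := AddMonoidHom.ext fun v => by
        show Additive.ofMul (σ 1 v.toMul) = v
        rw [map_one]
        rfl
      map_mul' := fun x y => AddMonoidHom.ext fun v => by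
        show Additive.ofMul (σ (x * y) v.toMul) = Additive.ofMul (σ x (σ y v.toMul))
        rw [map_mul]
        rfl }
  obtain ⟨K, _, _, _, e, hbij, hadd, he1, hmul, hmul'⟩ :=
    CfsgLib.RankOne.SuzukiTwoTypeA.exists_field_of_trans (V := Additive V)
      (fun v => hV v.toMul) act (Additive.ofMul v₀) (fun e => hv₀ (Additive.ofMul.injective e))
      (fun v hv => by
        obtain ⟨x, hx⟩ := htr v.toMul (fun h => hv (congrArg Additive.ofMul h))
        exact ⟨x, congrArg Additive.ofMul hx⟩)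
  have he0 : e 0 = 0 := by
    have h := hadd 0 0
    rw [add_zero] at h
    exact left_eq_add.1 h
  let E : K ≃ Additive V := Equiv.ofBijective e hbij
  let L : MulAut V → K → K := fun h x => E.symm (Additive.ofMul (h (e x).toMul))
  have hL : ∀ h x, e (L h x) = Additive.ofMul (h (e x).toMul) := fun h x => E.apply_symm_apply _
  have hLadd : ∀ h x y, L h (x + y) = L h x + L h y := fun h x y => hbij.1 (by
    rw [hL, hadd, hadd, hL, hL]
    exact congrArg Additive.ofMul (map_mul h _ _))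
  have hL0 : ∀ h, L h 0 = 0 := fun h => hbij.1 (by
    rw [hL, he0]
    exact congrArg Additive.ofMul (map_one h))
  have hLcomp : ∀ h h' x, L (h * h') x = L h (L h' x) := fun h h' x => hbij.1 (by
    rw [hL, hL, hL]
    rfl)
  have hLid : ∀ x, L 1 x = x := fun x => hbij.1 (hL 1 x)
  have hLinj : ∀ h, Function.Injective (L h) := fun h x y hxy => by
    have h1 := congrArg (L h⁻¹) hxy
    rwa [← hLcomp, ← hLcomp, inv_mul_cancel, hLid, hLid] at h1
  have hne : ∀ h, L h 1 ≠ 0 := fun h h0 => one_ne_zero (hLinj h (h0.trans (hL0 h).symm))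
  -- conjugation carries the scalars to scalars
  have hsemi : ∀ h ∈ H, ∀ s x, L h (s * x) * L h 1 = L h s * L h x := by
    intro h hh s x
    by_cases hs : s = 0
    · subst hs
      rw [zero_mul, hL0, zero_mul, zero_mul]
    obtain ⟨g, hg⟩ := hmul' s hs
    obtain ⟨g', hg'⟩ := hnorm h hh g
    obtain ⟨s', -, hs'⟩ := hmul g'
    have key : ∀ y, L h (s * y) = s' * L h y := fun y => hbij.1 (by
      rw [hL, ← hg, ← hs', hL]
      show Additive.ofMul (h (σ g (e y).toMul)) = Additive.ofMul (σ g' (h (e y).toMul))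
      rw [← hg', MulAut.mul_apply, MulAut.mul_apply, MulAut.inv_apply_self])
    have h1 := key 1
    rw [mul_one] at h1
    rw [key x, h1, mul_right_comm]
  -- the associated field automorphism
  let T : H → K → K := fun h x => L h x / L h 1
  have hTmul : ∀ (h : H) x y, T h (x * y) = T h x * T h y := fun h x y => by
    have := hsemi h h.2 x y
    show L h (x * y) / L h 1 = L h x / L h 1 * (L h y / L h 1)
    rw [div_mul_div_comm, ← this, mul_div_mul_right _ _ (hne h)]
  have hTadd : ∀ (h : H) x y, T h (x + y) = T h x + T h y := fun h x y => by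
    show L h (x + y) / L h 1 = L h x / L h 1 + L h y / L h 1
    rw [hLadd, add_div]
  have hTcomp : ∀ (h h' : H) x, T (h * h') x = T h (T h' x) := fun h h' x => by
    show L ((h : MulAut V) * h') x / L ((h : MulAut V) * h') 1 =
      L h (L h' x / L h' 1) / L h 1
    have h1 := hsemi h h.2 (L h' x / L h' 1) (L h' 1)
    rw [div_mul_cancel₀ _ (hne h')] at h1
    rw [hLcomp, hLcomp, div_eq_div_iff (hLcomp h h' 1 ▸ hne _) (hne h), h1]
  have hTbij : ∀ h : H, Function.Bijective (T h) :=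
    fun h => Finite.injective_iff_bijective.1 fun x y hxy =>
      hLinj h ((div_left_inj' (hne h)).1 hxy)
  let φ : H →* (K ≃ₐ[ZMod 2] K) := MonoidHom.mk'
    (fun h => AlgEquiv.ofRingEquiv
      (f := { Equiv.ofBijective (T h) (hTbij h) with map_mul' := hTmul h, map_add' := hTadd h })
      fun c => by rw [← ZMod.natCast_zmod_val c, map_natCast, map_natCast])
    (fun h h' => AlgEquiv.ext fun x => hTcomp h h' x)
  haveI : IsCyclic (K ≃ₐ[ZMod 2] K) := inferInstance
  refine isCyclic_of_injective φ ((injective_iff_map_eq_one φ).2 fun h hh => ?_)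
  -- an element inducing the trivial automorphism is a scalar
  have hc : ∀ x, L h x = L h 1 * x := fun x => by
    have h1 : L h x / L h 1 = x := DFunLike.congr_fun hh x
    rw [div_eq_iff (hne h)] at h1
    rw [h1, mul_comm]
  have hpow : ∀ n : ℕ, ∀ x, L ((h : MulAut V) ^ n) x = L h 1 ^ n * x := by
    intro n
    induction n with
    | zero => intro x; rw [pow_zero, hLid, pow_zero, one_mul]
    | succ n ih => intro x; rw [pow_succ', hLcomp, ih, hc, pow_succ', mul_assoc]
  obtain ⟨k, hk⟩ := hH h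
  have h2 : L h 1 ^ 2 ^ k = 1 := by
    have h3 := hpow (2 ^ k) 1
    rw [show (h : MulAut V) ^ 2 ^ k = 1 from congrArg Subtype.val hk, hLid, mul_one] at h3
    exact h3.symm
  haveI : CharP K 2 := charP_of_injective_algebraMap (algebraMap (ZMod 2) K).injective 2
  have h4 : L h 1 = 1 := by
    refine iterateFrobenius_inj K 2 k ?_
    rw [iterateFrobenius_def, iterateFrobenius_def, h2, one_pow]
  refine Subtype.ext (MulEquiv.ext fun v => ?_)
  obtain ⟨x, hx⟩ := hbij.2 (Additive.ofMul v)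
  have h5 := hL h x
  rw [hc, h4, one_mul, hx] at h5
  exact (Additive.ofMul.injective h5).symm

end LinearCover

variable {G Ω : Type u} [Group G] [Finite G] [Finite Ω] [MulAction G Ω] [FaithfulSMul G Ω]

namespace LinCtx

variable {W : Ω → Subgroup G} {a b : Ω} {z : G} {Q N J : Subgroup G} (C : LinCtx W a b z Q N J)
include C

/-- A Sylow subgroup covered by `T` and the stabiliser of `b` gives a transfer killing the members
but not `z`. -/
theorem false_of_cover {E T S : Subgroup G} (hWE : W a ≤ E) (hEP : E ≤ cMod W a z)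
    (hEJ : ∀ j ∈ J, ∀ g ∈ E, j * g * j⁻¹ ∈ E) (hzE : z ∉ E)
    (hPcase : ∀ g ∈ cMod W a z, g ∈ E ∨ z * g ∈ E) (hPT : cMod W a z ≤ T) (hTY : T ≤ cW W a)
    (hS2 : IsPGroup 2 S) (hSa : S ≤ stabilizer G a) (hodd : Odd S.index) (hST : S ⊓ cW W a = T)
    (hTJ : ∀ j ∈ J, ∀ g ∈ T, j * g * j⁻¹ ∈ T) (hSE : ∀ g ∈ S, ∀ e ∈ E, g * e * g⁻¹ ∈ E)
    (hsqT : ∀ g ∈ T, g * g ∈ E)
    (hJfix : ∀ g ∈ T, (∀ j ∈ J, j * g * j⁻¹ * g⁻¹ ∈ E) → g ∈ cMod W a z)
    (hbad : ∀ v ∈ T, IsBad Ω v → z * v ∈ E)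
    (hTb : ∀ g ∈ T, g • b = b → g = 1 ∨ g = z)
    (hcov : ∀ g ∈ S, ∃ t ∈ T, (t⁻¹ * g) • b = b) : False := by
  classical
  have hTS : T ≤ S := by rw [← hST]; exact inf_le_left
  have hET : E ≤ T := hEP.trans hPT
  have hzT : z ∈ T := hPT (C.cY_le_P C.z_cY)
  have hzb : z • b = b := C.fam.fix_b
  obtain ⟨P₀, hEP₀, hP₀T, hmeet, hdec, hinv⟩ := Linear.exists_norm_complement T E J hET
    (fun g hg e he => hSE g (hTS hg) e he) hsqT C.J_odd hTJ hEJ
  have hzP₀ : z ∉ P₀ := fun hz => hzE (hmeet z hz fun j hj => by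
    rw [show j * z * j⁻¹ = z by rw [← (C.J_comm hj).eq, mul_inv_cancel_right], mul_inv_cancel]
    exact one_mem _)
  have hTdec : ∀ t ∈ T, t ∈ P₀ ∨ z * t ∈ P₀ := by
    intro t ht
    obtain ⟨f, hfT, hffix, hf⟩ := hdec t ht
    rcases hPcase f (hJfix f hfT hffix) with hfE | hfE
    · exact Or.inl (by
        have := mul_mem (hEP₀ hfE) hf
        rwa [mul_inv_cancel_left] at this)
    · exact Or.inr (by
        have := mul_mem (hEP₀ hfE) hf
        rwa [mul_assoc z, mul_inv_cancel_left] at this)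
  -- the stabiliser of `b` in `S`
  set Sb : Subgroup G := S ⊓ stabilizer G b with hSb
  have hSbS : ∀ s ∈ Sb, s ∈ S := fun s hs => hs.1
  have hSba : ∀ s ∈ Sb, s • a = a := fun s hs => mem_stabilizer_iff.1 (hSa hs.1)
  have hzSb : z ∈ Sb := ⟨hTS hzT, mem_stabilizer_iff.2 hzb⟩
  have hTconj : ∀ s ∈ S, ∀ g ∈ T, s * g * s⁻¹ ∈ T := fun s hs g hg => by
    rw [← hST]
    exact Subgroup.mem_inf.2 ⟨mul_mem (mul_mem hs (hTS hg)) (inv_mem hs),
      C.conj_cW (mem_stabilizer_iff.1 (hSa hs)) (hTY hg)⟩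
  have hcomm : ∀ s ∈ Sb, Commute s z := by
    intro s hs
    have hfix : (s * z * s⁻¹) • b = b := by
      have h1 : s⁻¹ • b = b := mem_stabilizer_iff.1 (inv_mem hs).2
      rw [mul_smul, mul_smul, h1, hzb, mem_stabilizer_iff.1 hs.2]
    rcases hTb _ (hTconj s hs.1 z hzT) hfix with h | h
    · exact absurd (conj_eq_one_iff.1 h) C.z_ne
    · show s * z = z * s
      calc s * z = s * z * s⁻¹ * s := by group
        _ = z * s := by rw [h]
  have hJn : ∀ s ∈ Sb, ∀ j ∈ J, s * j * s⁻¹ ∈ J := fun s hs =>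
    C.fam.torus.normal s (Subgroup.mem_centralizer_singleton_iff.2 (hcomm s hs).eq) (hSba s hs)
      (mem_stabilizer_iff.1 hs.2)
  have hP₀n : ∀ s ∈ Sb, ∀ g ∈ P₀, s * g * s⁻¹ ∈ P₀ := by
    intro s hs
    have hiff : ∀ {H : Subgroup G}, (∀ t ∈ Sb, ∀ g ∈ H, t * g * t⁻¹ ∈ H) →
        ∀ g, g ∈ H ↔ s * g * s⁻¹ ∈ H := fun {H} hH g => ⟨hH s hs g, fun h => by
      simpa [mul_assoc] using hH s⁻¹ (inv_mem hs) _ h⟩
    exact hinv s (hiff fun t ht => hTconj t ht.1) (hiff fun t ht => hSE t ht.1) (hiff hJn)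
  -- `S` is the product of `P₀` and `Sb`
  have hex : ∀ g ∈ S, ∃ s ∈ Sb, g * s⁻¹ ∈ P₀ := by
    intro g hg
    obtain ⟨t, ht, htb⟩ := hcov g hg
    have hs : t⁻¹ * g ∈ Sb :=
      Subgroup.mem_inf.2 ⟨mul_mem (inv_mem (hTS ht)) hg, mem_stabilizer_iff.2 htb⟩
    rcases hTdec t ht with h | h
    · exact ⟨t⁻¹ * g, hs, by rw [mul_inv_rev, inv_inv, mul_inv_cancel_left]; exact h⟩
    · refine ⟨z * (t⁻¹ * g), mul_mem hzSb hs, ?_⟩
      have h2 := hP₀n z hzSb _ h
      rw [mul_inv_rev, mul_inv_rev, inv_inv, ← mul_assoc, mul_inv_cancel_left]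
      convert h2 using 1
      rw [← mul_assoc z z t, C.z_sq, one_mul]
  have huniq : ∀ {g s s' : G}, s ∈ Sb → s' ∈ Sb → g * s⁻¹ ∈ P₀ → g * s'⁻¹ ∈ P₀ → s = s' := by
    intro g s s' hs hs' h h'
    have hmem : s' * s⁻¹ ∈ P₀ := by
      have := mul_mem (inv_mem h') h
      rwa [mul_inv_rev, inv_inv, mul_assoc, inv_mul_cancel_left] at this
    rcases hTb _ (hP₀T hmem) (mem_stabilizer_iff.1 (mul_mem hs' (inv_mem hs)).2) with h1 | h1
    · exact (mul_inv_eq_one.1 h1).symm
    · exact absurd (h1 ▸ hmem) hzP₀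
  choose π hπS hπ using fun g : S => hex g g.2
  -- the stabiliser of `b` is abelian
  have hab : ∀ s ∈ Sb, ∀ t ∈ Sb, s * t = t * s := by
    intro s hs t ht
    have hWn : Sb ≤ Subgroup.normalizer (W a : Set G) := fun g hg =>
      C.ti.le_normalizer a (hSa hg.1)
    let ρ : Sb →* MulAut ↥(W a) := (W a).normalizerMonoidHom.comp (Subgroup.inclusion hWn)
    have hρ : ∀ (g : Sb) (w : ↥(W a)), ((ρ g w : ↥(W a)) : G) = (g : G) * w * (g : G)⁻¹ :=
      fun _ _ => rfl
    letI : CommGroup ↥(W a) := { (inferInstance : Group ↥(W a)) with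
      mul_comm := fun x y => Subtype.ext (C.ti.mul_comm_of_mem x.2 y.2).eq }
    haveI := C.fam.torus.cyclic
    letI : CommGroup J := IsCyclic.commGroup
    have hJW : J ≤ Subgroup.normalizer (W a : Set G) := fun j hj =>
      C.ti.le_normalizer a (mem_stabilizer_iff.2 (C.J_fix_a hj))
    let σ : J →* MulAut ↥(W a) := (W a).normalizerMonoidHom.comp (Subgroup.inclusion hJW)
    obtain ⟨⟨w₀, hw₀⟩, hw₀1⟩ := Subgroup.ne_bot_iff_exists_ne_one.1 (C.ti.ne_bot a)
    haveI : IsCyclic ρ.range := by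
      refine LinearCover.isCyclic_of_normalising (fun w => Subtype.ext (C.ti.sq a w w.2)) σ
        (v₀ := ⟨w₀, hw₀⟩) hw₀1 (fun w hw => ?_) ?_ ?_
      · obtain ⟨j, hj, hjw⟩ := C.fam.torus.trans w₀ (by rw [C.W_le_cent]; exact hw₀)
          (fun e => hw₀1 (Subtype.ext e)) w (by rw [C.W_le_cent]; exact w.2)
          (fun e => hw (Subtype.ext e))
        exact ⟨⟨j, hj⟩, Subtype.ext hjw⟩
      · have h1 : IsPGroup 2 Sb := hS2.to_le inf_le_left
        exact h1.of_surjective ρ.rangeRestrict ρ.rangeRestrict_surjective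
      · rintro _ ⟨g, rfl⟩ j
        refine ⟨⟨(g : G) * j * (g : G)⁻¹, hJn g g.2 j j.2⟩, MulEquiv.ext fun w => Subtype.ext ?_⟩
        rw [← map_inv]
        show (g : G) * ((j : G) * ((g⁻¹ : Sb) * (w : G) * ((g⁻¹ : Sb) : G)⁻¹) * (j : G)⁻¹) *
          (g : G)⁻¹ = ((g : G) * j * (g : G)⁻¹) * w * ((g : G) * j * (g : G)⁻¹)⁻¹
        push_cast
        group
    have hker : ρ.rangeRestrict.ker ≤ Subgroup.center Sb := by
      intro g hg
      rw [MonoidHom.ker_rangeRestrict] at hg
      have hgc : (g : G) ∈ cW W a := mem_cW.2 ⟨hSba g g.2, fun w hw => by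
        have h1 := hρ g ⟨w, hw⟩
        rw [show ρ g = 1 from hg] at h1
        have h2 : w = (g : G) * w * (g : G)⁻¹ := h1
        show w * g = g * w
        calc w * g = (g : G) * w * (g : G)⁻¹ * g := by rw [← h2]
          _ = g * w := by group⟩
      have hgT : (g : G) ∈ T := by rw [← hST]; exact ⟨hSbS g g.2, hgc⟩
      rw [Subgroup.mem_center_iff]
      intro y
      apply Subtype.ext
      rcases hTb g hgT (mem_stabilizer_iff.1 g.2.2) with h | h
      · simp [h]
      · simp only [Subgroup.coe_mul, h]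
        exact (hcomm y y.2).eq
    exact congrArg Subtype.val
      ((ρ.rangeRestrict.isMulCommutative_of_isCyclic_of_ker_le_center hker).is_comm.comm
        (⟨s, hs⟩ : Sb) ⟨t, ht⟩)
  letI : CommGroup Sb := { (inferInstance : Group Sb) with
    mul_comm := fun x y => Subtype.ext (hab x x.2 y y.2) }
  let φ : S →* Sb := MonoidHom.mk' (fun g => ⟨π g, hπS g⟩) fun g g' => Subtype.ext <| by
    refine huniq (g := ((g * g' : S) : G)) (hπS _) (mul_mem (hπS g) (hπS g')) (hπ _) ?_
    have h1 := mul_mem (hπ g) (hP₀n _ (hπS g) _ (hπ g'))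
    convert h1 using 1
    push_cast
    group
  refine closure_ne_top_of_odd_index φ (members W) (fun d hd => C.ti.onePoint.mul_self hd) C.z_sq hodd
    (a := (⟨z, hzSb⟩ : Sb)) (fun e => C.z_ne (congrArg Subtype.val e)) ?_ ?_ C.fam.setting.gen
  · intro g hg
    obtain ⟨hz2, p, q, hpq, hp, hq⟩ := C.fam.bad
    have hv : IsBad Ω (g⁻¹ * z * g) := by
      refine ⟨?_, g⁻¹ • p, g⁻¹ • q, fun e => hpq (smul_left_cancel g⁻¹ e), ?_, ?_⟩
      · have := CfsgLib.Involution.Dihedral.orderOf_conj g⁻¹ z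
        rw [inv_inv] at this
        rw [this, hz2]
      · rw [mul_smul, mul_smul, smul_inv_smul, hp]
      · rw [mul_smul, mul_smul, smul_inv_smul, hq]
    have hvT : g⁻¹ * z * g ∈ T := by
      rw [← hST]
      exact ⟨hg, C.bad_cW hv (mem_stabilizer_iff.1 (hSa hg))⟩
    refine Subtype.ext (huniq (g := g⁻¹ * z * g) (hπS _) hzSb (hπ ⟨_, hg⟩) ?_)
    have h2 := hP₀n z hzSb _ (hEP₀ (hbad _ hvT hv))
    convert h2 using 1
    rw [← mul_assoc z z, C.z_sq, one_mul]
  · intro d hd g hg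
    have hmem : g⁻¹ * d * g ∈ members W := by
      have := C.ti.onePoint.conj_mem g⁻¹ d hd
      rwa [inv_inv] at this
    have hW : g⁻¹ * d * g ∈ W a := C.ti.mem_of_fixed hmem (mem_stabilizer_iff.1 (hSa hg))
    refine Subtype.ext (huniq (g := g⁻¹ * d * g) (hπS _) (one_mem _) (hπ ⟨_, hg⟩) ?_)
    simpa using hEP₀ (hWE hW)

end LinCtx

end CfsgLib.LocalEven.TIEndgame
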