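import Cfsg.Agent.Lib.LocalEven.TIEndgame.Central.LinearAffine
import Cfsg.Agent.Lib.LocalEven.TIEndgame.Central.LinearCover

/-!
# The linear case is impossible

A Sylow 2-subgroup at `a` is covered by its part in `cW W a` and the stabiliser of `b`, and then
its abelian quotient separates `z` from the members.
-/

set_option autoImplicit false

namespace CfsgLib.LocalEven.TIEndgame

open MulAction Subgroup
open scoped commutatorElement

universe u

variable {G Ω : Type u} [Group G] [Finite G] [Finite Ω] [MulAction G Ω] [FaithfulSMul G Ω]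

/-- The linear case does not occur. -/
theorem LinCtx.false_linear {W : Ω → Subgroup G} {a b : Ω} {z : G} {Q N J : Subgroup G}
    (C : LinCtx W a b z Q N J) : False := by
  obtain ⟨E, D⟩ := C.exists_linE
  obtain ⟨S, hS2, hSa, hodd, hTS⟩ := C.exists_sylow D
  refine C.false_of_cover (E := E) (T := tGroup W a z) (S := S) D.W_le D.le_P D.conj_J D.notMem
    D.cases C.P_le_T inf_le_left hS2 hSa hodd (C.sylow_inf D hS2 hSa hTS)
    (fun j hj g hg => C.T_J hj hg) (fun g hg e he => C.sylow_E D hS2 hSa hTS hg he)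
    (fun g hg => C.T_sq D hg) (fun g hg h => C.T_fixed D hg h)
    (fun v hv hb => C.T_bad D hb hv) (fun g hg h => C.T_stab D hg h) ?_
  intro g hg
  have hga : g • a = a := mem_stabilizer_iff.1 (hSa hg)
  have hnorm := C.sylow_norm D hS2 hSa hTS hg
  by_cases h : ∃ t ∈ tGroup W a z, kap z t ≠ 1
  · obtain ⟨t, ht, hk⟩ := h
    obtain ⟨t', ht', htb⟩ := C.T_transitive D ht hk (c := g • b)
      (fun e => C.fam.ne (smul_left_cancel g (e.trans hga.symm)))
    exact ⟨t', ht', by rw [mul_smul, inv_smul_eq_iff, htb]⟩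
  push Not at h
  have hk : kap z g = 1 := by
    obtain ⟨r, -, hq⟩ := C.exists_pow
    rcases Nat.even_or_odd r with hr | hr
    · exact C.kap_eq_one_of_even D h hr hq hga hnorm
    · exact (C.false_of_odd_rank D hS2 hSa hTS hodd h hr hq).elim
  obtain ⟨p, hp, hpb, -⟩ := C.exists_cover hga
    ((C.kap_eq_one D (C.norm_tau D hga hnorm)).1 hk)
  exact ⟨p, C.P_le_T hp, hpb⟩

end CfsgLib.LocalEven.TIEndgame
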