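import Mathlib.GroupTheory.GroupAction.SubMulAction.OfStabilizer
import Cfsg.Agent.Lib.LocalEven.TIEndgame.Defs
import Cfsg.Agent.Lib.LocalEven.TIEndgame.CountThree
import Cfsg.Agent.Lib.LocalEven.TIEndgame.OddTransitiveCard

/-!
# The Suzuki case with two points fixed by a group of order two or more

When the stabiliser of `b` in `cW W a` is `N`, the point stabiliser of `a` is transitive on the
other points and the count of Sylow 3-subgroups gives a contradiction.
-/

set_option autoImplicit false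
set_option linter.style.haveILetI false

namespace CfsgLib.LocalEven.TIEndgame

open MulAction Subgroup

universe u

variable {G Ω : Type u} [Group G] [Finite G] [Finite Ω] [MulAction G Ω] [FaithfulSMul G Ω]
  {W : Ω → Subgroup G} {a b : Ω} {z : G} {Q N J : Subgroup G}

namespace Fam

variable (h : Fam W a b z Q N J)
include h

theorem inf_centralizer_eq {c : Ω} (hc : z • c = c) : W c ⊓ centralizer {z} = W c :=
  inf_eq_left.2 fun d hd =>
    Subgroup.mem_centralizer_singleton_iff.2 (h.all c z h.bad hc d hd).eq.symm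

theorem commute_of_mem_core {g : G} (hg : g ∈ core W (centralizer {z})) : Commute z g := by
  have hle : core W (centralizer {z}) ≤ centralizer {z} :=
    (closure_le _).2 Set.inter_subset_right
  exact (Subgroup.mem_centralizer_singleton_iff.1 (hle hg)).symm

theorem mem_pts {c : Ω} : c ∈ pts W (centralizer {z}) ↔ z • c = c := by
  rw [h.setting.toTISetting.pts_centralizer h.bad.1]; rfl

theorem card_fixed : Nat.card (fixedBy Ω z) = Nat.card Q + 1 := by
  have hmap : ∀ x : Q, (x : G) • b ∈ fixedBy Ω z \ {a} := fun x => by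
    have hx := Subgroup.mem_inf.1 (h.loc.le x.2)
    refine ⟨?_, fun e => h.ne (smul_left_cancel (x : G) ?_)⟩
    · rw [mem_fixedBy, smul_smul, (h.commute_of_mem_core hx.1).eq, mul_smul, h.fix_b]
    · rw [Set.mem_singleton_iff.1 e, mem_stabilizer_iff.1 hx.2]
  have hcard : Nat.card Q = Nat.card ↑(fixedBy Ω z \ {a}) := by
    refine Nat.card_eq_of_bijective (fun x => ⟨_, hmap x⟩) ⟨fun x y hxy => ?_, fun c => ?_⟩
    · have hxy' : (x : G) • b = (y : G) • b := congrArg Subtype.val hxy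
      obtain ⟨u, -, huniq⟩ := h.loc.regular b (h.mem_pts.2 h.fix_b) h.ne ((x : G) • b)
        (h.mem_pts.2 (hmap x).1) (hmap x).2
      exact Subtype.ext ((huniq x ⟨x.2, rfl⟩).trans (huniq y ⟨y.2, hxy'.symm⟩).symm)
    · obtain ⟨x, ⟨hx, hxc⟩, -⟩ :=
        h.loc.regular b (h.mem_pts.2 h.fix_b) h.ne c (h.mem_pts.2 c.2.1) c.2.2
      exact ⟨⟨x, hx⟩, Subtype.ext hxc⟩
  rw [hcard, Nat.card_coe_set_eq, Nat.card_coe_set_eq,
    Set.ncard_diff_singleton_add_one (show a ∈ fixedBy Ω z from h.fix_a) (Set.toFinite _)]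

theorem card_centred :
    Nat.card ↥(centred (members W) z) =
      Nat.card (fixedBy Ω z) * (Nat.card ↥(W a) - 1) := by
  have hop := h.setting.toTISetting.onePoint
  haveI : IsPretransitive G Ω := ⟨hop.exists_move h.setting.toTISetting.covers⟩
  have hdat : Nat.card (dat (members W) a) = Nat.card ↥(W a) - 1 := by
    rw [Nat.card_coe_set_eq, h.setting.toTISetting.dat_eq,
      show {d | d ∈ W a ∧ d ≠ 1} = (W a : Set G) \ {1} from rfl,
      Set.ncard_diff_singleton_of_mem (one_mem (W a)), ← Nat.card_coe_set_eq]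
    rfl
  rw [← hdat, ← hop.card_point (fixedBy Ω z) a]
  refine Nat.card_congr (Equiv.subtypeEquivRight fun d => ?_)
  refine ⟨fun hd => ?_, fun ⟨hd, c, hc, hdc⟩ => ⟨hd, ?_⟩⟩
  · obtain ⟨c, hc⟩ := hop.exists_fixed d hd.1
    exact ⟨hd.1, c, hop.centred_fixed hd hc, hc⟩
  · exact h.all c z h.bad hc d (h.setting.toTISetting.mem_of_fixed hd hdc)

/-- A point moved by `z` lies on one line of `z` only. -/
theorem line_unique
    (hφ : ∀ x : G, IsBad Ω x → Nat.card (fixedBy Ω x) = Nat.card (fixedBy Ω z))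
    (hn : Nat.card Ω = Nat.card (fixedBy Ω z) *
      (1 + (Nat.card (fixedBy Ω z) - 1) * (Nat.card ↥(W a) - 1)))
    {f f' : G} (hf : f ∈ centred (members W) z) (hf' : f' ∈ centred (members W) z) {c : Ω}
    (hc : z • c ≠ c) (h1 : (z * f) • c = c) (h2 : (z * f') • c = c) : f = f' := by
  classical
  have hop := h.setting.toTISetting.onePoint
  have hz2 : z * z = 1 := CfsgLib.Involution.Dihedral.mul_self h.bad.1
  set φ := Nat.card (fixedBy Ω z) with hφd
  let T : Set Ω := (fixedBy Ω z)ᶜ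
  let S : ↥(centred (members W) z) → Set Ω := fun g => {d | z • d ≠ d ∧ (z * (g : G)) • d = d}
  have hbound : ∀ g : ↥(centred (members W) z), Nat.card (S g) ≤ φ - 1 := by
    intro g
    obtain ⟨e, he⟩ := hop.exists_fixed g g.2.1
    have hze : z • e = e := hop.centred_fixed g.2 he
    have hzg : (z * (g : G)) • e = e := by rw [mul_smul, he, hze]
    have hsub : S g ⊆ fixedBy Ω (z * (g : G)) \ {e} := fun d hd =>
      ⟨hd.2, fun hde => hd.1 (by rw [Set.mem_singleton_iff.1 hde, hze])⟩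
    have hle : Nat.card (fixedBy Ω (z * (g : G))) ≤ φ := by
      by_cases hb : IsBad Ω (z * (g : G))
      · exact (hφ _ hb).le
      have h2' : orderOf (z * (g : G)) = 2 := by
        refine orderOf_eq_prime ?_ fun e1 => ?_
        · rw [g.2.2.mul_pow, pow_two, pow_two, hz2, hop.mul_self g.2.1, one_mul]
        · obtain ⟨-, p, p', hpp, hp, hp'⟩ := h.bad
          rw [mul_eq_one_iff_eq_inv.1 e1, hop.inv_eq g.2.1] at hp hp'
          exact hpp (hop.fixed_unique g g.2.1 _ _ hp hp')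
      have hsubs : (fixedBy Ω (z * (g : G))).Subsingleton := fun p hp p' hp' => by
        by_contra hpp
        exact hb ⟨h2', p, p', hpp, hp, hp'⟩
      have hpos : 0 < φ := hφd ▸ (by
        haveI : Nonempty (fixedBy Ω z) := ⟨⟨a, h.fix_a⟩⟩
        exact Nat.card_pos)
      rw [Nat.card_coe_set_eq]
      exact ((Set.ncard_le_one (Set.toFinite _)).2 fun p hp p' hp' => hsubs hp hp').trans hpos
    rw [Nat.card_coe_set_eq]
    refine (Set.ncard_le_ncard hsub).trans ?_
    rw [Set.ncard_diff_singleton_of_mem (show e ∈ fixedBy Ω (z * (g : G)) from hzg),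
      ← Nat.card_coe_set_eq]
    exact Nat.sub_le_sub_right hle 1
  let π : (Σ g : ↥(centred (members W) z), ↥(S g)) → ↥T := fun p => ⟨p.2, p.2.2.1⟩
  have hsurj : Function.Surjective π := by
    rintro ⟨d, hd⟩
    obtain ⟨x, hx⟩ := OnePoint.dat_nonempty (D := members W) h.setting.toTISetting.covers d
    have hmov : x ∈ moved (members W) Ω z :=
      ⟨hx.1, fun e he => by rw [hop.fixed_unique x hx.1 e d he hx.2]; exact hd⟩
    obtain ⟨g, ⟨hg, hgx⟩, -⟩ := hop.exists_middle_centred hz2 hmov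
    exact ⟨⟨⟨g, hg⟩, d, hd, hop.fix_of_commute hx.1 hx.2 hgx.symm⟩, rfl⟩
  haveI := Fintype.ofFinite ↥(centred (members W) z)
  have hle : Nat.card (Σ g : ↥(centred (members W) z), ↥(S g)) ≤ Nat.card ↥T := by
    rw [Nat.card_sigma]
    refine (Finset.sum_le_card_nsmul _ _ (φ - 1) fun g _ => hbound g).trans ?_
    rw [Finset.card_univ, ← Nat.card_eq_fintype_card, smul_eq_mul, h.card_centred, ← hφd,
      Nat.card_coe_set_eq, Set.ncard_compl, ← Nat.card_coe_set_eq, ← hφd, hn]
    refine le_of_eq ?_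
    rw [Nat.mul_add, mul_one, Nat.add_sub_cancel_left]
    ring
  have hinj := (hsurj.bijective_of_nat_card_le hle).1
  have := @hinj ⟨⟨f, hf⟩, c, hc, h1⟩ ⟨⟨f', hf'⟩, c, hc, h2⟩ rfl
  exact congrArg (fun p : (Σ g : ↥(centred (members W) z), ↥(S g)) => ((p.1 : G))) this

theorem card_nonone : Nat.card {x // x ∈ W a ∧ x ≠ 1} = Nat.card ↥(W a) - 1 := by
  show Nat.card ↑((W a : Set G) \ {1}) = _
  rw [Nat.card_coe_set_eq, Set.ncard_diff_singleton_of_mem (one_mem (W a)), ← Nat.card_coe_set_eq]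
  rfl

theorem torus_free {j f : G} (hj : j ∈ J) (hf : f ∈ W a) (hf1 : f ≠ 1) (hc : Commute j f) :
    j = 1 := by
  have hmem : ∀ i : J, (i : G) * f * (i : G)⁻¹ ∈ W a ∧ (i : G) * f * (i : G)⁻¹ ≠ 1 := fun i => by
    have hi := (Subgroup.mem_inf.1 (Subgroup.mem_inf.1 (h.torus.le i.2)).1).2
    refine ⟨?_, fun e => hf1 (conj_eq_one_iff.1 e)⟩
    have := h.setting.conj i a f hf
    rwa [mem_stabilizer_iff.1 hi] at this
  let ψ : J → {x // x ∈ W a ∧ x ≠ 1} := fun i => ⟨_, hmem i⟩
  have hsurj : Function.Surjective ψ := by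
    rintro ⟨x, hx, hx1⟩
    obtain ⟨i, hi, hix⟩ := h.torus.trans f (by rwa [h.inf_centralizer_eq h.fix_a]) hf1 x
      (by rwa [h.inf_centralizer_eq h.fix_a]) hx1
    exact ⟨⟨i, hi⟩, Subtype.ext hix⟩
  have hcard : Nat.card J ≤ Nat.card {x // x ∈ W a ∧ x ≠ 1} := by
    have := h.torus.card
    rw [h.inf_centralizer_eq h.fix_a] at this
    rw [h.card_nonone]; omega
  have := (hsurj.bijective_of_nat_card_le hcard).1 (a₁ := ⟨j, hj⟩) (a₂ := 1) (Subtype.ext (by
    show j * f * j⁻¹ = ((1 : J) : G) * f * ((1 : J) : G)⁻¹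
    rw [hc.eq]; simp))
  exact congrArg Subtype.val this

/-- An element of the torus fixes no point besides `a` and `b`. -/
theorem torus_fix
    (hφ : ∀ x : G, IsBad Ω x → Nat.card (fixedBy Ω x) = Nat.card (fixedBy Ω z))
    (hn : Nat.card Ω = Nat.card (fixedBy Ω z) *
      (1 + (Nat.card (fixedBy Ω z) - 1) * (Nat.card ↥(W a) - 1)))
    {j : G} (hj : j ∈ J) (hj1 : j ≠ 1) {c : Ω} (hjc : j • c = c) : c = a ∨ c = b := by
  have hop := h.setting.toTISetting.onePoint
  by_cases hc : z • c = c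
  · exact h.torus.fix_two j hj hj1 c (h.mem_pts.2 hc) hjc
  exfalso
  have hzj : Commute z j :=
    h.commute_of_mem_core (Subgroup.mem_inf.1 (Subgroup.mem_inf.1 (h.torus.le hj)).1).1
  obtain ⟨x, hx⟩ := OnePoint.dat_nonempty (D := members W) h.setting.toTISetting.covers c
  have hmov : x ∈ moved (members W) Ω z :=
    ⟨hx.1, fun e he => by rw [hop.fixed_unique x hx.1 e c he hx.2]; exact hc⟩
  obtain ⟨f, ⟨hf, hfx⟩, -⟩ :=
    hop.exists_middle_centred (CfsgLib.Involution.Dihedral.mul_self h.bad.1) hmov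
  have hzf : (z * f) • c = c := hop.fix_of_commute hx.1 hx.2 hfx.symm
  have hf' : j * f * j⁻¹ ∈ centred (members W) z :=
    ⟨hop.conj_mem j f hf.1, (hzj.mul_right hf.2).mul_right hzj.inv_right⟩
  have heq : j * f * j⁻¹ = f := by
    refine h.line_unique hφ hn hf' hf hc ?_ hzf
    calc (z * (j * f * j⁻¹)) • c = (j * (z * f) * j⁻¹) • c := by
          rw [← mul_assoc, ← mul_assoc, hzj.eq, mul_assoc j z f]
      _ = c := by rw [mul_smul, mul_smul, inv_smul_eq_iff.2 hjc.symm, hzf, hjc]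
  have hjf : Commute j f := mul_inv_eq_iff_eq_mul.1 heq
  obtain ⟨e, he⟩ := hop.exists_fixed f hf.1
  have hje : j • e = e := hop.fix_of_commute hf.1 he hjf.symm
  have hfe := h.setting.toTISetting.mem_of_fixed hf.1 he
  rcases h.torus.fix_two j hj hj1 e (h.mem_pts.2 (hop.centred_fixed hf he)) hje with rfl | rfl
  · exact hj1 (h.torus_free hj hfe hf.1.1 hjf)
  · exact hf.1.1 (h.torus.free_b j hj hj1 f
      ⟨hfe, Subgroup.mem_centralizer_singleton_iff.2 hf.2.eq.symm⟩ hjf)

/-- The Suzuki case with `N` the whole stabiliser of `b` in `cW W a` does not occur. -/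
theorem false_of_square_count (hsq : Nat.card Q = Nat.card ↥(W a) ^ 2)
    (hY : cW W a ⊓ stabilizer G b = N)
    (hodd : Odd ((cW W a).subgroupOf (stabilizer G a)).index)
    (hφ : ∀ x : G, IsBad Ω x → Nat.card (fixedBy Ω x) = Nat.card (fixedBy Ω z))
    (hn : Nat.card Ω = Nat.card (fixedBy Ω z) *
      (1 + (Nat.card (fixedBy Ω z) - 1) * (Nat.card ↥(W a) - 1))) : False := by
  classical
  have hW : W a ⊓ centralizer {z} = W a := h.inf_centralizer_eq h.fix_a
  obtain ⟨r, hr, hr3, hqr⟩ := h.loc.square_log (by rw [hW]; exact hsq)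
  rw [hW] at hqr
  set M := stabilizer G a with hM
  let ρ : M →* MulAut ↥(W a) :=
    (W a).normalizerMonoidHom.comp (Subgroup.inclusion (h.setting.toTISetting.le_normalizer a))
  have hρ : ∀ (g : M) (x : W a), ((ρ g x : W a) : G) = (g : G) * x * (g : G)⁻¹ := fun _ _ => rfl
  have hker : ρ.ker = (cW W a).subgroupOf M := by
    ext g
    rw [MonoidHom.mem_ker, mem_subgroupOf, cW, Subgroup.mem_inf, Subgroup.mem_centralizer_iff]
    refine ⟨fun hg => ⟨g.2, fun x hx => ?_⟩, fun hg => MulEquiv.ext fun x => Subtype.ext ?_⟩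
    · have := congrArg Subtype.val (DFunLike.congr_fun hg (⟨x, hx⟩ : W a))
      rw [hρ] at this
      exact (mul_inv_eq_iff_eq_mul.1 this).symm
    · rw [hρ]; exact mul_inv_eq_iff_eq_mul.2 (hg.2 x x.2).symm
  haveI hnormal : ((cW W a).subgroupOf M).Normal := hker ▸ MonoidHom.normal_ker ρ
  -- transitivity on the nontrivial elements of `W a`, fixing a second point
  have htr : ∀ c : Ω, c ≠ a → ∀ v w : W a, v ≠ 1 → w ≠ 1 →
      ∃ g : M, (g : G) • c = c ∧ ρ g v = w := by
    intro c hc v w hv hw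
    have hdat : ∀ x : W a, x ≠ 1 → (x : G) ∈ dat (members W) a := fun x hx => by
      rw [h.setting.toTISetting.dat_eq]; exact ⟨x.2, fun e => hx (Subtype.ext e)⟩
    obtain ⟨g, hga, hgc, hg⟩ := h.setting.toTISetting.onePoint.exists_conj_pair (hdat v hv)
      (hdat w hw) (OnePoint.dat_nonempty (D := members W) h.setting.toTISetting.covers c) hc.symm
    exact ⟨⟨g, hga⟩, hgc, Subtype.ext (by rw [hρ]; exact hg)⟩
  obtain ⟨s, hs, hcard⟩ := OddTransitiveCard.card_eq
    (V := ↥(W a)) (fun v => Subtype.ext (h.setting.sq a v v.2)) (by omega : r ≠ 0) hqr ρ.range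
    (by rw [← index_ker, hker]; exact hodd)
    (fun v w hv hw => by
      obtain ⟨g, -, hg⟩ := htr b h.ne v w hv hw
      exact ⟨ρ g, ⟨g, rfl⟩, hg⟩)
  have hMcard : Nat.card M = Nat.card ((cW W a).subgroupOf M) * ((2 ^ r - 1) * s) := by
    rw [← hcard, ← index_ker, hker, ← Subgroup.card_mul_index ((cW W a).subgroupOf M)]
  let b' : SubMulAction.ofStabilizer G a := ⟨b, h.ne⟩
  have hJM : J ≤ M := fun j hj => (Subgroup.mem_inf.1 (Subgroup.mem_inf.1 (h.torus.le hj)).1).2
  have hJb : ∀ j ∈ J, j • b = b := fun j hj =>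
    mem_stabilizer_iff.1 (Subgroup.mem_inf.1 (h.torus.le hj)).2
  refine CountThree.absurd_count (M := M) (X := SubMulAction.ofStabilizer G a)
    (Y := (cW W a).subgroupOf M) (J := J.subgroupOf M) (b := b') (r := r) (s := s)
    hnormal ?_ ?_ ?_ ?_ hr hr3 hs hMcard ?_ ?_
  · intro g
    refine ⟨1, Subtype.ext (Subtype.ext ?_)⟩
    obtain ⟨hgY, hgb⟩ := Subgroup.mem_inf.1 g.2
    have hgN : ((g : M) : G) ∈ N := hY ▸ Subgroup.mem_inf.2
      ⟨mem_subgroupOf.1 hgY, congrArg Subtype.val (mem_stabilizer_iff.1 hgb)⟩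
    simpa [pow_two] using h.sq_N _ hgN
  · intro j hj hj1 c
    refine ⟨fun hjc => Subtype.ext ?_, fun hcb => ?_⟩
    · exact (h.torus_fix hφ hn (mem_subgroupOf.1 hj) (fun e => hj1 (Subtype.ext e))
        (congrArg Subtype.val hjc)).resolve_left c.2
    · subst hcb
      exact Subtype.ext (hJb _ (mem_subgroupOf.1 hj))
  · exact fun j hj => mem_stabilizer_iff.2 (Subtype.ext (hJb _ (mem_subgroupOf.1 hj)))
  · have h1 := h.torus.card
    rw [hW, hqr] at h1
    rw [Nat.card_congr (subgroupOfEquivOfLe hJM).toEquiv]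
    omega
  · intro c
    letI : MulAction (stabilizer M c) ↥(W a) := MulAction.compHom _ (ρ.comp (stabilizer M c).subtype)
    haveI : Nontrivial ↥(W a) := Finite.one_lt_card_iff_nontrivial.1
      (hqr ▸ Nat.one_lt_two_pow (by omega))
    obtain ⟨f, hf⟩ := exists_ne (1 : W a)
    have horb : orbit (stabilizer M c) f = ({1}ᶜ : Set (W a)) := by
      ext x
      refine ⟨?_, fun hx => ?_⟩
      · rintro ⟨g, rfl⟩
        exact fun e => hf ((ρ (g : M)).map_eq_one_iff.1 e)
      · obtain ⟨g, hgc, hg⟩ := htr c c.2 f x hf hx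
        exact ⟨⟨g, mem_stabilizer_iff.2 (Subtype.ext hgc)⟩, hg⟩
    have := (stabilizer (stabilizer M c) f).index_dvd_card
    rwa [index_stabilizer, horb, Set.ncard_compl, Set.ncard_singleton, hqr] at this
  · have hX : Nat.card (SubMulAction.ofStabilizer G a) = Nat.card Ω - 1 := by
      show Nat.card ↑({a}ᶜ : Set Ω) = _
      rw [Nat.card_coe_set_eq, Set.ncard_compl, Set.ncard_singleton]
    rw [hX, hn, h.card_fixed, hsq, hqr, Nat.add_sub_cancel]
    obtain ⟨m, hm⟩ : ∃ m, 2 ^ r = m + 1 := ⟨2 ^ r - 1, (Nat.sub_add_cancel Nat.one_le_two_pow).symm⟩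
    rw [hm, Nat.add_sub_cancel, show (m + 1) ^ 2 - (m + 1) + 1 = m ^ 2 + m + 1 by
      rw [show (m + 1) ^ 2 = (m ^ 2 + m) + (m + 1) by ring, Nat.add_sub_cancel],
      show ((m + 1) ^ 2 + 1) * (1 + (m + 1) ^ 2 * m) = (m + 1) ^ 3 * (m ^ 2 + m + 1) + 1 by ring,
      Nat.add_sub_cancel]

end Fam

end CfsgLib.LocalEven.TIEndgame
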