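import Cfsg.Agent.Lib.LocalEven.TIEndgame.Defs

/-!
# Suzuki lines with a kernel of order two: the group above the bad involution

In a family with `|Q| = q ^ 2` and `|N| = 2` the preimage `cMod W a z` of the centraliser of `z`
modulo `W a` is elementary abelian modulo `W a`, and its commutator pairing into `W a` is
nondegenerate.
-/

set_option autoImplicit false
set_option linter.style.haveILetI false

namespace CfsgLib.LocalEven.TIEndgame.SquareTwo

open MulAction Subgroup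
open scoped commutatorElement

universe u

variable {G Ω : Type u} [Group G] [Finite G] [Finite Ω] [MulAction G Ω] [FaithfulSMul G Ω]
  {W : Ω → Subgroup G} {a b : Ω} {z : G} {Q N J : Subgroup G} (h : Fam W a b z Q N J)

section

variable {Y : Subgroup G}

omit [Finite G] [Finite Ω] [FaithfulSMul G Ω] in
/-- The elements of `cW W a` centralise `W a`. -/
theorem commute_of_mem_cW {g : G} (hg : g ∈ cW W a) {w : G} (hw : w ∈ W a) : Commute g w :=
  (Subgroup.mem_centralizer_iff.1 hg.2 w hw).symm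

omit [Finite G] [Finite Ω] [FaithfulSMul G Ω] in
/-- `cMod` consists of the generating elements. -/
theorem mem_cMod {g : G} : g ∈ cMod W a z ↔ g ∈ cW W a ∧ ⁅z, g⁆ ∈ W a := by
  let K : Subgroup G :=
    { carrier := {g | g ∈ cW W a ∧ ⁅z, g⁆ ∈ W a}
      one_mem' := ⟨one_mem _, by simp⟩
      mul_mem' := fun {g g'} hg hg' => ⟨mul_mem hg.1 hg'.1, by
        rw [show ⁅z, g * g'⁆ = ⁅z, g⁆ * (g * ⁅z, g'⁆ * g⁻¹) by simp only [commutatorElement_def]; group,
          mul_inv_eq_iff_eq_mul.2 (commute_of_mem_cW hg.1 hg'.2).eq]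
        exact mul_mem hg.2 hg'.2⟩
      inv_mem' := fun {g} hg => ⟨inv_mem hg.1, by
        rw [show ⁅z, g⁻¹⁆ = g⁻¹ * ⁅z, g⁆⁻¹ * g⁻¹⁻¹ by simp only [commutatorElement_def]; group,
          mul_inv_eq_iff_eq_mul.2 (commute_of_mem_cW (inv_mem hg.1) (inv_mem hg.2)).eq]
        exact inv_mem hg.2⟩ }
  have : cMod W a z = K := Subgroup.closure_eq K
  rw [this]
  rfl

omit [Finite G] [Finite Ω] [FaithfulSMul G Ω] in
theorem cMod_le_cW : cMod W a z ≤ cW W a := fun _ hg => (mem_cMod.1 hg).1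

omit [Finite G] [Finite Ω] [FaithfulSMul G Ω] in
theorem cY_le_cMod : cY W a z ≤ cMod W a z := fun g hg => mem_cMod.2 ⟨hg.1, by
  rw [commutatorElement_def, ← (Subgroup.mem_centralizer_singleton_iff.1 hg.2)]
  simp⟩

omit [Finite G] [Finite Ω] [FaithfulSMul G Ω] in
/-- On `cMod` the commutator with `z` is multiplicative. -/
theorem tau_mul {g g' : G} (hg : g ∈ cMod W a z) (hg' : g' ∈ cMod W a z) :
    ⁅z, g * g'⁆ = ⁅z, g⁆ * ⁅z, g'⁆ := by
  rw [show ⁅z, g * g'⁆ = ⁅z, g⁆ * (g * ⁅z, g'⁆ * g⁻¹) by simp only [commutatorElement_def]; group,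
    mul_inv_eq_iff_eq_mul.2 (commute_of_mem_cW (mem_cMod.1 hg).1 (mem_cMod.1 hg').2).eq]

omit [Finite G] [Finite Ω] [FaithfulSMul G Ω] in
theorem tau_eq_one_iff {g : G} (hg : g ∈ cW W a) : ⁅z, g⁆ = 1 ↔ g ∈ cY W a z := by
  rw [commutatorElement_eq_one_iff_mul_comm]
  exact ⟨fun he => ⟨hg, Subgroup.mem_centralizer_singleton_iff.2 he.symm⟩,
    fun he => (Subgroup.mem_centralizer_singleton_iff.1 he.2).symm⟩

end

include h

theorem z_mem_cY : z ∈ cY W a z := (h.eq_N ▸ h.mem_N).1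

theorem z_sq : z * z = 1 := h.sq_N z h.mem_N

/-- All of `W a` commutes with `z`. -/
theorem inf_centralizer : W a ⊓ centralizer {z} = W a :=
  inf_eq_left.2 fun _ hw => Subgroup.mem_centralizer_singleton_iff.2
    (commute_of_mem_cW (z_mem_cY h).1 hw).eq.symm

theorem W_le_Q : W a ≤ Q := (inf_centralizer h).ge.trans h.loc.inf_le

theorem Q_le_cY : Q ≤ cY W a z := fun x hx => by
  have hx' := h.loc.le hx
  refine ⟨⟨hx'.2, Subgroup.mem_centralizer_iff.2 fun d hd => ?_⟩, ?_⟩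
  · exact (h.loc.central x hx d ((inf_centralizer h).symm ▸ hd)).eq.symm
  · exact (closure_le _).2 Set.inter_subset_right hx'.1

theorem W_le_cMod : W a ≤ cMod W a z := (W_le_Q h).trans ((Q_le_cY h).trans cY_le_cMod)

theorem sq_W {w : G} (hw : w ∈ W a) : w * w = 1 := h.setting.sq a w hw

theorem inv_W {w : G} (hw : w ∈ W a) : w⁻¹ = w := inv_eq_of_mul_eq_one_right (sq_W h hw)

variable (hN : Nat.card N = 2)
include hN

theorem mem_N_iff {n : G} : n ∈ N ↔ n = 1 ∨ n = z := by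
  refine ⟨fun hn => ?_, ?_⟩
  · haveI := Fintype.ofFinite N
    by_contra hne
    push Not at hne
    have hz1 : z ≠ 1 := fun e => by
      have := h.bad.1
      rw [e, orderOf_one] at this
      omega
    have : 2 < Nat.card N := by
      rw [Nat.card_eq_fintype_card]
      refine Fintype.two_lt_card_iff.2 ⟨1, ⟨z, h.mem_N⟩, ⟨n, hn⟩, ?_, ?_, ?_⟩
      · exact fun e => hz1 (congrArg Subtype.val e).symm
      · exact fun e => hne.1 (congrArg Subtype.val e).symm
      · exact fun e => hne.2 (congrArg Subtype.val e).symm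
    omega
  · rintro (rfl | rfl)
    exacts [one_mem _, h.mem_N]

/-- The members of `cY` are `x` or `x * z`, `x ∈ Q`. -/
theorem cY_cases {g : G} (hg : g ∈ cY W a z) : g ∈ Q ∨ ∃ x ∈ Q, g = x * z := by
  obtain ⟨x, hx, n, hn, rfl⟩ := h.decomp g hg
  rcases (mem_N_iff h hN).1 hn with rfl | rfl
  · exact Or.inl (by rwa [mul_one])
  · exact Or.inr ⟨x, hx, rfl⟩

variable (hQ : Nat.card Q = Nat.card (W a) ^ 2)
include hQ

omit hN in
theorem eight_le : 8 ≤ Nat.card (W a) := by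
  obtain ⟨r, -, hr, hq⟩ := h.loc.square_log (by rw [inf_centralizer h]; exact hQ)
  rw [inf_centralizer h] at hq
  rw [hq]
  calc 8 = 2 ^ 3 := rfl
    _ ≤ 2 ^ r := Nat.pow_le_pow_right two_pos hr

omit hN in
theorem square_inj {x y : G} (hx : x ∈ Q) (hy : y ∈ Q) (he : x * x = y * y) : x⁻¹ * y ∈ W a :=
  h.loc.square_inj (by rw [inf_centralizer h]; exact hQ) x hx y hy he

omit hN in
/-- Few elements of `Q` commute with a given one outside `W a`. -/
theorem card_Q_le {x : G} (hx : x ∈ Q) (hxW : x ∉ W a) (K : Subgroup Q)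
    (hK : ∀ y ∈ K, Commute x (y : G)) : Nat.card K ≤ 2 * Nat.card (W a) := by
  classical
  haveI := Fintype.ofFinite G
  have hsub : ((fun y : Q => (y : G)) '' (K : Set Q)) ⊆
      (W a : Set G) ∪ (fun w => x * w) '' (W a : Set G) := by
    rintro _ ⟨y, hy, rfl⟩
    rcases h.loc.square_comm (by rw [inf_centralizer h]; exact hQ) x hx hxW y y.2 (hK y hy) with h1 | h1
    · exact Or.inl h1
    · exact Or.inr ⟨_, h1, by simp⟩
  have h1 := Set.ncard_le_ncard hsub (Set.toFinite _)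
  rw [Set.ncard_image_of_injective _ Subtype.val_injective] at h1
  refine le_trans (le_of_eq ?_) (h1.trans ((Set.ncard_union_le _ _).trans ?_))
  · exact (Nat.card_coe_set_eq (K : Set Q))
  · have := Set.ncard_image_le (f := fun w => x * w) (Set.toFinite (W a : Set G))
    have hc : (W a : Set G).ncard = Nat.card (W a) := (Nat.card_coe_set_eq _).symm
    omega

omit hN in
/-- Conjugation by `cMod` moves elements of `Q` inside `W a * N`. -/
theorem conj_Q {g x : G} (hg : g ∈ cMod W a z) (hx : x ∈ Q) :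
    ∃ w ∈ W a, ∃ n ∈ N, g * x * g⁻¹ = x * w * n := by
  have hgW := (mem_cMod.1 hg).1
  have hxY := Q_le_cY h hx
  have hmem : g * x * g⁻¹ ∈ cY W a z := by
    rw [← tau_eq_one_iff (mul_mem (mul_mem hgW hxY.1) (inv_mem hgW)), tau_mul (mul_mem hg (cY_le_cMod hxY))
      (inv_mem hg), tau_mul hg (cY_le_cMod hxY), (tau_eq_one_iff hxY.1).2 hxY, mul_one,
      ← tau_mul hg (inv_mem hg), mul_inv_cancel, commutatorElement_one_right]
  obtain ⟨x', hx', n, hn, he⟩ := h.decomp _ hmem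
  refine ⟨x⁻¹ * x', ?_, n, hn, by rw [mul_inv_cancel_left, he]⟩
  refine square_inj h hQ hx hx' ?_
  calc x * x = g * (x * x) * g⁻¹ :=
        (mul_inv_eq_iff_eq_mul.2 (commute_of_mem_cW hgW (h.loc.sq_mem x hx)).eq).symm
    _ = g * x * g⁻¹ * (g * x * g⁻¹) := by group
    _ = x' * (n * x') * n := by rw [he]; group
    _ = x' * x' * (n * n) := by rw [(h.comm_Q n hn x' hx').eq]; group
    _ = x' * x' := by rw [h.sq_N n hn, mul_one]

/-- Outside `cY` the square has trivial component in `Q / W a`. -/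
theorem sq_component {g : G} (hg : g ∈ cMod W a z) (hgY : g ∉ cY W a z) {x₀ n₀ : G} (hx₀ : x₀ ∈ Q)
    (hn₀ : n₀ ∈ N) (he : g * g = x₀ * n₀) : x₀ ∈ W a := by
  have hgW := (mem_cMod.1 hg).1
  have hgn : ∀ n ∈ N, g * n * g⁻¹ = n ∨ g * n * g⁻¹ = n * ⁅z, g⁆⁻¹⁻¹ := fun n hn => by
    rcases (mem_N_iff h hN).1 hn with rfl | rfl
    · exact Or.inl (by group)
    · refine Or.inr ?_
      have h1 : n * g * n⁻¹ * g⁻¹ ∈ W a := (mem_cMod.1 hg).2
      have hn1 : n⁻¹ = n := inv_eq_of_mul_eq_one_right (z_sq h)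
      rw [inv_inv, commutatorElement_def, hn1, ← mul_assoc, ← mul_assoc, ← mul_assoc, z_sq h, one_mul]
  by_contra hxW
  have hval : ∀ x ∈ Q, ⁅x₀, x⁆ = 1 ∨ ⁅x₀, x⁆ = ⁅z, g⁆ := by
    intro x hx
    obtain ⟨w, hw, n, hn, hgx⟩ := conj_Q h hQ hg hx
    have h2 : g * g * x * (g * g)⁻¹ = x * (n * (g * n * g⁻¹)) := by
      calc g * g * x * (g * g)⁻¹ = g * (g * x * g⁻¹) * g⁻¹ := by group
        _ = g * (x * w * n) * g⁻¹ := by rw [hgx]
        _ = g * x * g⁻¹ * (g * w * g⁻¹) * (g * n * g⁻¹) := by group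
        _ = x * w * (n * w) * (g * n * g⁻¹) := by
            rw [hgx, mul_inv_eq_iff_eq_mul.2 (commute_of_mem_cW hgW hw).eq]; group
        _ = x * (w * w) * n * (g * n * g⁻¹) := by
            rw [(h.comm_Q n hn w (W_le_Q h hw)).eq]; group
        _ = x * (n * (g * n * g⁻¹)) := by rw [sq_W h hw]; group
    have h3 : g * g * x * (g * g)⁻¹ = x₀ * x * x₀⁻¹ := by
      rw [he, show x₀ * n₀ * x * (x₀ * n₀)⁻¹ = x₀ * (n₀ * x * n₀⁻¹) * x₀⁻¹ by group,
        mul_inv_eq_iff_eq_mul.2 (h.comm_Q n₀ hn₀ x hx).eq]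
    have h4 : ⁅x₀, x⁆ = x * (n * (g * n * g⁻¹)) * x⁻¹ := by
      rw [commutatorElement_def, ← h3, h2]
    rcases hgn n hn with h5 | h5
    · left
      rw [h4, h5, h.sq_N n hn, mul_one, mul_inv_cancel]
    · right
      rw [h4, h5, inv_inv, ← mul_assoc n, h.sq_N n hn, one_mul,
        mul_inv_eq_iff_eq_mul.2 (commute_of_mem_cW (Q_le_cY h hx).1 (mem_cMod.1 hg).2).eq]
  -- the centraliser of `x₀` in `Q` has index at most two
  let f : Q →* G :=
    { toFun := fun x => ⁅x₀, (x : G)⁆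
      map_one' := commutatorElement_one_right _
      map_mul' := fun x y => by
        simp only [Subgroup.coe_mul]
        rw [show ⁅x₀, (x : G) * y⁆ = ⁅x₀, (x : G)⁆ * ((x : G) * ⁅x₀, (y : G)⁆ * (x : G)⁻¹) by
          simp only [commutatorElement_def]; group,
          mul_inv_eq_iff_eq_mul.2
            (commute_of_mem_cW (Q_le_cY h x.2).1 (h.loc.comm_mem x₀ hx₀ y y.2)).eq] }
  have hker : Nat.card f.ker ≤ 2 * Nat.card (W a) :=
    card_Q_le h hQ hx₀ hxW f.ker fun y hy =>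
      commutatorElement_eq_one_iff_mul_comm.1 (MonoidHom.mem_ker.1 hy)
  have hrange : Nat.card f.range ≤ 2 := by
    classical
    refine le_trans ?_ (Finset.card_le_two (a := (1 : G)) (b := ⁅z, g⁆))
    rw [← Nat.card_eq_finsetCard]
    refine Nat.card_le_card_of_injective (fun y => ⟨(y : G), ?_⟩) fun y y' e => ?_
    · obtain ⟨-, x, rfl⟩ := y
      rcases hval x x.2 with e | e <;> simp [f, e]
    · simp only [Subtype.mk.injEq] at e; exact Subtype.ext e
  have h8 := eight_le h hQ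
  have hmul : Nat.card Q = Nat.card f.ker * Nat.card f.range := by
    rw [Subgroup.card_eq_card_quotient_mul_card_subgroup f.ker, mul_comm,
      Nat.card_congr (QuotientGroup.quotientKerEquivRange f).toEquiv]
  rw [hQ] at hmul
  nlinarith

/-- `cMod` has exponent two modulo `W a`. -/
theorem sq_mem {g : G} (hg : g ∈ cMod W a z) : g * g ∈ W a := by
  have hzQ : ∀ x ∈ Q, x * z * (x * z) = x * x := fun x hx => by
    rw [show x * z * (x * z) = x * (z * x) * z by group, (h.comm_Q z h.mem_N x hx).eq,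
      show x * (x * z) * z = x * x * (z * z) by group, z_sq h, mul_one]
  by_cases hgY : g ∈ cY W a z
  · rcases cY_cases h hN hgY with hx | ⟨x, hx, rfl⟩
    · exact h.loc.sq_mem g hx
    · rw [hzQ x hx]; exact h.loc.sq_mem x hx
  have hgW := (mem_cMod.1 hg).1
  have h2 : g * g ∈ cY W a z := by
    rw [← tau_eq_one_iff (mul_mem hgW hgW), tau_mul hg hg]
    exact sq_W h (mem_cMod.1 hg).2
  obtain ⟨x₀, hx₀, n₀, hn₀, he⟩ := h.decomp _ h2
  have hxW := sq_component h hN hQ hg hgY hx₀ hn₀ he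
  rcases (mem_N_iff h hN).1 hn₀ with rfl | rfl
  · rwa [he, mul_one]
  exfalso
  refine hgY ⟨hgW, Subgroup.mem_centralizer_singleton_iff.2 ?_⟩
  have hc : Commute g (x₀ * n₀) := he ▸ (Commute.refl g).mul_right (Commute.refl g)
  have := ((commute_of_mem_cW hgW hxW).inv_right).mul_right hc
  rw [inv_mul_cancel_left] at this
  exact this.eq

/-- Commutators inside `cMod` lie in `W a`. -/
theorem comm_mem {g g' : G} (hg : g ∈ cMod W a z) (hg' : g' ∈ cMod W a z) : ⁅g, g'⁆ ∈ W a := by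
  have h1 := sq_mem h hN hQ (mul_mem hg hg')
  have h2 := sq_mem h hN hQ hg
  have h3 := sq_mem h hN hQ hg'
  have hc : Commute (g * g)⁻¹ g' :=
    (commute_of_mem_cW (mem_cMod.1 hg').1 (inv_mem h2)).symm
  rw [show ⁅g, g'⁆ = g * g' * g * ((g * g)⁻¹ * g') * (g' * g')⁻¹ by
      simp only [commutatorElement_def]; group, hc.eq,
    show g * g' * g * (g' * (g * g)⁻¹) * (g' * g')⁻¹ = g * g' * (g * g') * (g * g)⁻¹ * (g' * g')⁻¹ by group]
  exact mul_mem (mul_mem h1 (inv_mem h2)) (inv_mem h3)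

/-- The pairing of `cMod` modulo `W a` is nondegenerate. -/
theorem mem_W_of_central {v g : G} (hv : v ∈ cMod W a z) (hg : g ∈ cMod W a z) (hgY : g ∉ cY W a z)
    (hc : ∀ k ∈ cMod W a z, Commute v k) : v ∈ W a := by
  have hzP : z ∈ cMod W a z := cY_le_cMod (z_mem_cY h)
  have hvY : v ∈ cY W a z :=
    ⟨(mem_cMod.1 hv).1, Subgroup.mem_centralizer_singleton_iff.2 (hc z hzP).eq⟩
  have hQW : ∀ x ∈ Q, (∀ y ∈ Q, Commute x y) → x ∈ W a := fun x hx hxc => by
    by_contra hxW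
    have h1 := card_Q_le h hQ hx hxW ⊤ fun y _ => hxc y y.2
    rw [Subgroup.card_top, hQ] at h1
    have := eight_le h hQ
    nlinarith
  rcases cY_cases h hN hvY with hx | ⟨x, hx, rfl⟩
  · exact hQW v hx fun y hy => hc y (cY_le_cMod (Q_le_cY h hy))
  exfalso
  refine hgY ⟨(mem_cMod.1 hg).1, Subgroup.mem_centralizer_singleton_iff.2 ?_⟩
  have hxW : x ∈ W a := hQW x hx fun y hy => by
    have := (hc y (cY_le_cMod (Q_le_cY h hy))).mul_left (h.comm_Q z h.mem_N y hy)
    rwa [mul_assoc, z_sq h, mul_one] at this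
  have := ((commute_of_mem_cW (mem_cMod.1 hg).1 hxW).symm.inv_left).mul_left (hc g hg)
  rw [inv_mul_cancel_left] at this
  exact this.eq.symm

omit hN hQ h [Finite G] [Finite Ω] [FaithfulSMul G Ω] in
/-- With all translations induced, `cMod` is `q` times `cY`. -/
theorem card_cMod (hshift : Shift W a z) :
    Nat.card (cMod W a z) = Nat.card (cY W a z) * Nat.card (W a) := by
  let f : cMod W a z →* G :=
    { toFun := fun g => ⁅z, (g : G)⁆
      map_one' := commutatorElement_one_right _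
      map_mul' := fun g g' => tau_mul g.2 g'.2 }
  have hker : f.ker = (cY W a z).subgroupOf (cMod W a z) := by
    ext g
    rw [MonoidHom.mem_ker, Subgroup.mem_subgroupOf]
    exact tau_eq_one_iff (mem_cMod.1 g.2).1
  have hrange : f.range = W a := by
    ext w
    refine ⟨fun ⟨g, hg⟩ => hg ▸ (mem_cMod.1 g.2).2, fun hw => ?_⟩
    obtain ⟨g, hg, he⟩ := hshift w hw
    exact ⟨⟨g, mem_cMod.2 ⟨hg, he ▸ hw⟩⟩, he⟩
  rw [Subgroup.card_eq_card_quotient_mul_card_subgroup f.ker,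
    Nat.card_congr (QuotientGroup.quotientKerEquivRange f).toEquiv, hrange, hker,
    Nat.card_congr (Subgroup.subgroupOfEquivOfLe cY_le_cMod).toEquiv, mul_comm]

/-- `cY` is `Q` times the kernel. -/
theorem card_cY : Nat.card (cY W a z) = 2 * Nat.card (W a) ^ 2 := by
  let f : Q × N → cY W a z := fun p =>
    ⟨p.1 * p.2, mul_mem (Q_le_cY h p.1.2) (h.eq_N ▸ p.2.2 : (p.2 : G) ∈ cY W a z ⊓ stabilizer G b).1⟩
  have hzb : z • b = b := h.fix_b
  have hNb : ∀ n ∈ N, n • b = b := fun n hn => h.pointwise n hn b hzb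
  have hbpts : b ∈ pts W (centralizer {z}) := by
    rw [h.setting.toTISetting.pts_centralizer h.bad.1]; exact hzb
  have hf : Function.Bijective f := by
    refine ⟨fun p p' he => ?_, fun g => ?_⟩
    · have he' : (p.1 : G) * p.2 = p'.1 * p'.2 := congrArg Subtype.val he
      have hfix : ∀ q : Q × N, ((q.1 : G) * q.2) • b = (q.1 : G) • b := fun q => by
        rw [mul_smul, hNb _ q.2.2]
      have hb1 : (p.1 : G) • b = (p'.1 : G) • b := by rw [← hfix, ← hfix, he']
      have hy : (p.1⁻¹ * p'.1 : G) • b = b := by rw [mul_smul, ← hb1, Subgroup.coe_inv, inv_smul_smul]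
      obtain ⟨x, -, hx⟩ := h.loc.regular b hbpts h.ne b hbpts h.ne
      have h1 : (p.1⁻¹ * p'.1 : G) = 1 := (hx _ ⟨mul_mem (inv_mem p.1.2) p'.1.2, hy⟩).trans
        (hx 1 ⟨one_mem _, one_smul _ _⟩).symm
      have h2 : p.1 = p'.1 := Subtype.ext (inv_mul_eq_one.1 h1)
      refine Prod.ext h2 (Subtype.ext (mul_left_cancel (a := (p.1 : G)) ?_))
      rw [he', h2]
    · obtain ⟨x, hx, n, hn, he⟩ := h.decomp g g.2
      exact ⟨(⟨x, hx⟩, ⟨n, hn⟩), Subtype.ext he.symm⟩
  rw [← Nat.card_eq_of_bijective f hf, Nat.card_prod, hN, hQ, mul_comm]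

end CfsgLib.LocalEven.TIEndgame.SquareTwo
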