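import Cfsg.Agent.Lib.LocalEven.TIEndgame.PairCore
import Cfsg.Agent.Lib.LocalEven.TIEndgame.OddTransitiveNormaliser
import Cfsg.Agent.Lib.LocalEven.TIEndgame.Central.SquareTwoGroup
import Cfsg.Agent.Lib.LocalEven.TIEndgame.Central.SquareCount

/-!
# The Suzuki case: `cMod` is a Sylow 2-subgroup of the point stabiliser

A 2-element fixing two points centralises `W a` (the rank is odd), so a 2-group of the stabiliser of
`a` has order at most `q³ |N|`, which is the order of `cMod W a z`.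
-/

set_option autoImplicit false
set_option linter.style.haveILetI false

namespace CfsgLib.LocalEven.TIEndgame

open MulAction Subgroup

universe u

variable {G Ω : Type u} [Group G] [Finite G] [Finite Ω] [MulAction G Ω] [FaithfulSMul G Ω]
  {W : Ω → Subgroup G}

omit [Finite Ω] [FaithfulSMul G Ω] in
/-- With `|W a| = 2 ^ r`, `r` odd, a 2-element fixing two points centralises `W a`. -/
theorem TISetting.mem_cW_of_two (h : TISetting W) {a c : Ω} (hac : a ≠ c) {r : ℕ} (hr : Odd r)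
    (hr3 : 3 ≤ r) (hW : Nat.card ↥(W a) = 2 ^ r) {g : G} (hga : g • a = a) (hgc : g • c = c)
    {k : ℕ} (hg : g ^ 2 ^ k = 1) : g ∈ cW W a := by
  let ρ : stabilizer G a →* MulAut ↥(W a) :=
    (W a).normalizerMonoidHom.comp (Subgroup.inclusion (h.le_normalizer a))
  have hρ : ∀ (x : stabilizer G a) (y : W a), ((ρ x y : W a) : G) = (x : G) * y * (x : G)⁻¹ :=
    fun _ _ => rfl
  set K : Subgroup (stabilizer G a) := (swapCore G a c).subgroupOf (stabilizer G a) with hK
  have hle : swapCore G a c ≤ stabilizer G a := (swapCore_le a c).trans inf_le_left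
  have hKodd : Odd (Nat.card K) := by
    rw [hK, Nat.card_congr (subgroupOfEquivOfLe hle).toEquiv]
    exact odd_card_swapCore a c
  have hone : ρ ⟨g, hga⟩ = 1 := by
    refine OddTransitiveNormaliser.eq_one (V := ↥(W a)) (fun v => Subtype.ext (h.sq a v v.2)) hr hr3
      hW (K.map ρ) (hKodd.of_dvd_nat (K.card_map_dvd ρ)) (fun v w hv hw => ?_) ?_
      (k := k) (by rw [← map_pow, show (⟨g, hga⟩ : stabilizer G a) ^ 2 ^ k = 1 from Subtype.ext hg,
        map_one])
    · obtain ⟨x, hx, hxv⟩ := h.exists_conj_swapCore hac v.2 w.2 (fun e => hv (Subtype.ext e))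
        (fun e => hw (Subtype.ext e))
      exact ⟨ρ ⟨x, hle hx⟩, ⟨⟨x, hle hx⟩, mem_subgroupOf.2 hx, rfl⟩,
        Subtype.ext (by rw [hρ]; exact hxv)⟩
    · rintro _ ⟨x, hx, rfl⟩
      refine ⟨⟨g, hga⟩ * x * ⟨g, hga⟩⁻¹, mem_subgroupOf.2 ?_, by rw [map_mul, map_mul, map_inv]⟩
      exact conj_mem_swapCore (mem_pairStab.2 (Or.inl ⟨hga, hgc⟩)) (mem_subgroupOf.1 hx)
  refine Subgroup.mem_inf.2 ⟨hga, Subgroup.mem_centralizer_iff.2 fun w hw => ?_⟩
  have h1 := congrArg Subtype.val (DFunLike.congr_fun hone (⟨w, hw⟩ : W a))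
  rw [hρ] at h1
  exact (mul_inv_eq_iff_eq_mul.1 h1).symm

variable {a b : Ω} {z : G} {Q N J : Subgroup G}

namespace Fam

variable (h : Fam W a b z Q N J)
include h

/-- `cY W a z` is `Q` times `N`. -/
theorem card_cY : Nat.card ↥(cY W a z) = Nat.card Q * Nat.card N := by
  have hNb : ∀ n ∈ N, n • b = b := fun n hn => h.pointwise n hn b h.fix_b
  have hNY : N ≤ cY W a z := fun n hn =>
    (Subgroup.mem_inf.1 (show n ∈ cY W a z ⊓ stabilizer G b from h.eq_N ▸ hn)).1
  let f : Q × N → cY W a z := fun p =>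
    ⟨p.1 * p.2, mul_mem (SquareTwo.Q_le_cY h p.1.2) (hNY p.2.2)⟩
  have hbpts := h.mem_pts.2 h.fix_b
  rw [← Nat.card_prod]
  refine (Nat.card_eq_of_bijective f ⟨fun p p' he => ?_, fun g => ?_⟩).symm
  · have he' : (p.1 : G) * p.2 = p'.1 * p'.2 := congrArg Subtype.val he
    have hfix : ∀ q : Q × N, ((q.1 : G) * q.2) • b = (q.1 : G) • b := fun q => by
      rw [mul_smul, hNb _ q.2.2]
    have hb1 : (p.1 : G) • b = (p'.1 : G) • b := by rw [← hfix, ← hfix, he']
    have hy : (p.1⁻¹ * p'.1 : G) • b = b := by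
      rw [mul_smul, ← hb1, Subgroup.coe_inv, inv_smul_smul]
    obtain ⟨x, -, hx⟩ := h.loc.regular b hbpts h.ne b hbpts h.ne
    have h1 : (p.1⁻¹ * p'.1 : G) = 1 := (hx _ ⟨mul_mem (inv_mem p.1.2) p'.1.2, hy⟩).trans
      (hx 1 ⟨one_mem _, one_smul _ _⟩).symm
    have h2 : p.1 = p'.1 := Subtype.ext (inv_mul_eq_one.1 h1)
    refine Prod.ext h2 (Subtype.ext (mul_left_cancel (a := (p.1 : G)) ?_))
    rw [he', h2]
  · obtain ⟨x, hx, n, hn, he⟩ := h.decomp g g.2
    exact ⟨(⟨x, hx⟩, ⟨n, hn⟩), Subtype.ext he.symm⟩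

variable (hsq : Nat.card Q = Nat.card ↥(W a) ^ 2)
  (hn : Nat.card Ω = Nat.card (fixedBy Ω z) *
    (1 + (Nat.card (fixedBy Ω z) - 1) * (Nat.card ↥(W a) - 1)))
  (htwo : ∀ T : Subgroup G, IsPGroup 2 T → T ≤ cW W a → ∀ c : Ω, c ≠ a → T ≤ stabilizer G c →
    Nat.card T ≤ Nat.card N)
include hsq hn htwo

/-- A 2-group fixing `a` has order at most `q³ |N|`. -/
theorem card_two_le {S : Subgroup G} (hS : IsPGroup 2 S) (hSa : S ≤ stabilizer G a) :
    Nat.card S ≤ Nat.card ↥(W a) ^ 3 * Nat.card N := by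
  classical
  haveI : Fact (Nat.Prime 2) := ⟨Nat.prime_two⟩
  have hW : W a ⊓ centralizer {z} = W a := h.inf_centralizer_eq h.fix_a
  obtain ⟨r, hr, hr3, hqr⟩ := h.loc.square_log (by rw [hW]; exact hsq)
  rw [hW] at hqr
  set P := S.subgroupOf (stabilizer G a) with hP
  have hPp : IsPGroup 2 P := hS.of_equiv (subgroupOfEquivOfLe hSa).symm
  have hcard : Nat.card P = Nat.card S := Nat.card_congr (subgroupOfEquivOfLe hSa).toEquiv
  -- some orbit is small
  obtain ⟨c, hc⟩ : ∃ c : SubMulAction.ofStabilizer G a,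
      Nat.card (orbit P c) ≤ Nat.card ↥(W a) ^ 3 := by
    by_contra hall
    push Not at hall
    have hdvd : 2 ^ (3 * r + 1) ∣ Nat.card (SubMulAction.ofStabilizer G a) := by
      haveI := Fintype.ofFinite (orbitRel.Quotient P (SubMulAction.ofStabilizer G a))
      rw [Nat.card_congr (selfEquivSigmaOrbits P _), Nat.card_sigma]
      refine Finset.dvd_sum fun o _ => ?_
      obtain ⟨i, hi⟩ := hPp.card_orbit o.out
      rw [hi]
      refine pow_dvd_pow 2 ?_
      have h1 := hall o.out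
      rw [hi, hqr, ← pow_mul] at h1
      have := (Nat.pow_lt_pow_iff_right one_lt_two).1 h1
      omega
    have hX : Nat.card (SubMulAction.ofStabilizer G a) = Nat.card Ω - 1 := by
      show Nat.card ↑({a}ᶜ : Set Ω) = _
      rw [Nat.card_coe_set_eq, Set.ncard_compl, Set.ncard_singleton]
    obtain ⟨m, hm⟩ : ∃ m, 2 ^ r = m + 1 :=
      ⟨2 ^ r - 1, (Nat.sub_add_cancel Nat.one_le_two_pow).symm⟩
    rw [hX, hn, h.card_fixed, hsq, hqr, Nat.add_sub_cancel, hm, Nat.add_sub_cancel,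
      show ((m + 1) ^ 2 + 1) * (1 + (m + 1) ^ 2 * m) = (m + 1) ^ 3 * (m ^ 2 + m + 1) + 1 by ring,
      Nat.add_sub_cancel, ← hm, ← pow_mul, show r * 3 = 3 * r by ring, pow_succ] at hdvd
    have h2 : 2 ∣ m ^ 2 + m + 1 := Nat.dvd_of_mul_dvd_mul_left (by positivity) hdvd
    have h3 : Even (m ^ 2 + m) := by
      rw [show m ^ 2 + m = m * (m + 1) by ring]
      exact Nat.even_mul_succ_self m
    exact Nat.not_even_iff_odd.2 h3.add_one (even_iff_two_dvd.2 h2)
  -- its stabiliser centralises `W a`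
  set T := ((stabilizer P c).map P.subtype).map (stabilizer G a).subtype with hT
  have hTcard : Nat.card T = Nat.card (stabilizer P c) := by rw [hT, card_subtype, card_subtype]
  have hTmem : ∀ g ∈ T, g ∈ S ∧ g • a = a ∧ g • (c : Ω) = c := by
    intro g hg
    rw [hT, Subgroup.mem_map] at hg
    obtain ⟨-, ⟨p, hp, rfl⟩, rfl⟩ := hg
    exact ⟨mem_subgroupOf.1 p.2, p.1.2, congrArg Subtype.val (mem_stabilizer_iff.1 hp)⟩
  have hTY : T ≤ cW W a := fun g hg => by
    obtain ⟨hgS, hga, hgc⟩ := hTmem g hg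
    obtain ⟨k, hk⟩ := hS ⟨g, hgS⟩
    exact h.setting.toTISetting.mem_cW_of_two (fun e => c.2 e.symm) hr hr3 hqr hga hgc (k := k)
      (congrArg Subtype.val hk)
  have hle := htwo T (hS.to_le fun g hg => (hTmem g hg).1) hTY c c.2
    fun g hg => (hTmem g hg).2.2
  rw [← hcard, ← Subgroup.card_mul_index (stabilizer P c), index_stabilizer, ← Nat.card_coe_set_eq,
    mul_comm]
  exact Nat.mul_le_mul hc (hTcard ▸ hle)

/-- `cMod W a z` has the largest order of a 2-group of `cW W a`. -/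
theorem card_two_le_cMod (hshift : Shift W a z) (T : Subgroup G) (hT : IsPGroup 2 T)
    (hTY : T ≤ cW W a) : Nat.card T ≤ Nat.card ↥(cMod W a z) := by
  refine (h.card_two_le hsq hn htwo hT (hTY.trans inf_le_left)).trans (le_of_eq ?_)
  rw [SquareTwo.card_cMod hshift, h.card_cY, hsq]
  ring

/-- The index of `cW W a` in the stabiliser of `a` is odd. -/
theorem odd_index (hshift : Shift W a z) :
    Odd ((cW W a).subgroupOf (stabilizer G a)).index := by
  classical
  haveI : Fact (Nat.Prime 2) := ⟨Nat.prime_two⟩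
  have hW : W a ⊓ centralizer {z} = W a := h.inf_centralizer_eq h.fix_a
  obtain ⟨r, -, -, hqr⟩ := h.loc.square_log (by rw [hW]; exact hsq)
  rw [hW] at hqr
  have hN2 : IsPGroup 2 N := fun n => ⟨1, Subtype.ext (by simpa [pow_two] using h.sq_N n n.2)⟩
  obtain ⟨i, hi⟩ := hN2.exists_card_eq
  have hP : Nat.card ↥(cMod W a z) = 2 ^ (3 * r + i) := by
    rw [SquareTwo.card_cMod hshift, h.card_cY, hsq, hi, hqr, pow_add, mul_comm 3 r, pow_mul]
    ring
  rw [← Nat.not_even_iff_odd, even_iff_two_dvd]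
  intro h2
  have hdvd : 2 ^ (3 * r + i + 1) ∣ Nat.card (stabilizer G a) := by
    rw [← Subgroup.card_mul_index ((cW W a).subgroupOf (stabilizer G a)), pow_succ]
    refine Nat.mul_dvd_mul ?_ h2
    rw [← hP, Nat.card_congr (subgroupOfEquivOfLe
      (show cW W a ≤ stabilizer G a from inf_le_left)).toEquiv]
    exact card_dvd_of_le SquareTwo.cMod_le_cW
  obtain ⟨S, hS⟩ := Sylow.exists_subgroup_card_pow_prime 2 hdvd
  have h1 := h.card_two_le hsq hn htwo (S := S.map (stabilizer G a).subtype)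
    (IsPGroup.of_card (n := 3 * r + i + 1) (by rw [card_subtype, hS])) (map_subtype_le S)
  rw [card_subtype, hS, hqr, hi, ← pow_mul, ← pow_add,
    Nat.pow_le_pow_iff_right one_lt_two] at h1
  omega

end Fam

end CfsgLib.LocalEven.TIEndgame
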