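import Cfsg.Agent.Lib.LocalEven.TIEndgame.Central.FamExists
import Cfsg.Agent.Lib.LocalEven.TIEndgame.Central.SquareIndex

/-!
# Facts about the standing data of the centred case

Bound on two-point stabilisers, scalars, the normaliser of `cY W a z` and the fact that all
translations of `z` by members at `a` are induced.
-/

set_option autoImplicit false
set_option linter.style.haveILetI false

namespace CfsgLib.LocalEven.TIEndgame

open MulAction Subgroup
open scoped commutatorElement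

universe u

variable {G Ω : Type u} [Group G] [Finite G] [Finite Ω] [MulAction G Ω] [FaithfulSMul G Ω]
  {W : Ω → Subgroup G} {a b : Ω} {z : G} {Q N J : Subgroup G}

omit [Finite G] [Finite Ω] [FaithfulSMul G Ω] in
/-- An element fixing `a` and centralising `x` normalises `cY W a x`. -/
theorem conj_mem_cY (h : TISetting W) {x g y : G} (hga : g • a = a) (hgx : Commute g x)
    (hy : y ∈ cY W a x) : g * y * g⁻¹ ∈ cY W a x := by
  obtain ⟨hya, hyW, hyx⟩ := mem_cY_iff.1 hy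
  have hg' : g⁻¹ • a = a := inv_smul_eq_iff.2 hga.symm
  refine mem_cY_iff.2 ⟨by rw [mul_smul, mul_smul, hg', hya, hga], fun d hd => ?_,
    (hgx.mul_left hyx).mul_left hgx.inv_left⟩
  have hd' := h.conj g⁻¹ a d hd
  rw [hg', inv_inv] at hd'
  calc g * y * g⁻¹ * d = g * (y * (g⁻¹ * d * g)) * g⁻¹ := by group
    _ = g * (g⁻¹ * d * g * y) * g⁻¹ := by rw [(hyW _ hd').eq]
    _ = d * (g * y * g⁻¹) := by group

omit [Finite G] [Finite Ω] [FaithfulSMul G Ω] in
/-- Elements of `cMod` normalise `cY`. -/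
theorem conj_mem_cY_of_cMod (h : TISetting W) {g y : G} (hg : g ∈ cMod W a z)
    (hy : y ∈ cY W a z) : g * y * g⁻¹ ∈ cY W a z := by
  have hgW := (SquareTwo.mem_cMod.1 hg).1
  have hy' := SquareTwo.cY_le_cMod hy
  rw [← SquareTwo.tau_eq_one_iff (mul_mem (mul_mem hgW hy.1) (inv_mem hgW)),
    SquareTwo.tau_mul (mul_mem hg hy') (inv_mem hg), SquareTwo.tau_mul hg hy',
    (SquareTwo.tau_eq_one_iff hy.1).2 hy, mul_one, ← SquareTwo.tau_mul hg (inv_mem hg),
    mul_inv_cancel, commutatorElement_one_right]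

/-- `j` is the scalar of `n`. -/
def IsScalar (W : Ω → Subgroup G) (a : Ω) (z : G) (J : Subgroup G) (n j : G) : Prop :=
  j ∈ J ∧ ∀ f ∈ W a, ∀ c : Ω, c ≠ a → (z * f) • c = c → (n * (j * f * j⁻¹)) • c = c

namespace Fam

variable (h : Fam W a b z Q N J)
include h

theorem localPair : LocalPair W a b z Q J where
  bad := h.bad
  fix_a := h.fix_a
  fix_b := h.fix_b
  ne := h.ne
  inf_eq := fun _ hc => h.inf_centralizer_eq hc
  loc := h.loc
  torus := h.torus
  four := h.four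
  not_cube := h.not_cube

theorem mem_cY_of_mem {n : G} (hn : n ∈ N) : n ∈ cY W a z ∧ n • b = b := by
  rw [h.eq_N] at hn
  exact ⟨(Subgroup.mem_inf.1 hn).1, mem_stabilizer_iff.1 (Subgroup.mem_inf.1 hn).2⟩

theorem commute_W_of_mem {n f : G} (hn : n ∈ N) (hf : f ∈ W a) : Commute n f :=
  (mem_cY_iff.1 (h.mem_cY_of_mem hn).1).2.1 f hf

theorem z_ne_one : z ≠ 1 := fun e => by
  have := h.bad.1
  rw [e, orderOf_one] at this
  omega

theorem conj_J {j f : G} (hj : j ∈ J) (hf : f ∈ W a) : j * f * j⁻¹ ∈ W a := by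
  have := h.setting.conj j a f hf
  rwa [h.localPair.J_fix_a hj] at this

theorem W_unique {n w w' : G} (hw : w ∈ W a) (hw' : w' ∈ W a) {c : Ω} (hca : c ≠ a)
    (h1 : (n * w) • c = c) (h2 : (n * w') • c = c) : w = w' := by
  by_contra hne
  refine hca (h.setting.unique a _ (mul_mem (inv_mem hw') hw) (fun e => hne (inv_mul_eq_one.1 e).symm)
    c ?_)
  rw [mul_smul] at h1 h2
  rw [mul_smul, smul_left_cancel n (h1.trans h2.symm), inv_smul_smul]

theorem isPGroup_cY : IsPGroup 2 (cY W a z) := by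
  haveI : Fact (Nat.Prime 2) := ⟨Nat.prime_two⟩
  have hN2 : IsPGroup 2 N := fun n => ⟨1, Subtype.ext (by simpa [pow_two] using h.sq_N n n.2)⟩
  obtain ⟨i, hi⟩ := hN2.exists_card_eq
  obtain ⟨k, hk⟩ := h.loc.pgroup.exists_card_eq
  exact IsPGroup.of_card (n := k + i) (by rw [h.card_cY, hk, hi, pow_add])

/-- With all translations induced, the order of `cMod`. -/
theorem card_cMod (hshift : Shift W a z) :
    Nat.card ↥(cMod W a z) = Nat.card Q * Nat.card N * Nat.card ↥(W a) := by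
  rw [SquareTwo.card_cMod hshift, h.card_cY]

theorem isPGroup_cMod : IsPGroup 2 (cMod W a z) := by
  intro g
  have hg2 : (g : G) * g ∈ cY W a z := by
    rw [← SquareTwo.tau_eq_one_iff (mul_mem (SquareTwo.cMod_le_cW g.2) (SquareTwo.cMod_le_cW g.2)),
      SquareTwo.tau_mul g.2 g.2]
    exact h.setting.sq a _ (SquareTwo.mem_cMod.1 g.2).2
  obtain ⟨k, hk⟩ := h.isPGroup_cY ⟨_, hg2⟩
  refine ⟨k + 1, Subtype.ext ?_⟩
  have hk' : ((g : G) * g) ^ 2 ^ k = 1 := congrArg Subtype.val hk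
  rw [SubgroupClass.coe_pow, pow_succ', pow_mul, pow_two, hk']
  rfl

variable (hloc : LocTorus W)
  (hφ : ∀ x : G, IsBad Ω x → Nat.card (fixedBy Ω x) = Nat.card (fixedBy Ω z))
  (hmul : ∀ x : G, ∀ c : Ω, IsBad Ω x → x • c = c → ∀ r ∈ W c, IsBad Ω (x * r))
include hloc hφ

omit hloc in
theorem eq_one_of_fix_moved {n : G} (hn : n ∈ N) {c : Ω} (hc : z • c ≠ c) (hnc : n • c = c) :
    n = 1 := by
  by_contra hn1
  obtain ⟨hnY, hnb⟩ := h.mem_cY_of_mem hn
  have hbad : IsBad Ω n := ⟨orderOf_eq_prime (by rw [pow_two, h.sq_N n hn]) hn1, a, b, h.ne.symm,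
    (mem_cY_iff.1 hnY).1, hnb⟩
  have hle := Set.ncard_le_ncard
    (show insert c (fixedBy Ω z) ⊆ fixedBy Ω n from
      Set.insert_subset hnc fun e he => h.pointwise n hn e he) (Set.toFinite _)
  rw [Set.ncard_insert_of_notMem (show c ∉ fixedBy Ω z from hc), ← Nat.card_coe_set_eq,
    ← Nat.card_coe_set_eq, hφ _ hbad] at hle
  omega

/-- A 2-group in `cW W a` fixing a second point is no larger than `N`. -/
theorem two_stab (T : Subgroup G) (hT : IsPGroup 2 T) (hTY : T ≤ cW W a) (c : Ω) (hca : c ≠ a)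
    (hTc : T ≤ stabilizer G c) : Nat.card T ≤ Nat.card N := by
  haveI : Fact (Nat.Prime 2) := ⟨Nat.prime_two⟩
  by_cases hT1 : Nontrivial T
  swap
  · haveI := not_nontrivial_iff_subsingleton.1 hT1
    rw [Nat.card_of_subsingleton (1 : T)]
    exact Nat.card_pos
  haveI := hT.center_nontrivial
  obtain ⟨k, hk0, hk⟩ := (hT.to_subgroup (center T)).nontrivial_iff_card.1 inferInstance
  obtain ⟨v, hv⟩ := exists_prime_orderOf_dvd_card' (G := center T) 2
    (hk ▸ dvd_pow_self 2 (by omega))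
  set v' : G := ((v : T) : G) with hv'
  have hvo : orderOf v' = 2 := by rw [hv', Subgroup.orderOf_coe, Subgroup.orderOf_coe, hv]
  have hva : v' • a = a := mem_stabilizer_iff.1 (Subgroup.mem_inf.1 (hTY v.1.2)).1
  have hvc : v' • c = c := mem_stabilizer_iff.1 (hTc v.1.2)
  have hbad : IsBad Ω v' := ⟨hvo, a, c, hca.symm, hva, hvc⟩
  obtain ⟨Qv, Jv, Pv⟩ := exists_localPair h.setting.toTISetting h.all hloc h.four hφ
    (h.localPair.cube_ne h.setting.toTISetting h.all hloc hφ) hbad hva hvc hca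
  have hle : T ≤ cY W a v' ⊓ stabilizer G c := fun g hg => by
    refine Subgroup.mem_inf.2 ⟨Subgroup.mem_inf.2 ⟨hTY hg, mem_centralizer_singleton_iff.2 ?_⟩, hTc hg⟩
    exact congrArg Subtype.val (Subgroup.mem_center_iff.1 v.2 ⟨g, hg⟩)
  refine (Subgroup.card_le_of_le hle).trans ?_
  have hQ : Nat.card Qv = Nat.card Q := Nat.succ_injective
    ((Pv.card_fixed h.setting.toTISetting).symm.trans
      ((hφ _ hbad).trans (h.localPair.card_fixed h.setting.toTISetting)))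
  have h1 := h.maximal v' hbad hva
  rw [Pv.card_cY h.setting.toTISetting, h.card_cY, hQ] at h1
  exact Nat.le_of_mul_le_mul_left h1 Nat.card_pos

include hmul

theorem exists_point {f : G} (hf : f ∈ W a) :
    ∃ c Q' J', LocalPair W a c (z * f) Q' J' ∧ (f ≠ 1 → z • c ≠ c) := by
  by_cases hf1 : f = 1
  · subst hf1
    exact ⟨b, Q, J, by rw [mul_one]; exact h.localPair, fun e => absurd rfl e⟩
  · obtain ⟨c, Q', J', P', hc⟩ := h.localPair.exists_translate h.setting.toTISetting h.all hloc hφ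
      hmul hf hf1
    exact ⟨c, Q', J', P', fun _ => hc⟩

/-- A scalar moves the fixed points of a translate of `z` onto themselves. -/
theorem fixedBy_eq {n j f : G} (hn : n ∈ N) (hn1 : n ≠ 1) (hj : IsScalar W a z J n j)
    (hf : f ∈ W a) : fixedBy Ω (n * (j * f * j⁻¹)) = fixedBy Ω (z * f) := by
  obtain ⟨c, Q', J', P', -⟩ := h.exists_point hloc hφ hmul hf
  obtain ⟨hnY, hnb⟩ := h.mem_cY_of_mem hn
  have hw := h.conj_J hj.1 hf
  have hua : (n * (j * f * j⁻¹)) • a = a := by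
    rw [mul_smul, mem_stabilizer_iff.1 (h.setting.fix a hw), (mem_cY_iff.1 hnY).1]
  have hsub : fixedBy Ω (z * f) ⊆ fixedBy Ω (n * (j * f * j⁻¹)) := fun d hd => by
    by_cases hda : d = a
    · rw [hda]; exact hua
    · exact hj.2 f hf d hda hd
  have hne : n * (j * f * j⁻¹) ≠ 1 := fun e => hn1 (h.localPair.eq_one_of_fix h.setting.toTISetting
    (h.localPair.W_le_Q ((eq_inv_of_mul_eq_one_left e).symm ▸ inv_mem hw)) hnb)
  have hu2 : n * (j * f * j⁻¹) * (n * (j * f * j⁻¹)) = 1 := by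
    calc n * (j * f * j⁻¹) * (n * (j * f * j⁻¹))
        = n * ((j * f * j⁻¹) * n) * (j * f * j⁻¹) := by group
      _ = n * n * ((j * f * j⁻¹) * (j * f * j⁻¹)) := by
          rw [← (h.commute_W_of_mem hn hw).eq]; group
      _ = 1 := by rw [h.sq_N n hn, h.setting.sq a _ hw, one_mul]
  have hbad : IsBad Ω (n * (j * f * j⁻¹)) :=
    ⟨orderOf_eq_prime (by rw [pow_two, hu2]) hne, a, c, P'.ne.symm, hua, hsub P'.fix_b⟩
  refine (Set.eq_of_subset_of_ncard_le hsub ?_ (Set.toFinite _)).symm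
  rw [← Nat.card_coe_set_eq, ← Nat.card_coe_set_eq, hφ _ hbad, hφ _ P'.bad]

theorem exists_isScalar {n : G} (hn : n ∈ N) (hn1 : n ≠ 1) : ∃ j, IsScalar W a z J n j := by
  obtain ⟨j, hj, hj'⟩ := h.scalar n hn hn1
  exact ⟨j, hj, hj'⟩

omit hloc hφ hmul in
theorem isScalar_self : IsScalar W a z J z 1 :=
  ⟨one_mem _, fun f _ c _ hfc => by simpa using hfc⟩

theorem scalar_unique {n j j' : G} (hj : IsScalar W a z J n j) (hj' : IsScalar W a z J n j') :
    j = j' := by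
  obtain ⟨⟨f, hf⟩, hf1'⟩ := (Subgroup.ne_bot_iff_exists_ne_one).1 (h.setting.ne_bot a)
  obtain ⟨c, Q', J', P', -⟩ := h.exists_point hloc hφ hmul hf
  have he := h.W_unique (h.conj_J hj.1 hf) (h.conj_J hj'.1 hf) P'.ne
    (hj.2 f hf c P'.ne P'.fix_b) (hj'.2 f hf c P'.ne P'.fix_b)
  refine (inv_mul_eq_one.1 (h.torus_free (mul_mem (inv_mem hj'.1) hj.1) hf
    (fun e => hf1' (Subtype.ext e)) ?_)).symm
  refine mul_inv_eq_iff_eq_mul.1 ?_
  calc j'⁻¹ * j * f * (j'⁻¹ * j)⁻¹ = j'⁻¹ * (j * f * j⁻¹) * j' := by group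
    _ = f := by rw [he]; group

theorem scalar_inj {n m j : G} (hn : n ∈ N) (hm : m ∈ N) (hjn : IsScalar W a z J n j)
    (hjm : IsScalar W a z J m j) : n = m := by
  obtain ⟨⟨f, hf⟩, hf1'⟩ := (Subgroup.ne_bot_iff_exists_ne_one).1 (h.setting.ne_bot a)
  obtain ⟨c, Q', J', P', hc⟩ := h.exists_point hloc hφ hmul hf
  have hw := h.conj_J hjn.1 hf
  set w := j * f * j⁻¹ with hwdef
  have hfix : (n * m) • c = c := by
    have e : n * w * (m * w) = n * m := by
      calc n * w * (m * w) = n * (w * m) * w := by group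
        _ = n * m * (w * w) := by rw [← (h.commute_W_of_mem hm hw).eq]; group
        _ = n * m := by rw [h.setting.sq a w hw, mul_one]
    rw [← e, mul_smul, hjm.2 f hf c P'.ne P'.fix_b, hjn.2 f hf c P'.ne P'.fix_b]
  rw [mul_eq_one_iff_eq_inv.1
      (h.eq_one_of_fix_moved hφ (mul_mem hn hm) (hc fun e => hf1' (Subtype.ext e)) hfix),
    inv_eq_of_mul_eq_one_right (h.sq_N m hm)]

theorem card_N_le : Nat.card N ≤ Nat.card ↥(W a) := by
  obtain ⟨⟨f, hf⟩, hf1'⟩ := (Subgroup.ne_bot_iff_exists_ne_one).1 (h.setting.ne_bot a)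
  obtain ⟨c, Q', J', P', hc⟩ := h.exists_point hloc hφ hmul hf
  have hex : ∀ n : N, ∃ w : W a, ((n : G) * w) • c = c := fun n => by
    obtain ⟨w, hw, hnw⟩ := h.localPair.exists_mul_fix h.setting.toTISetting h.all hloc hφ hmul hf
      P' (h.mem_cY_of_mem n.2).1 (h.mem_cY_of_mem n.2).2
    exact ⟨⟨w, hw⟩, hnw⟩
  choose w hw using hex
  refine Nat.card_le_card_of_injective w fun n m e => Subtype.ext ?_
  have hwW : (w m : G) ∈ W a := (w m).2
  have h1 := hw n
  rw [e] at h1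
  have hfix : ((n : G) * m) • c = c := by
    have e' : (n : G) * w m * ((m : G) * w m) = (n : G) * m := by
      calc (n : G) * w m * ((m : G) * w m) = (n : G) * ((w m : G) * m) * w m := by group
        _ = (n : G) * m * ((w m : G) * w m) := by rw [← (h.commute_W_of_mem m.2 hwW).eq]; group
        _ = (n : G) * m := by rw [h.setting.sq a _ hwW, mul_one]
    rw [← e', mul_smul, hw m, h1]
  rw [mul_eq_one_iff_eq_inv.1
      (h.eq_one_of_fix_moved hφ (mul_mem n.2 m.2) (hc fun e => hf1' (Subtype.ext e)) hfix),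
    inv_eq_of_mul_eq_one_right (h.sq_N _ m.2)]

omit hloc hφ hmul in
theorem conj_N_decomp {g n : G} (hg : g ∈ cW W a) (hgY : ∀ y ∈ cY W a z, g * y * g⁻¹ ∈ cY W a z)
    (hn : n ∈ N) (hn1 : n ≠ 1) : ∃ w ∈ W a, ∃ m ∈ N, m ≠ 1 ∧ g * n * g⁻¹ = w * m := by
  obtain ⟨hnY, hnb⟩ := h.mem_cY_of_mem hn
  obtain ⟨x, hx, m, hm, he⟩ := h.decomp _ (hgY n hnY)
  have hxW : x ∈ W a := by
    refine h.loc.invol x hx ?_
    calc x * x = x * x * (m * m) := by rw [h.sq_N m hm, mul_one]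
      _ = x * (x * m) * m := by group
      _ = x * (m * x) * m := by rw [(h.comm_Q m hm x hx).eq]
      _ = (x * m) * (x * m) := by group
      _ = g * (n * n) * g⁻¹ := by rw [← he]; group
      _ = 1 := by rw [h.sq_N n hn]; group
  refine ⟨x, hxW, m, hm, fun hm1 => hn1 (h.localPair.eq_one_of_fix h.setting.toTISetting ?_ hnb), he⟩
  rw [hm1, mul_one] at he
  refine h.localPair.W_le_Q ?_
  have : n = g⁻¹ * x * g := by rw [← he]; group
  rw [this, mul_assoc, ← (SquareTwo.commute_of_mem_cW hg hxW).eq, inv_mul_cancel_left]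
  exact hxW

/-- A normalising element of `cW W a` multiplies all scalars by one element of the torus. -/
theorem scalar_conj {g : G} (hg : g ∈ cW W a) {n m m₀ w w₀ jn jm j₀ : G} (hn : n ∈ N)
    (hjn : IsScalar W a z J n jn) (hw₀ : w₀ ∈ W a) (hm₀ : m₀ ∈ N) (hm₀1 : m₀ ≠ 1)
    (hz : g * z * g⁻¹ = w₀ * m₀) (hj₀ : IsScalar W a z J m₀ j₀) (hw : w ∈ W a) (hm : m ∈ N)
    (he : g * n * g⁻¹ = w * m) (hjm : IsScalar W a z J m jm) :
    jm = jn * j₀ ∧ w = jn * w₀ * jn⁻¹ := by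
  have hga : g • a = a := mem_stabilizer_iff.1 (Subgroup.mem_inf.1 hg).1
  have key : ∀ f ∈ W a, w * (jn * f * jn⁻¹) = jm * j₀⁻¹ * (w₀ * f) * (jm * j₀⁻¹)⁻¹ := by
    intro f hf
    obtain ⟨c, Q', J', P', -⟩ := h.exists_point hloc hφ hmul hf
    have hda : g • c ≠ a := fun e => P'.ne (smul_left_cancel g (e.trans hga.symm))
    have hgf := SquareTwo.commute_of_mem_cW hg hf
    set f' := j₀⁻¹ * (w₀ * f) * j₀ with hf'
    have hf'W : f' ∈ W a := by
      have := h.conj_J (inv_mem hj₀.1) (mul_mem hw₀ hf)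
      rwa [inv_inv] at this
    have hconj : ∀ t : G, t • c = c → (g * t * g⁻¹) • g • c = g • c := fun t ht => by
      rw [mul_smul, inv_smul_smul, mul_smul, ht]
    have h1 : (m₀ * (j₀ * f' * j₀⁻¹)) • g • c = g • c := by
      have := hconj _ P'.fix_b
      rwa [show g * (z * f) * g⁻¹ = g * z * g⁻¹ * (g * f * g⁻¹) by group, hgf.eq,
        mul_inv_cancel_right, hz, ← (h.commute_W_of_mem hm₀ hw₀).eq, mul_assoc,
        show w₀ * f = j₀ * f' * j₀⁻¹ by rw [hf']; group] at this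
    have h2 : (z * f') • g • c = g • c := by
      have : g • c ∈ fixedBy Ω (m₀ * (j₀ * f' * j₀⁻¹)) := h1
      rwa [h.fixedBy_eq hloc hφ hmul hm₀ hm₀1 hj₀ hf'W] at this
    have hjnf := h.conj_J hjn.1 hf
    have h3 : (m * (w * (jn * f * jn⁻¹))) • g • c = g • c := by
      have := hconj _ (hjn.2 f hf c P'.ne P'.fix_b)
      rwa [show g * (n * (jn * f * jn⁻¹)) * g⁻¹ = g * n * g⁻¹ * (g * (jn * f * jn⁻¹) * g⁻¹) by group,
        (SquareTwo.commute_of_mem_cW hg hjnf).eq, mul_inv_cancel_right, he,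
        ← (h.commute_W_of_mem hm hw).eq, mul_assoc] at this
    have h4 := h.W_unique (mul_mem hw hjnf) (h.conj_J hjm.1 hf'W) hda h3
      (hjm.2 f' hf'W (g • c) hda h2)
    rw [h4, hf']; group
  have hw' : w = jm * j₀⁻¹ * w₀ * (jm * j₀⁻¹)⁻¹ := by
    have := key 1 (one_mem _)
    simpa using this
  obtain ⟨⟨f, hf⟩, hf1'⟩ := (Subgroup.ne_bot_iff_exists_ne_one).1 (h.setting.ne_bot a)
  have h5 : jn * f * jn⁻¹ = jm * j₀⁻¹ * f * (jm * j₀⁻¹)⁻¹ := by
    refine mul_left_cancel (a := w) ((key f hf).trans ?_)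
    rw [hw']; group
  have h6 : jn = jm * j₀⁻¹ := by
    refine (inv_mul_eq_one.1 (h.torus_free
      (mul_mem (inv_mem (mul_mem hjm.1 (inv_mem hj₀.1))) hjn.1) hf
      (fun e => hf1' (Subtype.ext e)) ?_)).symm
    refine mul_inv_eq_iff_eq_mul.1 ?_
    calc (jm * j₀⁻¹)⁻¹ * jn * f * ((jm * j₀⁻¹)⁻¹ * jn)⁻¹
        = (jm * j₀⁻¹)⁻¹ * (jn * f * jn⁻¹) * (jm * j₀⁻¹) := by group
      _ = f := by rw [h5]; group
  exact ⟨by rw [h6, inv_mul_cancel_right], h6 ▸ hw'⟩

/-- The commutator with an element of `N` is the scalar applied to the commutator with `z`. -/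
theorem scalar_comm {n : G} (hn : n ∈ N) (hn1 : n ≠ 1) :
    ∃ j ∈ J, ∀ g ∈ cMod W a z, ⁅n, g⁆ = j * ⁅z, g⁆ * j⁻¹ := by
  obtain ⟨j, hj⟩ := h.exists_isScalar hloc hφ hmul hn hn1
  refine ⟨j, hj.1, fun g hg => ?_⟩
  obtain ⟨hgW, hgτ⟩ := SquareTwo.mem_cMod.1 hg
  obtain ⟨w, hw, m, hm, hm1, he⟩ := h.conj_N_decomp hgW
    (fun y hy => conj_mem_cY_of_cMod h.setting.toTISetting hg hy) hn hn1
  obtain ⟨jm, hjm⟩ := h.exists_isScalar hloc hφ hmul hm hm1
  have hzinv : z⁻¹ = z := inv_eq_of_mul_eq_one_right (h.sq_N z h.mem_N)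
  have hz : g * z * g⁻¹ = ⁅z, g⁆ * z := by
    rw [← (h.commute_W_of_mem h.mem_N hgτ).eq, commutatorElement_def, hzinv, ← mul_assoc,
      ← mul_assoc, ← mul_assoc, h.sq_N z h.mem_N, one_mul]
  obtain ⟨h1, h2⟩ := h.scalar_conj hloc hφ hmul hgW hn hj hgτ h.mem_N h.z_ne_one hz h.isScalar_self
    hw hm he hjm
  rw [mul_one] at h1
  subst h1
  have hmn : m = n := h.scalar_inj hloc hφ hmul hm hn hjm hj
  rw [← h2, commutatorElement_def, inv_eq_of_mul_eq_one_right (h.sq_N n hn),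
    show n * g * n * g⁻¹ = n * (g * n * g⁻¹) by group, he, hmn, ← mul_assoc,
    (h.commute_W_of_mem hn hw).eq, mul_assoc, h.sq_N n hn, mul_one]

theorem comm_mem_W {n g : G} (hn : n ∈ N) (hg : g ∈ cMod W a z) : ⁅n, g⁆ ∈ W a := by
  rcases eq_or_ne n 1 with rfl | hn1
  · rw [commutatorElement_one_left]; exact one_mem _
  · obtain ⟨j, hj, hjg⟩ := h.scalar_comm hloc hφ hmul hn hn1
    rw [hjg g hg]
    exact h.conj_J hj (SquareTwo.mem_cMod.1 hg).2

/-- A 2-element of `cW W a` normalising `cY W a z` lies in `cMod W a z`. -/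
theorem two_elt_normalizer {g : G} (hg : g ∈ cW W a) {k : ℕ} (hgk : g ^ 2 ^ k = 1)
    (hgY : ∀ y ∈ cY W a z, g * y * g⁻¹ ∈ cY W a z) : g ∈ cMod W a z := by
  obtain ⟨w₀, hw₀, m₀, hm₀, hm₀1, hz⟩ := h.conj_N_decomp hg hgY h.mem_N h.z_ne_one
  obtain ⟨j₀, hj₀⟩ := h.exists_isScalar hloc hφ hmul hm₀ hm₀1
  have hit : ∀ i : ℕ, ∃ w ∈ W a, ∃ m ∈ N, m ≠ 1 ∧ g ^ i * z * (g ^ i)⁻¹ = w * m ∧
      IsScalar W a z J m (j₀ ^ i) := by
    intro i
    induction i with
    | zero =>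
      exact ⟨1, one_mem _, z, h.mem_N, h.z_ne_one, by simp, by rw [pow_zero]; exact h.isScalar_self⟩
    | succ i ih =>
      obtain ⟨w, hw, m, hm, hm1, he, hjm⟩ := ih
      obtain ⟨w', hw', m', hm', hm'1, he'⟩ := h.conj_N_decomp hg hgY hm hm1
      obtain ⟨j', hj'⟩ := h.exists_isScalar hloc hφ hmul hm' hm'1
      obtain ⟨h1, -⟩ :=
        h.scalar_conj hloc hφ hmul hg hm hjm hw₀ hm₀ hm₀1 hz hj₀ hw' hm' he' hj'
      refine ⟨w * w', mul_mem hw hw', m', hm', hm'1, ?_, ?_⟩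
      · calc g ^ (i + 1) * z * (g ^ (i + 1))⁻¹ = g * (g ^ i * z * (g ^ i)⁻¹) * g⁻¹ := by
              rw [pow_succ']; group
          _ = g * w * g⁻¹ * (g * m * g⁻¹) := by rw [he]; group
          _ = w * w' * m' := by
              rw [(SquareTwo.commute_of_mem_cW hg hw).eq, mul_inv_cancel_right, he', mul_assoc]
      · rw [pow_succ, ← h1]; exact hj'
  obtain ⟨w, hw, m, hm, -, he, hjm⟩ := hit (2 ^ k)
  rw [hgk, inv_one, mul_one, one_mul] at he
  have hmz : m = z := by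
    have h1 := h.localPair.decomp_unique h.setting.toTISetting (one_mem Q)
      (h.localPair.W_le_Q hw) h.fix_b (h.mem_cY_of_mem hm).2 (by rw [one_mul]; exact he)
    exact h1.2.symm
  subst hmz
  have hpow : j₀ ^ 2 ^ k = 1 := h.scalar_unique hloc hφ hmul hjm h.isScalar_self
  have hj1 : j₀ = 1 := by
    have hodd : Odd (Nat.card J) := by
      have h1 := h.torus.card
      rw [h.inf_centralizer_eq h.fix_a] at h1
      haveI : Fact (Nat.Prime 2) := ⟨Nat.prime_two⟩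
      have hW : IsPGroup 2 (W a) := fun x =>
        ⟨1, Subtype.ext (by simpa [pow_two] using h.setting.sq a x x.2)⟩
      obtain ⟨r, hr⟩ := hW.exists_card_eq
      have h4 := h.four
      have he : Even (Nat.card J + 1) := by
        rw [h1, hr]
        rcases r with _ | r
        · rw [hr, pow_zero] at h4; omega
        · exact ⟨2 ^ r, by rw [pow_succ]; ring⟩
      simpa [Nat.even_add_one] using he
    refine orderOf_eq_one_iff.1 (Nat.eq_one_of_dvd_coprimes
      (Nat.Coprime.pow_left k (Nat.coprime_two_left.2 hodd)) (orderOf_dvd_of_pow_eq_one hpow)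
      (Subgroup.orderOf_dvd_natCard J hj₀.1))
  subst hj1
  have hm0z : m₀ = m := h.scalar_inj hloc hφ hmul hm₀ h.mem_N hj₀ h.isScalar_self
  subst hm0z
  refine SquareTwo.mem_cMod.2 ⟨hg, ?_⟩
  have hzinv : m₀⁻¹ = m₀ := inv_eq_of_mul_eq_one_right (h.sq_N _ hm)
  rw [commutatorElement_def, hzinv,
    show m₀ * g * m₀ * g⁻¹ = m₀ * (g * m₀ * g⁻¹) by group, hz, ← mul_assoc,
    (h.commute_W_of_mem hm hw₀).eq, mul_assoc, h.sq_N _ hm, mul_one]
  exact hw₀

end Fam

end CfsgLib.LocalEven.TIEndgame
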