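import Cfsg.Agent.Lib.LocalEven.TIEndgame.Central.LocalPair

/-!
# The standing data of the centred case exist

If all bad involutions centralise the groups at their fixed points and fix the same number of
points, not `q ^ 3 + 1`, then a bad involution `z` at `a` with largest `cY W a z` gives `Fam`.
-/

set_option autoImplicit false
set_option linter.style.haveILetI false

namespace CfsgLib.LocalEven.TIEndgame

open MulAction Subgroup
open scoped commutatorElement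

universe u

variable {G Ω : Type u} [Group G] [Finite G] [Finite Ω] [MulAction G Ω] [FaithfulSMul G Ω]
  {W : Ω → Subgroup G}

/-- Data at every pair of fixed points of a bad involution. -/
theorem exists_localPair (h : TISetting W) (hall : ∀ c, AllCentral W c) (hloc : LocTorus W)
    {a : Ω} (four : 4 ≤ Nat.card ↥(W a)) {z : G}
    (hφ : ∀ x : G, IsBad Ω x → Nat.card (fixedBy Ω x) = Nat.card (fixedBy Ω z))
    (hcube : Nat.card (fixedBy Ω z) ≠ Nat.card ↥(W a) ^ 3 + 1)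
    {x : G} (hx : IsBad Ω x) {c d : Ω} (hc : x • c = c) (hd : x • d = d) (hdc : d ≠ c) :
    ∃ Q J, LocalPair W c d x Q J := by
  obtain ⟨Q, hQ, hT⟩ := hloc x c hx hc
  obtain ⟨J, hJ⟩ := hT d hd hdc
  have hinf : ∀ e : Ω, x • e = e → W e ⊓ centralizer {x} = W e := fun e he =>
    inf_eq_left.2 fun y hy => mem_centralizer_singleton_iff.2 (hall e x hx he y hy).eq.symm
  have hca := h.card_W_eq c a
  have hpts : ∀ e, e ∈ pts W (centralizer {x}) ↔ x • e = e := fun e => by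
    rw [h.pts_centralizer hx.1]; rfl
  have hcard : Nat.card (fixedBy Ω x) = Nat.card Q + 1 := by
    have hxc : ∀ y ∈ Q, Commute x y := fun y hy => (mem_centralizer_singleton_iff.1
      (((closure_le (centralizer {x})).2 Set.inter_subset_right) (hQ.le hy).1)).symm
    have hmap : ∀ y : Q, (y : G) • d ∈ fixedBy Ω x \ {c} := fun y => by
      refine ⟨?_, fun e => hdc (smul_left_cancel (y : G) ?_)⟩
      · rw [mem_fixedBy, smul_smul, (hxc y y.2).eq, mul_smul, hd]
      · rw [Set.mem_singleton_iff.1 e, mem_stabilizer_iff.1 (hQ.le y.2).2]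
    have hcard : Nat.card Q = Nat.card ↑(fixedBy Ω x \ {c}) := by
      refine Nat.card_eq_of_bijective (fun y => ⟨_, hmap y⟩) ⟨fun y y' e => ?_, fun e => ?_⟩
      · have e' : (y : G) • d = (y' : G) • d := congrArg Subtype.val e
        obtain ⟨u, -, hu⟩ := hQ.regular d ((hpts d).2 hd) hdc ((y : G) • d)
          ((hpts _).2 (hmap y).1) (hmap y).2
        exact Subtype.ext ((hu y ⟨y.2, rfl⟩).trans (hu y' ⟨y'.2, e'.symm⟩).symm)
      · obtain ⟨y, ⟨hy, hye⟩, -⟩ := hQ.regular d ((hpts d).2 hd) hdc e ((hpts _).2 e.2.1) e.2.2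
        exact ⟨⟨y, hy⟩, Subtype.ext hye⟩
    rw [hcard, Nat.card_coe_set_eq, Nat.card_coe_set_eq,
      Set.ncard_sdiff_singleton_add_one (show c ∈ fixedBy Ω x from hc) (Set.toFinite _)]
  refine ⟨Q, J, hx, hc, hd, hdc, hinf, hQ, hJ, hca ▸ four, ?_⟩
  have hq := hQ.card
  rw [hinf c hc] at hq
  rcases hq with h1 | h1 | h1
  · exact Or.inl h1
  · exact Or.inr h1
  · exfalso
    rw [hφ x hx] at hcard
    exact hcube (by rw [hcard, h1, hca])

namespace LocalPair

variable {a b : Ω} {z : G} {Q J : Subgroup G} (P : LocalPair W a b z Q J)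
  (h : TISetting W) (hall : ∀ c, AllCentral W c) (hloc : LocTorus W)
  (hφ : ∀ x : G, IsBad Ω x → Nat.card (fixedBy Ω x) = Nat.card (fixedBy Ω z))
  (hmul : ∀ x : G, ∀ c : Ω, IsBad Ω x → x • c = c → ∀ r ∈ W c, IsBad Ω (x * r))
include P h hall hloc hφ hmul

omit hmul in
theorem cube_ne : Nat.card (fixedBy Ω z) ≠ Nat.card ↥(W a) ^ 3 + 1 := by
  rw [P.card_fixed h]
  intro e
  have e' : Nat.card Q = Nat.card ↥(W a) ^ 3 := Nat.succ_injective e
  have h4 := P.four
  rcases P.not_cube with hq | hq <;> rw [hq] at e'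
  · have : Nat.card ↥(W a) ^ 1 = Nat.card ↥(W a) ^ 3 := by rw [pow_one]; exact e'
    exact absurd (Nat.pow_right_injective (by omega) this) (by omega)
  · exact absurd (Nat.pow_right_injective (by omega) e') (by omega)

/-- An element of odd order of `cY W a z` fixing `b` is trivial. -/
theorem eq_one_of_odd {n : G} (hn : n ∈ cY W a z) (hnb : n • b = b) (ho : Odd (orderOf n)) :
    n = 1 := by
  refine FaithfulSMul.eq_of_smul_eq_smul fun c : Ω => ?_
  rw [one_smul]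
  by_cases hc : z • c = c
  · exact P.pointwise h hn hnb hc
  have hop := h.onePoint
  obtain ⟨x, hx⟩ := OnePoint.dat_nonempty (D := members W) h.covers c
  have hmov : x ∈ moved (members W) Ω z :=
    ⟨hx.1, fun e he => by rw [hop.fixed_unique x hx.1 e c he hx.2]; exact hc⟩
  obtain ⟨f, ⟨hf, hfx⟩, -⟩ :=
    hop.exists_middle_centred (CfsgLib.Involution.Dihedral.mul_self P.bad.1) hmov
  have hzf : (z * f) • c = c := hop.fix_of_commute hx.1 hx.2 hfx.symm
  obtain ⟨e, he⟩ := hop.exists_fixed f hf.1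
  have hze : z • e = e := hop.centred_fixed hf he
  have hfe : f ∈ W e := h.mem_of_fixed hf.1 he
  have hzfe : (z * f) • e = e := by rw [mul_smul, he, hze]
  have hce : c ≠ e := fun e' => hc (e' ▸ hze)
  obtain ⟨Q', J', P'⟩ := exists_localPair h hall hloc P.four hφ (P.cube_ne h hall hloc hφ)
    (hmul z e P.bad hze f hfe) hzfe hzf hce
  refine P'.pointwise_of_odd h (mem_cY_iff.2 ⟨P.pointwise h hn hnb hze, fun d hd =>
    P.commute_W_of_mem h hn hnb hze hd, ?_⟩) ho hzf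
  exact (mem_cY_iff.1 hn).2.2.mul_right (P.commute_W_of_mem h hn hnb hze hfe)

/-- Only `1` fixes the line of `z` and one more point. -/
theorem eq_one_of_fix_outside {n : G} (hn : n ∈ cY W a z) (hnb : n • b = b) {c : Ω}
    (hc : z • c ≠ c) (hnc : n • c = c) : n = 1 := by
  by_contra hn1
  have hne : ¬ Odd (orderOf n) := fun ho => hn1 (P.eq_one_of_odd h hall hloc hφ hmul hn hnb ho)
  obtain ⟨k, hk⟩ := (Nat.not_odd_iff_even.1 hne).two_dvd
  have hpos := orderOf_pos n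
  have ho : orderOf (n ^ k) = 2 := by
    rw [orderOf_pow_of_dvd (by omega) ⟨2, by rw [hk, mul_comm]⟩, hk,
      Nat.mul_div_cancel _ (by omega : 0 < k)]
  have hu : n ^ k ∈ cY W a z := pow_mem hn k
  have hub : (n ^ k) • b = b := mem_stabilizer_iff.1 (pow_mem (mem_stabilizer_iff.2 hnb) k)
  have hbad : IsBad Ω (n ^ k) := ⟨ho, a, b, P.ne.symm, (mem_cY_iff.1 hu).1, hub⟩
  have hsub : insert c (fixedBy Ω z) ⊆ fixedBy Ω (n ^ k) := Set.insert_subset
    (mem_stabilizer_iff.1 (pow_mem (mem_stabilizer_iff.2 hnc) k)) fun e he => P.pointwise h hu hub he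
  have hle := Set.ncard_le_ncard hsub (Set.toFinite _)
  rw [Set.ncard_insert_of_notMem (show c ∉ fixedBy Ω z from hc), ← Nat.card_coe_set_eq, ← Nat.card_coe_set_eq,
    hφ _ hbad] at hle
  omega

/-- The data of the translated involution at one of its fixed points other than `a`. -/
theorem exists_translate {f : G} (hf : f ∈ W a) (hf1 : f ≠ 1) :
    ∃ c Q' J', LocalPair W a c (z * f) Q' J' ∧ z • c ≠ c := by
  have hbad := hmul z a P.bad P.fix_a f hf
  have hfa : (z * f) • a = a := by rw [mul_smul, mem_stabilizer_iff.1 (h.fix a hf), P.fix_a]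
  obtain ⟨c, hc, hca⟩ : ∃ c, (z * f) • c = c ∧ c ≠ a := by
    obtain ⟨-, p, p', hpp, hp, hp'⟩ := hbad
    by_cases hpa : p = a
    · exact ⟨p', hp', fun e => hpp (hpa.trans e.symm)⟩
    · exact ⟨p, hp, hpa⟩
  obtain ⟨Q', J', P'⟩ :=
    exists_localPair h hall hloc P.four hφ (P.cube_ne h hall hloc hφ) hbad hfa hc hca
  refine ⟨c, Q', J', P', fun hzc => hca (h.unique a f hf hf1 c ?_)⟩
  rw [mul_smul] at hc
  exact smul_left_cancel z (hc.trans hzc.symm)

omit hall hloc hmul in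
theorem card_stab_eq {c : Ω} {f : G} {Q' J' : Subgroup G} (hf : f ∈ W a)
    (P' : LocalPair W a c (z * f) Q' J') :
    Nat.card ↥(cY W a z ⊓ stabilizer G c) = Nat.card ↥(cY W a z ⊓ stabilizer G b) := by
  have h1 := P'.card_cY h
  have h2 : Nat.card Q' = Nat.card Q := Nat.succ_injective
    ((P'.card_fixed h).symm.trans ((hφ _ P'.bad).trans (P.card_fixed h)))
  rw [cY_mul hf, h2, P.card_cY h] at h1
  exact (Nat.eq_of_mul_eq_mul_left Nat.card_pos h1).symm

/-- An element of `cY W a z` fixing a point of a translated line lies in `W a * N`. -/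
theorem exists_component {c : Ω} {f : G} {Q' J' : Subgroup G} (hf : f ∈ W a)
    (P' : LocalPair W a c (z * f) Q' J') {m : G} (hm : m ∈ cY W a z) (hmc : m • c = c) :
    ∃ w ∈ W a, ∃ n ∈ cY W a z ⊓ stabilizer G b, m = w * n := by
  obtain ⟨x₀, hx₀, n₀, hn₀, hm₀⟩ := P.decomp h hm
  rcases P.not_cube with hq | hq
  · exact ⟨x₀, (Subgroup.eq_of_le_of_card_ge P.W_le_Q hq.le).symm ▸ hx₀, n₀, hn₀, hm₀⟩
  by_contra hne
  have hx₀W : x₀ ∉ W a := fun hw => hne ⟨x₀, hw, n₀, hn₀, hm₀⟩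
  have hq' : Nat.card Q = Nat.card ↥(W a ⊓ centralizer {z}) ^ 2 := by rw [P.card_W]; exact hq
  have hQ' : Nat.card Q' = Nat.card ↥(W a) ^ 2 := hq ▸ Nat.succ_injective
    ((P'.card_fixed h).symm.trans ((hφ _ P'.bad).trans (P.card_fixed h)))
  have hmem : ∀ y ∈ Q', y ∈ cY W a z := fun y hy => cY_mul hf ▸ P'.Q_le_cY hy
  have hcase : ∀ y ∈ Q', ∃ x ∈ Q, ∃ n ∈ cY W a z ⊓ stabilizer G b, y = x * n ∧
      (x ∈ W a ∨ x₀⁻¹ * x ∈ W a) := by
    intro y hy
    obtain ⟨x, hx, n, hn, hyn⟩ := P.decomp h (hmem y hy)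
    refine ⟨x, hx, n, hn, hyn, P.loc.square_comm hq' x₀ hx₀ hx₀W x hx ?_⟩
    have hc : Commute m y := P'.comm_Q h (by rw [cY_mul hf]; exact hm) hmc hy
    have hc1 : Commute n₀ x := P.comm_Q h hn₀.1 (mem_stabilizer_iff.1 hn₀.2) hx
    have hc2 : Commute n x₀ := P.comm_Q h hn.1 (mem_stabilizer_iff.1 hn.2) hx₀
    refine (P.decomp_unique h (mul_mem hx₀ hx) (mul_mem hx hx₀)
      (mem_stabilizer_iff.1 (mul_mem hn₀.2 hn.2)) (mem_stabilizer_iff.1 (mul_mem hn.2 hn₀.2)) ?_).1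
    calc x₀ * x * (n₀ * n) = x₀ * n₀ * (x * n) := by
          rw [mul_assoc x₀ n₀, ← mul_assoc n₀ x n, hc1.eq]; group
      _ = x * n * (x₀ * n₀) := by rw [← hm₀, ← hyn, hc.eq]
      _ = x * x₀ * (n * n₀) := by
          rw [mul_assoc x n, ← mul_assoc n x₀ n₀, hc2.eq]; group
  have hkey : ∀ y ∈ Q', ∀ w ∈ W a, ∀ n ∈ cY W a z ⊓ stabilizer G b, y = w * n → y ∈ W a := by
    intro y hy w hw n hn hyn
    have hnw : Commute n w := (mem_cY_iff.1 hn.1).2.1 w hw
    have hy2 : y * y = n * n := by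
      rw [hyn, mul_assoc, ← mul_assoc n w n, hnw.eq, ← mul_assoc, ← mul_assoc, h.sq a w hw, one_mul]
    refine P'.loc.invol y hy ?_
    rw [hy2]
    exact P.eq_one_of_fix h (P.W_le_Q (hy2 ▸ P'.loc.sq_mem y hy))
      (mem_stabilizer_iff.1 (mul_mem hn.2 hn.2))
  have h4 := P.four
  by_cases hex : ∃ y ∈ Q', y ∉ W a
  · obtain ⟨y₁, hy₁, hy₁W⟩ := hex
    obtain ⟨x₁, hx₁, n₁, hn₁, he₁, hc₁⟩ := hcase y₁ hy₁
    have hc₁' := hc₁.resolve_left fun hw => hy₁W (hkey y₁ hy₁ x₁ hw n₁ hn₁ he₁)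
    have hle := card_le_two_mul (A := Q') (B := W a) (x := y₁) fun y hy => by
      obtain ⟨x, hx, n, hn, he, hc'⟩ := hcase y hy
      rcases hc' with hw | hw
      · exact Or.inl (hkey y hy x hw n hn he)
      refine Or.inr (hkey _ (mul_mem (inv_mem hy₁) hy) (x₁⁻¹ * x) ?_ (n₁⁻¹ * n)
        (mul_mem (inv_mem hn₁) hn) ?_)
      · rw [show x₁⁻¹ * x = (x₀⁻¹ * x₁)⁻¹ * (x₀⁻¹ * x) by group]
        exact mul_mem (inv_mem hc₁') hw
      · have hc1 : Commute n₁⁻¹ (x₁⁻¹ * x) := (P.comm_Q h hn₁.1 (mem_stabilizer_iff.1 hn₁.2)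
          (mul_mem (inv_mem hx₁) hx)).inv_left
        calc y₁⁻¹ * y = n₁⁻¹ * (x₁⁻¹ * x) * n := by rw [he₁, he]; group
          _ = x₁⁻¹ * x * (n₁⁻¹ * n) := by rw [hc1.eq]; group
    rw [hQ'] at hle
    nlinarith
  · push Not at hex
    have hle := card_le_two_mul (A := Q') (B := W a) (x := 1) fun y hy => Or.inl (hex y hy)
    rw [hQ'] at hle
    nlinarith

/-- Every element fixing the line of `z` is completed by one member to an element fixing `c`. -/
theorem exists_mul_fix {c : Ω} {f : G} {Q' J' : Subgroup G} (hf : f ∈ W a)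
    (P' : LocalPair W a c (z * f) Q' J') {n : G} (hn : n ∈ cY W a z) (hnb : n • b = b) :
    ∃ w ∈ W a, (n * w) • c = c := by
  have hcomp := fun m : ↥(cY W a z ⊓ stabilizer G c) =>
    P.exists_component h hall hloc hφ hmul hf P' m.2.1 (mem_stabilizer_iff.1 m.2.2)
  choose w hw k hk hwk using hcomp
  let ψ : ↥(cY W a z ⊓ stabilizer G c) → ↥(cY W a z ⊓ stabilizer G b) := fun m => ⟨k m, hk m⟩
  have hinj : Function.Injective ψ := by
    intro m m' e
    have e' : k m = k m' := congrArg Subtype.val e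
    have hfix : ((w m')⁻¹ * w m) • c = c := by
      have : (w m')⁻¹ * w m = (w m')⁻¹ * (m : G) * ((w m')⁻¹ * (m' : G))⁻¹ * 1 := by
        rw [hwk m, hwk m', inv_mul_cancel_left, e']; group
      have hmm : (m' : G)⁻¹ * (m : G) = (k m')⁻¹ * ((w m')⁻¹ * w m) * k m := by
        rw [hwk m, hwk m']; group
      rw [e', ((mem_cY_iff.1 (hk m').1).2.1 _ (mul_mem (inv_mem (hw m')) (hw m))).inv_left.eq,
        mul_assoc, inv_mul_cancel, mul_one] at hmm
      rw [← hmm, mul_smul, mem_stabilizer_iff.1 m.2.2, inv_smul_eq_iff.2 (mem_stabilizer_iff.1 m'.2.2).symm]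
    have h1 : (w m')⁻¹ * w m = 1 := by
      by_contra h1
      exact P'.ne (h.unique a _ (mul_mem (inv_mem (hw m')) (hw m)) h1 c hfix)
    exact Subtype.ext (by rw [hwk m, hwk m', e', inv_mul_eq_one.1 h1])
  obtain ⟨m, hm⟩ := (hinj.bijective_of_nat_card_le (P.card_stab_eq h hφ hf P').ge).2
    ⟨n, hn, hnb⟩
  refine ⟨w m, hw m, ?_⟩
  have hm' : k m = n := congrArg Subtype.val hm
  rw [((mem_cY_iff.1 hn).2.1 _ (hw m)).eq, ← hm', ← hwk m]
  exact mem_stabilizer_iff.1 m.2.2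

/-- The elements of `cY W a z` fixing `b` have order at most two. -/
theorem sq_eq_one {n : G} (hn : n ∈ cY W a z) (hnb : n • b = b) : n * n = 1 := by
  obtain ⟨⟨f, hf⟩, hf1⟩ := (Subgroup.ne_bot_iff_exists_ne_one).1 (h.ne_bot a)
  obtain ⟨c, Q', J', P', hc⟩ :=
    P.exists_translate h hall hloc hφ hmul hf fun e => hf1 (Subtype.ext e)
  obtain ⟨w, hw, hnw⟩ := P.exists_mul_fix h hall hloc hφ hmul hf P' hn hnb
  have hn2 : (n * w) * (n * w) = n * n := by
    calc (n * w) * (n * w) = n * (w * n) * w := by group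
      _ = n * n * (w * w) := by rw [← ((mem_cY_iff.1 hn).2.1 w hw).eq]; group
      _ = n * n := by rw [h.sq a w hw, mul_one]
  refine P.eq_one_of_fix_outside h hall hloc hφ hmul (mul_mem hn hn) ?_ hc ?_
  · rw [mul_smul, hnb, hnb]
  · rw [← hn2, mul_smul, hnw, hnw]

/-- The translations induced by an element fixing the line of `z` form a scalar. -/
theorem exists_scalar {n : G} (hn : n ∈ cY W a z) (hnb : n • b = b) (hn1 : n ≠ 1) :
    ∃ j ∈ J, ∀ f ∈ W a, ∀ c : Ω, c ≠ a → (z * f) • c = c → (n * (j * f * j⁻¹)) • c = c := by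
  obtain ⟨⟨f₀, hf₀⟩, hf₀1'⟩ := (Subgroup.ne_bot_iff_exists_ne_one).1 (h.ne_bot a)
  have hf₀1 : f₀ ≠ 1 := fun e => hf₀1' (Subtype.ext e)
  obtain ⟨c₀, Q', J', P', hc₀⟩ := P.exists_translate h hall hloc hφ hmul hf₀ hf₀1
  obtain ⟨w, hw, hnw⟩ := P.exists_mul_fix h hall hloc hφ hmul hf₀ P' hn hnb
  have hw1 : w ≠ 1 := fun e => hn1 (P.eq_one_of_fix_outside h hall hloc hφ hmul hn hnb hc₀
    (by rwa [e, mul_one] at hnw))
  obtain ⟨j, hj, hjw⟩ := P.torus.trans f₀ (by rwa [P.inf_eq a P.fix_a]) hf₀1 w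
    (by rwa [P.inf_eq a P.fix_a]) hw1
  refine ⟨j, hj, fun f hf c hca hfc => ?_⟩
  by_cases hf1 : f = 1
  · subst hf1
    rw [mul_one] at hfc
    simpa using P.pointwise h hn hnb hfc
  obtain ⟨i, hi, hif⟩ := P.torus.trans f₀ (by rwa [P.inf_eq a P.fix_a]) hf₀1 f
    (by rwa [P.inf_eq a P.fix_a]) hf1
  have hzi : Commute z i := P.commute_J hi
  have hni : Commute n i := P.comm_J h hn hnb hi
  have hfix : (z * f₀) • (i⁻¹ • c) = i⁻¹ • c := by
    rw [← hif, show z * (i * f₀ * i⁻¹) = (z * i) * f₀ * i⁻¹ by group, hzi.eq,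
      show i * z * f₀ * i⁻¹ = i * (z * f₀) * i⁻¹ by group, mul_smul, mul_smul] at hfc
    exact smul_left_cancel i (hfc.trans (smul_inv_smul i c).symm)
  have hnwc : (n * w) • (i⁻¹ • c) = i⁻¹ • c := by
    refine P'.pointwise h ?_ hnw hfix
    rw [cY_mul hf₀]
    exact mul_mem hn (P.Q_le_cY (P.W_le_Q hw))
  have hji := commute_of_isCyclic P.torus.cyclic hj hi
  calc (n * (j * f * j⁻¹)) • c = (i * (n * w) * i⁻¹) • c := by
        rw [← hif, ← hjw, show j * (i * f₀ * i⁻¹) * j⁻¹ = (j * i) * f₀ * (j * i)⁻¹ by group, hji.eq,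
          ← mul_assoc i n, ← hni.eq]
        group
    _ = c := by rw [mul_smul, mul_smul, hnwc, smul_inv_smul]

end LocalPair

/-- A bad involution at `a` with largest centraliser gives the standing data. -/
theorem exists_fam_of_maximal (h : TIMin G Ω W) (hall : ∀ c, AllCentral W c) (hloc : LocTorus W)
    {a : Ω} (four : 4 ≤ Nat.card ↥(W a)) {z : G} (hz : IsBad Ω z) (hza : z • a = a)
    (hmax : ∀ z' : G, IsBad Ω z' → z' • a = a → Nat.card ↥(cY W a z') ≤ Nat.card ↥(cY W a z))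
    (hφ : ∀ x : G, IsBad Ω x → Nat.card (fixedBy Ω x) = Nat.card (fixedBy Ω z))
    (hmul : ∀ x : G, ∀ c : Ω, IsBad Ω x → x • c = c → ∀ r ∈ W c, IsBad Ω (x * r))
    (hcube : Nat.card (fixedBy Ω z) ≠ Nat.card ↥(W a) ^ 3 + 1) :
    ∃ b Q N J, Fam W a b z Q N J := by
  have hs := h.toTISetting
  obtain ⟨b, hzb, hba⟩ : ∃ b, z • b = b ∧ b ≠ a := by
    obtain ⟨-, p, p', hpp, hp, hp'⟩ := hz
    by_cases hpa : p = a
    · exact ⟨p', hp', fun e => hpp (hpa.trans e.symm)⟩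
    · exact ⟨p, hp, hpa⟩
  obtain ⟨Q, J, P⟩ := exists_localPair hs hall hloc four hφ hcube hz hza hzb hba
  refine ⟨b, Q, cY W a z ⊓ stabilizer G b, J, ?_⟩
  have hsq : ∀ n ∈ cY W a z ⊓ stabilizer G b, n * n = 1 := fun n hn =>
    P.sq_eq_one hs hall hloc hφ hmul hn.1 (mem_stabilizer_iff.1 hn.2)
  exact {
    setting := h
    all := hall
    four := four
    bad := hz
    fix_a := hza
    fix_b := hzb
    ne := hba
    maximal := hmax
    loc := P.loc
    torus := P.torus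
    not_cube := P.not_cube
    eq_N := rfl
    mem_N := Subgroup.mem_inf.2 ⟨P.z_mem, mem_stabilizer_iff.2 hzb⟩
    pointwise := fun n hn c hc => P.pointwise hs hn.1 (mem_stabilizer_iff.1 hn.2) hc
    sq_N := hsq
    comm_Q := fun n hn x hx => P.comm_Q hs hn.1 (mem_stabilizer_iff.1 hn.2) hx
    comm_J := fun n hn j hj => P.comm_J hs hn.1 (mem_stabilizer_iff.1 hn.2) hj
    decomp := fun g hg => P.decomp hs hg
    cY_eq := fun n hn hn1 => by
      obtain ⟨hna, hnW, hnz⟩ := mem_cY_iff.1 hn.1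
      have hbad : IsBad Ω n := ⟨orderOf_eq_prime (by rw [pow_two, hsq n hn]) hn1, a, b, hba.symm,
        hna, mem_stabilizer_iff.1 hn.2⟩
      refine (Subgroup.eq_of_le_of_card_ge (fun g hg => ?_) (hmax n hbad hna)).symm
      obtain ⟨x, hx, m, hm, rfl⟩ := P.decomp hs hg
      have hmn : Commute m n := by
        have h1 := hsq _ (mul_mem hm hn)
        calc m * n = (m * n)⁻¹ := (inv_eq_of_mul_eq_one_right h1).symm
          _ = n⁻¹ * m⁻¹ := mul_inv_rev m n
          _ = n * m := by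
            rw [inv_eq_of_mul_eq_one_right (hsq m hm), inv_eq_of_mul_eq_one_right (hsq n hn)]
      exact mem_cY_iff.2 ⟨(mem_cY_iff.1 hg).1, (mem_cY_iff.1 hg).2.1,
        ((P.comm_Q hs hn.1 (mem_stabilizer_iff.1 hn.2) hx).symm).mul_left hmn⟩
    scalar := fun n hn hn1 =>
      P.exists_scalar hs hall hloc hφ hmul hn.1 (mem_stabilizer_iff.1 hn.2) hn1 }

/-- Some bad involution gives the standing data. -/
theorem exists_fam (h : TIMin G Ω W) (hall : ∀ c, AllCentral W c) (hloc : LocTorus W)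
    (four : ∀ c, 4 ≤ Nat.card ↥(W c)) {z₀ : G} (hz₀ : IsBad Ω z₀)
    (hφ : ∀ x : G, IsBad Ω x → Nat.card (fixedBy Ω x) = Nat.card (fixedBy Ω z₀))
    (hmul : ∀ x : G, ∀ c : Ω, IsBad Ω x → x • c = c → ∀ r ∈ W c, IsBad Ω (x * r))
    (hcube : ∀ c, Nat.card (fixedBy Ω z₀) ≠ Nat.card ↥(W c) ^ 3 + 1) :
    ∃ a b z Q N J, Fam W a b z Q N J := by
  obtain ⟨-, a, p', -, ha, -⟩ := id hz₀
  obtain ⟨z, ⟨hz, hza⟩, hmax⟩ := Set.exists_max_image {x : G | IsBad Ω x ∧ x • a = a}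
    (fun x => Nat.card ↥(cY W a x)) (Set.toFinite _) ⟨z₀, hz₀, ha⟩
  obtain ⟨b, Q, N, J, hF⟩ := exists_fam_of_maximal h hall hloc (four a) hz hza
    (fun z' h1 h2 => hmax z' ⟨h1, h2⟩) (fun x hx => (hφ x hx).trans (hφ z hz).symm) hmul
    (by rw [hφ z hz]; exact hcube a)
  exact ⟨a, b, z, Q, N, J, hF⟩

end CfsgLib.LocalEven.TIEndgame
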