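import Cfsg.Agent.Lib.LocalEven.TIEndgame.Classify

/-!
# The involutions of a point stabiliser on linear lines

In a centred configuration with lines of `w + 1` points an involution fixing `a` is a member at `a`
or is bad: otherwise it commutes with a member elsewhere modulo a bad involution `u`, and on the
line of `u` it differs from a member at `a` by a bad involution.
-/

set_option autoImplicit false

namespace CfsgLib.LocalEven.TIEndgame

open MulAction Subgroup CfsgLib.Involution

universe u

variable {G Ω : Type u} [Group G] [Finite G] [Finite Ω] [MulAction G Ω] [FaithfulSMul G Ω]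
  {W : Ω → Subgroup G}

omit [FaithfulSMul G Ω] in
/-- An involution fixing `a` is a member at `a` or bad. -/
theorem TISetting.mem_or_isBad (h : TISetting W) {w : ℕ} (hc : CentredConfig W w 1) {a : Ω}
    {v : G} (hv : orderOf v = 2) (hva : v • a = a) : v ∈ W a ∨ IsBad Ω v := by
  by_contra hcon
  push Not at hcon
  obtain ⟨hvW, hvbad⟩ := hcon
  have hop := h.onePoint
  have hv2 : v * v = 1 := Dihedral.mul_self hv
  have honly : ∀ c : Ω, v • c = c → c = a := fun c hc' => by
    by_contra hca
    exact hvbad ⟨hv, c, a, hca, hc', hva⟩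
  -- a second point
  have hnΩ : 1 < Nat.card Ω := by
    rw [hc.card_points, pow_one]
    have := hc.four
    calc 1 < w + 1 := by omega
      _ ≤ (w + 1) * (1 + w * (w - 1)) := Nat.le_mul_of_pos_right _ (by omega)
  haveI : Nontrivial Ω := Finite.one_lt_card_iff_nontrivial.1 hnΩ
  obtain ⟨b, hba⟩ := exists_ne a
  obtain ⟨e, he⟩ := OnePoint.dat_nonempty (D := members W) h.covers b
  have he2 := hop.orderOf_eq e he.1
  by_cases heven : Even (orderOf (v * e))
  swap
  · obtain ⟨k, -, hk⟩ :=
      Dihedral.exists_conj_of_odd hv he2 (Nat.not_even_iff_odd.1 heven)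
    refine hvW (h.mem_of_fixed ?_ hva)
    have h1 := hop.conj_mem k⁻¹ e he.1
    rwa [← hk, show k⁻¹ * (k * v * k⁻¹) * k⁻¹⁻¹ = v by group] at h1
  set u := (v * e) ^ (orderOf (v * e) / 2)
  have hl : Commute u v := Dihedral.half_commute_left hv he2 heven
  have hr : Commute u e := Dihedral.half_commute_right hv he2 heven
  have hua : u • a = a := honly _ (by rw [smul_smul, hl.symm.eq, mul_smul, hva])
  have hub : u • b = b := hop.fix_of_commute he.1 he.2 hr.symm
  have hubad : IsBad Ω u := ⟨Dihedral.half_orderOf heven, b, a, hba, hub, hua⟩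
  -- `W a` is transitive on the fixed points of `u` besides `a`
  set c := v • b with hcdef
  have hca : c ≠ a := fun e' => hba (smul_left_cancel v (by rw [← hcdef, e', hva]))
  have huc : u • c = c := by rw [hcdef, smul_smul, hl.eq, mul_smul, hub]
  have hmap : ∀ r : W a, (r : G) • c ∈ fixedBy Ω u \ {a} := fun r =>
    ⟨by rw [mem_fixedBy, smul_smul, (hc.comm u a hubad hua r r.2).eq, mul_smul, huc],
      fun e' => hca (smul_left_cancel (r : G)
        ((Set.mem_singleton_iff.1 e').trans (mem_stabilizer_iff.1 (h.fix a r.2)).symm))⟩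
  obtain ⟨r, hr'⟩ : ∃ r : W a, (r : G) • c = b := by
    have hinj : Function.Injective fun r : W a => (⟨_, hmap r⟩ : ↥(fixedBy Ω u \ {a})) := by
      intro r r' e'
      have e1 : (r : G) • c = (r' : G) • c := congrArg Subtype.val e'
      by_contra hne
      refine hca (h.unique a ((r' : G)⁻¹ * r) (mul_mem (inv_mem r'.2) r.2)
        (fun e2 => hne (Subtype.ext (inv_mul_eq_one.1 e2).symm)) c ?_)
      rw [mul_smul, e1, inv_smul_smul]
    have hcard : Nat.card ↥(fixedBy Ω u \ {a}) ≤ Nat.card (W a) := by
      rw [Nat.card_coe_set_eq, Set.ncard_diff_singleton_of_mem (show a ∈ fixedBy Ω u from hua),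
        ← Nat.card_coe_set_eq, hc.card_fixed u hubad, hc.card_W, pow_one, Nat.add_sub_cancel]
    obtain ⟨r, hr'⟩ := (hinj.bijective_of_nat_card_le hcard).2
      ⟨b, hub, fun e' => hba (Set.mem_singleton_iff.1 e')⟩
    exact ⟨r, congrArg Subtype.val hr'⟩
  -- `r * v` fixes `a` and `b`
  set g := (r : G) * v with hg
  have hga : g • a = a := by rw [hg, mul_smul, hva, mem_stabilizer_iff.1 (h.fix a r.2)]
  have hgb : g • b = b := by rw [hg, mul_smul, ← hcdef, hr']
  have hsq : g * g ∈ W a := by
    have h1 := h.conj v a r r.2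
    rw [hva, Dihedral.inv_eq hv] at h1
    rw [hg, show (r : G) * v * (r * v) = r * (v * r * v) by group]
    exact mul_mem r.2 h1
  have hgg : g * g = 1 := by
    by_contra hne
    exact hba (h.unique a _ hsq hne b (by rw [mul_smul, hgb, hgb]))
  have hg1 : g ≠ 1 := fun e' => hvW (by
    rw [eq_inv_of_mul_eq_one_right (hg ▸ e' : (r : G) * v = 1)]
    exact inv_mem r.2)
  have hgbad : IsBad Ω g := ⟨Dihedral.orderOf_eq_two hgg hg1, b, a, hba, hgb, hga⟩
  refine hvbad ?_
  have hvg : v = g * r := by
    rw [(hc.comm g a hgbad hga r r.2).eq, hg, ← mul_assoc, h.sq a r r.2, one_mul]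
  rw [hvg]
  exact hc.bad_mul g a hgbad hga r r.2

end CfsgLib.LocalEven.TIEndgame
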