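import Mathlib.GroupTheory.QuotientGroup.Basic
import Mathlib.GroupTheory.Coset.Card
import Mathlib.Algebra.BigOperators.Group.Finset.Basic
import Mathlib.Algebra.Group.Subgroup.Finite
import Mathlib.Tactic

/-!
# The complement to the fixed points of an odd group on an elementary abelian factor

`P / W₀` is elementary abelian and the odd group `J` acts on it: the kernel of the norm is a
complement to the fixed points, invariant under everything normalising `P`, `W₀` and `J`.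
-/

set_option autoImplicit false

namespace CfsgLib.LocalEven.TIEndgame.Linear

variable {G : Type*} [Group G]

theorem exists_norm_complement [Finite G] (P W₀ J : Subgroup G) (hW : W₀ ≤ P)
    (hn : ∀ g ∈ P, ∀ w ∈ W₀, g * w * g⁻¹ ∈ W₀) (hsq : ∀ g ∈ P, g * g ∈ W₀)
    (hJodd : Odd (Nat.card J)) (hJP : ∀ j ∈ J, ∀ g ∈ P, j * g * j⁻¹ ∈ P)
    (hJW : ∀ j ∈ J, ∀ w ∈ W₀, j * w * j⁻¹ ∈ W₀) :
    ∃ E : Subgroup G, W₀ ≤ E ∧ E ≤ P ∧
      (∀ g ∈ E, (∀ j ∈ J, j * g * j⁻¹ * g⁻¹ ∈ W₀) → g ∈ W₀) ∧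
      (∀ g ∈ P, ∃ f ∈ P, (∀ j ∈ J, j * f * j⁻¹ * f⁻¹ ∈ W₀) ∧ f⁻¹ * g ∈ E) ∧
      (∀ x : G, (∀ g, g ∈ P ↔ x * g * x⁻¹ ∈ P) → (∀ w, w ∈ W₀ ↔ x * w * x⁻¹ ∈ W₀) →
        (∀ j, j ∈ J ↔ x * j * x⁻¹ ∈ J) → ∀ g ∈ E, x * g * x⁻¹ ∈ E) := by
  classical
  have hK : (W₀.subgroupOf P).Normal := ⟨fun w hw g => hn g g.2 w hw⟩
  have h2 : ∀ v : ↥P ⧸ W₀.subgroupOf P, v * v = 1 := by
    intro v
    induction v using QuotientGroup.induction_on with
    | H g => exact (QuotientGroup.eq_one_iff _).2 (hsq g g.2)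
  have hcomm : ∀ v w : ↥P ⧸ W₀.subgroupOf P, v * w = w * v := by
    intro v w
    have hi : ∀ t : ↥P ⧸ W₀.subgroupOf P, t⁻¹ = t := fun t => inv_eq_of_mul_eq_one_right (h2 t)
    calc v * w = (v * w)⁻¹ := (hi _).symm
      _ = w⁻¹ * v⁻¹ := mul_inv_rev v w
      _ = w * v := by rw [hi, hi]
  let : CommGroup (↥P ⧸ W₀.subgroupOf P) :=
    { (inferInstance : Group (↥P ⧸ W₀.subgroupOf P)) with mul_comm := hcomm }
  have : Fintype J := Fintype.ofFinite J
  let c : J → P → (↥P ⧸ W₀.subgroupOf P) := fun j g =>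
    QuotientGroup.mk ⟨(j : G) * g * (j : G)⁻¹, hJP j j.2 g g.2⟩
  have hc : ∀ j g h, c j (g * h) = c j g * c j h := fun j g h => by
    simp only [c, ← QuotientGroup.mk_mul]
    exact congrArg QuotientGroup.mk (Subtype.ext (by simp only [Subgroup.coe_mul]; group))
  let ψ : ↥P →* (↥P ⧸ W₀.subgroupOf P) := MonoidHom.mk' (fun g => ∏ j : J, c j g)
    (fun g h => by simp only [hc]; exact Finset.prod_mul_distrib)
  have hψ : ∀ g, ψ g = ∏ j : J, c j g := fun g => rfl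
  -- the norm of a fixed element is itself
  have hfix : ∀ g : P, (∀ j ∈ J, j * g * j⁻¹ * (g : G)⁻¹ ∈ W₀) → ψ g = QuotientGroup.mk g := by
    intro g hg
    have : ∀ j : J, c j g = QuotientGroup.mk g := fun j => by
      refine (QuotientGroup.eq.2 ?_)
      show (⟨(j : G) * g * (j : G)⁻¹, _⟩ : P)⁻¹ * g ∈ W₀.subgroupOf P
      rw [Subgroup.mem_subgroupOf]
      have h1 := inv_mem (hg j j.2)
      have h2' := hn (g : G)⁻¹ (inv_mem g.2) _ h1
      simp only [Subgroup.coe_mul, Subgroup.coe_inv]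
      convert h2' using 1
      group
    rw [hψ, Finset.prod_congr rfl (fun j _ => this j), Finset.prod_const, Finset.card_univ,
      ← Nat.card_eq_fintype_card]
    obtain ⟨k, hk⟩ := hJodd
    rw [hk, pow_succ, pow_mul, pow_two, h2, one_pow, one_mul]
  refine ⟨ψ.ker.map P.subtype, ?_, ?_, ?_, ?_, ?_⟩
  · intro w hw
    refine ⟨⟨w, hW hw⟩, ?_, rfl⟩
    show ψ ⟨w, hW hw⟩ = 1
    rw [hψ]
    exact Finset.prod_eq_one fun j _ => (QuotientGroup.eq_one_iff _).2 (hJW j j.2 w hw)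
  · exact Subgroup.map_subtype_le _
  · rintro _ ⟨g, hg, rfl⟩ hgfix
    have h1 := hfix g hgfix
    rw [show ψ g = 1 from hg] at h1
    exact (QuotientGroup.eq_one_iff g).1 h1.symm
  · intro g hg
    obtain ⟨f, hf⟩ := QuotientGroup.mk_surjective (ψ ⟨g, hg⟩)
    have hff : ∀ j ∈ J, j * f * j⁻¹ * (f : G)⁻¹ ∈ W₀ := by
      intro j hj
      -- conjugation by `j` permutes the factors of the norm
      let σ : (↥P ⧸ W₀.subgroupOf P) →* (↥P ⧸ W₀.subgroupOf P) :=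
        QuotientGroup.lift _ (MonoidHom.mk' (fun x => c ⟨j, hj⟩ x) (hc ⟨j, hj⟩))
          fun x hx => (QuotientGroup.eq_one_iff _).2 (hJW j hj x hx)
      have hσ : σ (ψ ⟨g, hg⟩) = ψ ⟨g, hg⟩ := by
        rw [hψ, map_prod]
        refine Fintype.prod_equiv (Equiv.mulLeft (⟨j, hj⟩ : J)) _ _ fun i => ?_
        exact congrArg QuotientGroup.mk (Subtype.ext (by
          simp only [Equiv.coe_mulLeft, Subgroup.coe_mul]; group))
      rw [← hf] at hσ
      have h1 : (⟨j * f * j⁻¹, hJP j hj f f.2⟩ : P)⁻¹ * f ∈ W₀.subgroupOf P := QuotientGroup.eq.1 hσ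
      rw [Subgroup.mem_subgroupOf] at h1
      have h3 := inv_mem (hn (f : G) f.2 _ h1)
      simp only [Subgroup.coe_mul, Subgroup.coe_inv] at h3
      convert h3 using 1
      group
    refine ⟨f, f.2, hff, f⁻¹ * ⟨g, hg⟩, ?_, rfl⟩
    show ψ (f⁻¹ * ⟨g, hg⟩) = 1
    rw [map_mul, map_inv, hfix f hff, ← hf]
    simp
  · rintro x hxP hxW hxJ _ ⟨g, hg, rfl⟩
    refine ⟨⟨x * g * x⁻¹, (hxP g).1 g.2⟩, ?_, rfl⟩
    let θ : ↥P →* (↥P ⧸ W₀.subgroupOf P) := MonoidHom.mk'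
      (fun u => QuotientGroup.mk ⟨x * u * x⁻¹, (hxP u).1 u.2⟩) (fun u v => by
        rw [← QuotientGroup.mk_mul]
        exact congrArg QuotientGroup.mk (Subtype.ext (by simp only [Subgroup.coe_mul]; group)))
    let θ' : (↥P ⧸ W₀.subgroupOf P) →* (↥P ⧸ W₀.subgroupOf P) :=
      QuotientGroup.lift _ θ fun u hu => (QuotientGroup.eq_one_iff _).2 ((hxW u).1 hu)
    have h1 : θ' (ψ g) = ψ ⟨x * g * x⁻¹, (hxP g).1 g.2⟩ := by
      rw [hψ, hψ, map_prod]
      let e : J ≃ J :=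
        { toFun := fun j => ⟨x * j * x⁻¹, (hxJ j).1 j.2⟩
          invFun := fun j => ⟨x⁻¹ * j * x, (hxJ _).2 (by
            rw [show x * (x⁻¹ * (j : G) * x) * x⁻¹ = j by group]; exact j.2)⟩
          left_inv := fun j => Subtype.ext (show x⁻¹ * (x * (j : G) * x⁻¹) * x = j by group)
          right_inv := fun j => Subtype.ext (show x * (x⁻¹ * (j : G) * x) * x⁻¹ = j by group) }
      refine Fintype.prod_equiv e _ _ fun i => congrArg QuotientGroup.mk (Subtype.ext ?_)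
      show x * ((i : G) * g * (i : G)⁻¹) * x⁻¹ = (x * i * x⁻¹) * (x * g * x⁻¹) * (x * i * x⁻¹)⁻¹
      group
    show ψ _ = 1
    rw [← h1, show ψ g = 1 from hg, map_one]

end CfsgLib.LocalEven.TIEndgame.Linear
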