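import Cfsg.Agent.Lib.LocalEven.TIEndgame.Defs
import Cfsg.Agent.Lib.LocalEven.TIEndgame.Central.NormComplement

/-!
# The linear case: first consequences

`LinCtx` is the standing data with `|Q| = |W a|`.
-/

set_option autoImplicit false
set_option linter.unusedSectionVars false
set_option linter.unusedVariables false

namespace CfsgLib.LocalEven.TIEndgame

open MulAction Subgroup
open scoped commutatorElement

universe u

variable {G Ω : Type u} [Group G] [Finite G] [Finite Ω] [MulAction G Ω] [FaithfulSMul G Ω]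

/-- The standing data of the linear case. -/
structure LinCtx (W : Ω → Subgroup G) (a b : Ω) (z : G) (Q N J : Subgroup G) : Prop where
  fam : Fam W a b z Q N J
  linear : Nat.card Q = Nat.card ↥(W a)
  fix_card : ∀ v : G, IsBad Ω v → v • a = a →
    Nat.card (fixedBy Ω v) = Nat.card ↥(W a) + 1
  points : Nat.card Ω = Nat.card ↥(W a) ^ 3 + 1
  invol : ∀ v : G, orderOf v = 2 → v • a = a → v ∈ W a ∨ IsBad Ω v
  shift : Shift W a z

omit [Finite G] [Finite Ω] [FaithfulSMul G Ω] in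
theorem mem_cW {W : Ω → Subgroup G} {a : Ω} {g : G} :
    g ∈ cW W a ↔ g • a = a ∧ ∀ w ∈ W a, Commute w g := by
  rw [cW, Subgroup.mem_inf, mem_stabilizer_iff, Subgroup.mem_centralizer_iff]
  exact Iff.rfl

namespace LinCtx

variable {W : Ω → Subgroup G} {a b : Ω} {z : G} {Q N J : Subgroup G} (C : LinCtx W a b z Q N J)
include C

theorem ti : TISetting W := C.fam.setting.toTISetting

theorem z_sq : z * z = 1 := by
  rw [← pow_two, ← C.fam.bad.1, pow_orderOf_eq_one]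

theorem z_ne : z ≠ 1 := fun e => by
  have h := C.fam.bad.1
  rw [e, orderOf_one] at h
  omega

theorem z_comm {w : G} (hw : w ∈ W a) : Commute z w := C.fam.all a z C.fam.bad C.fam.fix_a w hw

theorem w_fix {w : G} (hw : w ∈ W a) : w • a = a := mem_stabilizer_iff.1 (C.ti.fix a hw)

theorem w_inv {w : G} (hw : w ∈ W a) : w⁻¹ = w := inv_eq_of_mul_eq_one_right (C.ti.sq a w hw)

theorem W_le_cent : W a ⊓ centralizer {z} = W a :=
  inf_eq_left.2 fun w hw => Subgroup.mem_centralizer_singleton_iff.2 (C.z_comm hw).symm.eq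

theorem Q_eq : Q = W a := by
  refine (Subgroup.eq_of_le_of_card_ge ?_ C.linear.le).symm
  simpa [C.W_le_cent] using C.fam.loc.inf_le

theorem W_le_cW : W a ≤ cW W a := fun _ hw =>
  mem_cW.2 ⟨C.w_fix hw, fun _ hw' => C.ti.mul_comm_of_mem hw' hw⟩

theorem semireg {w : G} (hw : w ∈ W a) {c : Ω} (hc : c ≠ a) (h : w • c = c) : w = 1 :=
  by_contra fun h1 => hc (C.ti.unique a w hw h1 c h)

theorem bad_cW {v : G} (hv : IsBad Ω v) (hva : v • a = a) : v ∈ cW W a :=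
  mem_cW.2 ⟨hva, fun w hw => (C.fam.all a v hv hva w hw).symm⟩

theorem bad_notMem {v : G} (hv : IsBad Ω v) : v ∉ W a := by
  intro hw
  obtain ⟨hv2, p, q, hpq, hp, hq⟩ := hv
  have h1 : v ≠ 1 := fun e => by rw [e, orderOf_one] at hv2; omega
  exact hpq ((C.ti.unique a v hw h1 p hp).trans (C.ti.unique a v hw h1 q hq).symm)

theorem z_cY : z ∈ cY W a z :=
  ⟨C.bad_cW C.fam.bad C.fam.fix_a, Subgroup.mem_centralizer_singleton_iff.2 rfl⟩

omit C in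
theorem mem_cY {v g : G} : g ∈ cY W a v ↔ g ∈ cW W a ∧ Commute v g := by
  rw [cY, Subgroup.mem_inf, Subgroup.mem_centralizer_singleton_iff]
  exact and_congr_right fun _ => ⟨fun e => e.symm, fun e => e.eq.symm⟩

theorem W_le_cY {v : G} (hv : IsBad Ω v) (hva : v • a = a) : W a ≤ cY W a v := fun w hw =>
  mem_cY.2 ⟨C.W_le_cW hw, C.fam.all a v hv hva w hw⟩

theorem mem_N_iff {g : G} : g ∈ N ↔ g ∈ cY W a z ∧ g • b = b := by
  rw [C.fam.eq_N, Subgroup.mem_inf, mem_stabilizer_iff]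

theorem N_le : N ≤ cY W a z := fun _ hg => (C.mem_N_iff.1 hg).1

theorem N_inf_W {g : G} (hg : g ∈ N) (hw : g ∈ W a) : g = 1 :=
  C.semireg hw C.fam.ne (C.mem_N_iff.1 hg).2

/-- `cY W a z` is elementary abelian. -/
theorem cY_sq {g : G} (hg : g ∈ cY W a z) : g * g = 1 := by
  obtain ⟨x, hx, n, hn, rfl⟩ := C.fam.decomp g hg
  rw [C.Q_eq] at hx
  have hc : Commute x n := (mem_cW.1 (mem_cY.1 (C.N_le hn)).1).2 x hx
  rw [show x * n * (x * n) = (x * x) * (n * n) by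
    rw [mul_assoc, ← mul_assoc n x n, ← hc.eq]; group, C.ti.sq a x hx, C.fam.sq_N n hn, one_mul]

theorem cY_comm {g h : G} (hg : g ∈ cY W a z) (hh : h ∈ cY W a z) : Commute g h := by
  have hi : ∀ t ∈ cY W a z, t⁻¹ = t := fun t ht => inv_eq_of_mul_eq_one_right (C.cY_sq ht)
  show g * h = h * g
  calc g * h = (g * h)⁻¹ := (hi _ (mul_mem hg hh)).symm
    _ = h⁻¹ * g⁻¹ := mul_inv_rev g h
    _ = h * g := by rw [hi g hg, hi h hh]

/-- Members fixed by the torus are trivial. -/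
theorem W_fixed {w : G} (hw : w ∈ W a) (hJ : ∀ j ∈ J, j * w * j⁻¹ = w) : w = 1 := by
  by_contra h1
  have h4 := C.fam.four
  have hwc : w ∈ W a ⊓ centralizer {z} := by rw [C.W_le_cent]; exact hw
  have hsub : ∀ x ∈ W a, x ≠ 1 → x = w := fun x hx hx1 => by
    obtain ⟨j, hj, hjx⟩ := C.fam.torus.trans w hwc h1 x (by rw [C.W_le_cent]; exact hx) hx1
    rw [← hjx, hJ j hj]
  have : Nat.card ↥(W a) ≤ Nat.card Bool := by
    classical
    refine Nat.card_le_card_of_injective (fun x : ↥(W a) => decide ((x : G) = 1)) fun x y h => ?_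
    simp only [decide_eq_decide] at h
    apply Subtype.ext
    by_cases hx : (x : G) = 1
    · rw [hx, h.1 hx]
    · rw [hsub x x.2 hx, hsub y y.2 (fun e => hx (h.2 e))]
  simp at this
  omega

theorem J_odd : Odd (Nat.card J) := by
  have h := C.fam.torus.card
  rw [C.W_le_cent] at h
  have : Fact (Nat.Prime 2) := ⟨Nat.prime_two⟩
  have h2 : IsPGroup 2 ↥(W a) := fun x => ⟨1, Subtype.ext (by
    simpa [pow_two] using C.ti.sq a x x.2)⟩
  obtain ⟨k, hk⟩ := h2.exists_card_eq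
  have h4 := C.fam.four
  rcases k with _ | k
  · simp [hk] at h4
  rw [hk, pow_succ] at h
  exact ⟨2 ^ k - 1, by omega⟩

theorem J_comm {j : G} (hj : j ∈ J) : Commute z j := by
  have h1 : j ∈ core W (centralizer {z}) := (Subgroup.mem_inf.1 (Subgroup.mem_inf.1
    (C.fam.torus.le hj)).1).1
  have h2 : core W (centralizer {z}) ≤ centralizer {z} := closure_le _ |>.2 fun d hd => hd.2
  exact (Subgroup.mem_centralizer_singleton_iff.1 (h2 h1)).symm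

theorem J_fix_a {j : G} (hj : j ∈ J) : j • a = a :=
  mem_stabilizer_iff.1 (Subgroup.mem_inf.1 (Subgroup.mem_inf.1 (C.fam.torus.le hj)).1).2

theorem J_fix_b {j : G} (hj : j ∈ J) : j • b = b :=
  mem_stabilizer_iff.1 (Subgroup.mem_inf.1 (C.fam.torus.le hj)).2

theorem conj_W {g w : G} (hg : g • a = a) (hw : w ∈ W a) : g * w * g⁻¹ ∈ W a := by
  have h := C.ti.conj g a w hw
  rwa [hg] at h

theorem conj_cW {g x : G} (hg : g • a = a) (hx : x ∈ cW W a) : g * x * g⁻¹ ∈ cW W a := by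
  have hg' : g⁻¹ • a = a := by rw [inv_smul_eq_iff, hg]
  refine mem_cW.2 ⟨by rw [mul_smul, mul_smul, hg', (mem_cW.1 hx).1, hg], fun w hw => ?_⟩
  have h1 := (mem_cW.1 hx).2 _ (C.conj_W hg' hw)
  rw [inv_inv] at h1
  show w * (g * x * g⁻¹) = g * x * g⁻¹ * w
  calc w * (g * x * g⁻¹) = g * ((g⁻¹ * w * g) * x) * g⁻¹ := by group
    _ = g * (x * (g⁻¹ * w * g)) * g⁻¹ := by rw [h1.eq]
    _ = g * x * g⁻¹ * w := by group

/-! ### `P = cMod W a z` and the map `g ↦ ⁅z, g⁆` -/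

theorem comm_mul {g h : G} (hg : g ∈ cW W a) (hh : ⁅z, h⁆ ∈ W a) :
    ⁅z, g * h⁆ = ⁅z, g⁆ * ⁅z, h⁆ := by
  have h1 : ⁅z, g * h⁆ = ⁅z, g⁆ * (g * ⁅z, h⁆ * g⁻¹) := by
    simp only [commutatorElement_def]; group
  rw [h1, ← ((mem_cW.1 hg).2 _ hh).eq, mul_inv_cancel_right]

theorem mem_P {g : G} : g ∈ cMod W a z ↔ g ∈ cW W a ∧ ⁅z, g⁆ ∈ W a := by
  refine ⟨fun hg => ?_, fun hg => subset_closure hg⟩
  refine closure_induction (p := fun x _ => x ∈ cW W a ∧ ⁅z, x⁆ ∈ W a) (fun x hx => hx)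
    ⟨one_mem _, by rw [commutatorElement_one_right]; exact one_mem _⟩ ?_ ?_ hg
  · rintro x y - - ⟨hx, hx'⟩ ⟨hy, hy'⟩
    exact ⟨mul_mem hx hy, by rw [C.comm_mul hx hy']; exact mul_mem hx' hy'⟩
  · rintro x - ⟨hx, hx'⟩
    refine ⟨inv_mem hx, ?_⟩
    have hc : x⁻¹ * ⁅z, x⁆ * x = ⁅z, x⁆ := by
      rw [mul_assoc, ((mem_cW.1 hx).2 _ hx').eq, inv_mul_cancel_left]
    have he : ⁅z, x⁻¹⁆ = (x⁻¹ * ⁅z, x⁆ * x)⁻¹ := by simp only [commutatorElement_def]; group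
    rw [he, hc]
    exact inv_mem hx'

theorem P_cW {g : G} (hg : g ∈ cMod W a z) : g ∈ cW W a := (C.mem_P.1 hg).1

theorem tau_mem {g : G} (hg : g ∈ cMod W a z) : ⁅z, g⁆ ∈ W a := (C.mem_P.1 hg).2

theorem tau_mul {g h : G} (hg : g ∈ cMod W a z) (hh : h ∈ cMod W a z) :
    ⁅z, g * h⁆ = ⁅z, g⁆ * ⁅z, h⁆ := C.comm_mul (C.P_cW hg) (C.tau_mem hh)

omit C in
theorem tau_eq_one {g : G} : ⁅z, g⁆ = 1 ↔ Commute z g := commutatorElement_eq_one_iff_commute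

theorem cY_le_P : cY W a z ≤ cMod W a z := fun g hg => C.mem_P.2 ⟨(mem_cY.1 hg).1, by
  rw [tau_eq_one.2 (mem_cY.1 hg).2]; exact one_mem _⟩

theorem W_le_P : W a ≤ cMod W a z := (C.W_le_cY C.fam.bad C.fam.fix_a).trans C.cY_le_P

theorem P_conj {g x : G} (hg : g • a = a) (hgz : Commute z g) (hx : x ∈ cMod W a z) :
    g * x * g⁻¹ ∈ cMod W a z := by
  refine C.mem_P.2 ⟨C.conj_cW hg (C.P_cW hx), ?_⟩
  have h1 : ⁅z, g * x * g⁻¹⁆ = g * ⁅z, x⁆ * g⁻¹ := by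
    rw [commutatorElement_def, commutatorElement_def]
    calc z * (g * x * g⁻¹) * z⁻¹ * (g * x * g⁻¹)⁻¹
        = (z * g) * x * (z * g)⁻¹ * g * x⁻¹ * g⁻¹ := by group
      _ = (g * z) * x * (g * z)⁻¹ * g * x⁻¹ * g⁻¹ := by rw [hgz.eq]
      _ = g * (z * x * z⁻¹ * x⁻¹) * g⁻¹ := by group
  rw [h1]
  exact C.conj_W hg (C.tau_mem hx)

theorem P_J {j x : G} (hj : j ∈ J) (hx : x ∈ cMod W a z) : j * x * j⁻¹ ∈ cMod W a z :=
  C.P_conj (C.J_fix_a hj) (C.J_comm hj) hx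

theorem W_central {g w : G} (hg : g ∈ cMod W a z) (hw : w ∈ W a) : Commute w g :=
  (mem_cW.1 (C.P_cW hg)).2 w hw

/-- Squares in `P` lie in `W a`. -/
theorem P_sq {g : G} (hg : g ∈ cMod W a z) : g * g ∈ W a := by
  have hA : g * g ∈ cY W a z := mem_cY.2 ⟨mul_mem (C.P_cW hg) (C.P_cW hg), tau_eq_one.1 (by
    rw [C.tau_mul hg hg, C.ti.sq a _ (C.tau_mem hg)])⟩
  obtain ⟨x, hx, n, hn, he⟩ := C.fam.decomp _ hA
  rw [C.Q_eq] at hx
  by_cases hn1 : n = 1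
  · rw [he, hn1, mul_one]; exact hx
  have hn' : n = x⁻¹ * (g * g) := by rw [he]; group
  have hgn : Commute n g := by
    rw [hn']
    exact (C.W_central hg hx).inv_left.mul_left ((Commute.refl g).mul_left (Commute.refl g))
  have hgA : g ∈ cY W a z := by
    rw [← C.fam.cY_eq n hn hn1]
    exact mem_cY.2 ⟨C.P_cW hg, hgn⟩
  rw [C.cY_sq hgA]
  exact one_mem _

theorem P_comm_mem {g h : G} (hg : g ∈ cMod W a z) (hh : h ∈ cMod W a z) : ⁅g, h⁆ ∈ W a := by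
  have h2 : ⁅g, h⁆ = (g * g) * ((g⁻¹ * h) * (g⁻¹ * h)) * (h⁻¹ * h⁻¹) := by
    rw [commutatorElement_def]; group
  rw [h2]
  have hm := mul_mem (inv_mem hg) hh
  exact mul_mem (mul_mem (C.P_sq hg) (C.P_sq hm)) (C.P_sq (inv_mem hh))

theorem P_conj_self {g x : G} (hg : g ∈ cMod W a z) (hx : x ∈ cMod W a z) :
    x⁻¹ * (g * x * g⁻¹) ∈ W a := by
  have h1 : x⁻¹ * (g * x * g⁻¹) = ⁅x⁻¹, g⁆ := by rw [commutatorElement_def]; group
  rw [h1]
  exact C.P_comm_mem (inv_mem hx) hg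

theorem exists_tau {f : G} (hf : f ∈ W a) : ∃ g ∈ cMod W a z, ⁅z, g⁆ = f := by
  obtain ⟨g, hg, hgf⟩ := C.shift f hf
  exact ⟨g, C.mem_P.2 ⟨hg, hgf ▸ hf⟩, hgf⟩

theorem tau_conj {j g : G} (hj : j ∈ J) : ⁅z, j * g * j⁻¹⁆ = j * ⁅z, g⁆ * j⁻¹ := by
  rw [commutatorElement_def, commutatorElement_def]
  calc z * (j * g * j⁻¹) * z⁻¹ * (j * g * j⁻¹)⁻¹
      = (z * j) * g * (z * j)⁻¹ * j * g⁻¹ * j⁻¹ := by group
    _ = (j * z) * g * (j * z)⁻¹ * j * g⁻¹ * j⁻¹ := by rw [(C.J_comm hj).eq]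
    _ = j * (z * g * z⁻¹ * g⁻¹) * j⁻¹ := by group

theorem card_cY : Nat.card ↥(cY W a z) = Nat.card ↥(W a) * Nat.card N := by
  rw [← Nat.card_prod]
  refine (Nat.card_eq_of_bijective (fun p : ↥(W a) × N => (⟨(p.1 : G) * p.2,
    mul_mem (C.W_le_cY C.fam.bad C.fam.fix_a p.1.2) (C.N_le p.2.2)⟩ : ↥(cY W a z))) ⟨?_, ?_⟩).symm
  · rintro ⟨x, n⟩ ⟨y, m⟩ h
    have h' : (x : G) * n = y * m := congrArg Subtype.val h
    have h1 : (y : G)⁻¹ * x = m * (n : G)⁻¹ := by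
      rw [eq_mul_inv_iff_mul_eq, mul_assoc, h', inv_mul_cancel_left]
    have h2 : (y : G)⁻¹ * x = 1 :=
      C.N_inf_W (h1 ▸ mul_mem m.2 (inv_mem n.2)) (mul_mem (inv_mem y.2) x.2)
    have hxy : x = y := Subtype.ext (inv_mul_eq_one.1 h2).symm
    subst hxy
    exact Prod.ext rfl (Subtype.ext (mul_left_cancel h'))
  · rintro ⟨g, hg⟩
    obtain ⟨x, hx, n, hn, rfl⟩ := C.fam.decomp g hg
    rw [C.Q_eq] at hx
    exact ⟨(⟨x, hx⟩, ⟨n, hn⟩), rfl⟩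

theorem card_P : Nat.card ↥(cMod W a z) = Nat.card ↥(W a) * Nat.card ↥(cY W a z) := by
  let τ : ↥(cMod W a z) →* ↥(W a) := MonoidHom.mk' (fun g => ⟨⁅z, (g : G)⁆, C.tau_mem g.2⟩)
    (fun g h => Subtype.ext (C.tau_mul g.2 h.2))
  have hτ : Function.Surjective τ := fun f => by
    obtain ⟨g, hg, hgf⟩ := C.exists_tau f.2
    exact ⟨⟨g, hg⟩, Subtype.ext hgf⟩
  have hk : Nat.card τ.ker = Nat.card ↥(cY W a z) := by
    refine Nat.card_eq_of_bijective (fun g => ⟨(g : ↥(cMod W a z)),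
      mem_cY.2 ⟨C.P_cW g.1.2, tau_eq_one.1 (congrArg Subtype.val g.2)⟩⟩) ⟨fun g h e => ?_, fun g => ?_⟩
    · exact Subtype.ext (Subtype.ext (congrArg (fun t : ↥(cY W a z) => (t : G)) e))
    · exact ⟨⟨⟨g, C.cY_le_P g.2⟩, Subtype.ext (tau_eq_one.2 (mem_cY.1 g.2).2)⟩, rfl⟩
  rw [Subgroup.card_eq_card_quotient_mul_card_subgroup τ.ker,
    Nat.card_congr (QuotientGroup.quotientKerEquivOfSurjective τ hτ).toEquiv, hk]

/-- The complement `E` of `cY W a z` in `P`. -/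
theorem exists_E : ∃ E : Subgroup G, W a ≤ E ∧ E ≤ cMod W a z ∧
    (∀ g ∈ E, g ∈ cY W a z → g ∈ W a) ∧
    (∀ g ∈ cMod W a z, ∃ n ∈ cY W a z, n⁻¹ * g ∈ E) ∧
    (∀ j ∈ J, ∀ g ∈ E, j * g * j⁻¹ ∈ E) := by
  obtain ⟨E, hWE, hEP, hmeet, hdec, hinv⟩ := Linear.exists_norm_complement (cMod W a z) (W a) J
    C.W_le_P (fun g hg w hw => C.conj_W (mem_cW.1 (C.P_cW hg)).1 hw) (fun g hg => C.P_sq hg)
    C.J_odd (fun j hj g hg => C.P_J hj hg) (fun j hj w hw => C.conj_W (C.J_fix_a hj) hw)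
  refine ⟨E, hWE, hEP, fun g hg hgA => hmeet g hg fun j hj => ?_, fun g hg => ?_, fun j hj => ?_⟩
  · obtain ⟨x, hx, n, hn, rfl⟩ := C.fam.decomp g hgA
    rw [C.Q_eq] at hx
    have hnj : j * n = n * j := (C.fam.comm_J n hn j hj).eq.symm
    have h1 : j * (x * n) * j⁻¹ * (x * n)⁻¹ = (j * x * j⁻¹) * x⁻¹ := by
      calc j * (x * n) * j⁻¹ * (x * n)⁻¹ = j * x * j⁻¹ * (j * n) * j⁻¹ * n⁻¹ * x⁻¹ := by group
        _ = j * x * j⁻¹ * (n * j) * j⁻¹ * n⁻¹ * x⁻¹ := by rw [hnj]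
        _ = (j * x * j⁻¹) * x⁻¹ := by group
    rw [h1]
    exact mul_mem (C.conj_W (C.J_fix_a hj) hx) (inv_mem hx)
  · obtain ⟨f, hf, hfix, hfg⟩ := hdec g hg
    refine ⟨f, mem_cY.2 ⟨C.P_cW hf, tau_eq_one.1 (C.W_fixed (C.tau_mem hf) fun j hj => ?_)⟩, hfg⟩
    have hm : j * f * j⁻¹ = (j * f * j⁻¹ * f⁻¹) * f := by group
    have hzw : Commute z (j * f * j⁻¹ * f⁻¹) := C.z_comm (hfix j hj)
    rw [← C.tau_conj hj, hm, C.tau_mul (C.W_le_P (hfix j hj)) hf, tau_eq_one.2 hzw, one_mul]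
  · refine hinv j (fun g => ⟨fun hg => C.P_J hj hg, fun hg => ?_⟩)
      (fun w => ⟨fun hw => C.conj_W (C.J_fix_a hj) hw, fun hw => ?_⟩)
      (fun i => ⟨fun hi => mul_mem (mul_mem hj hi) (inv_mem hj), fun hi => ?_⟩)
    · simpa [mul_assoc] using C.P_J (inv_mem hj) hg
    · simpa [mul_assoc] using C.conj_W (C.J_fix_a (inv_mem hj)) hw
    · simpa [mul_assoc] using mul_mem (mul_mem (inv_mem hj) hi) hj

end LinCtx

end CfsgLib.LocalEven.TIEndgame
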