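import Mathlib.LinearAlgebra.Dual.Lemmas
import Cfsg.Agent.Lib.OddOrder.Final.Main
import Cfsg.Agent.Lib.LocalEven.TIEndgame.OddFormRigid
import Cfsg.Agent.Lib.LocalEven.TIEndgame.OddTransitiveCard
import Cfsg.Agent.Lib.LocalEven.TIEndgame.OddIndexTransfer
import Cfsg.Agent.Lib.LocalEven.TIEndgame.Central.SquareCount
import Cfsg.Agent.Lib.LocalEven.TIEndgame.Central.SquareTwoGroup

/-!
# Suzuki lines with a kernel of order two do not occur

`P = cMod W a z` is a Sylow 2-subgroup of the group.  The commutator form on `P / W a` and the torus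
force `P` to be self-normalising in `cW W a`, so its normaliser in the stabiliser of `a` fixes `z`
modulo `W a`; as `P / W a` is abelian the transfer to a functional on it is nontrivial at `z` and
trivial at every member.
-/

set_option autoImplicit false
set_option linter.style.haveILetI false

namespace CfsgLib.LocalEven.TIEndgame.SquareTwo

open MulAction Subgroup
open scoped commutatorElement

universe u

section Rigid

open Finset

variable {V U X : Type*} [AddCommGroup V] [AddCommGroup U] [Group X] [DistribMulAction X V]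

/-- An abelian odd group as in `OddFormRigid` fixes the vector fixed by `t`, even if it has other
fixed vectors. -/
theorem smul_eq_of_abelian [Finite V] (h2 : ∀ v : V, v + v = 0) (B : V →+ V →+ U)
    (hnd : ∀ v, (∀ w, B v w = 0) → v = 0) (hsymm : ∀ v w, B v w = B w v)
    (K : Subgroup X) [Finite K] (hcomm : ∀ k ∈ K, ∀ l ∈ K, Commute k l)
    (hodd : Odd (Nat.card K)) (hinv : ∀ k ∈ K, ∀ v w, B (k • v) (k • w) = B v w) (t : X)
    (hnorm : t ∈ normalizer (K : Set X)) (e : V) (hte : t • e = e)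
    (het : ∀ v : V, t • v = v → v = 0 ∨ v = e) {m : ℕ} (hm : Odd m)
    (htm : ∀ v : V, t ^ m • v = v)
    (hfpf : ∀ k ∈ K, ∀ j, 0 < j → j < m → t ^ j * k * (t ^ j)⁻¹ = k → k = 1)
    {k : X} (hk : k ∈ K) : k • e = e := by
  classical
  haveI := Fintype.ofFinite K
  let π : V →+ V := AddMonoidHom.mk' (fun v => ∑ x : K, (x : X) • v) fun v w => by
    simp only [smul_add, sum_add_distrib]
  have hπ : ∀ v, π v = ∑ x : K, (x : X) • v := fun _ => rfl
  have hπfix : ∀ v, ∀ x ∈ K, x • π v = π v := fun v x hx => by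
    rw [hπ, smul_sum]
    exact Fintype.sum_equiv (Equiv.mulLeft (⟨x, hx⟩ : K)) _ _ fun y => smul_smul x (y : X) v
  have hoddsum : ∀ u : V, Fintype.card K • u = u := fun u => by
    obtain ⟨n, hn⟩ := hodd
    rw [← Nat.card_eq_fintype_card, hn, succ_nsmul, mul_comm 2 n, mul_nsmul', two_nsmul, h2,
      nsmul_zero, zero_add]
  have hπid : ∀ v, (∀ x ∈ K, x • v = v) → π v = v := fun v hv => by
    rw [hπ, sum_congr rfl (fun (x : K) _ => hv (x : X) x.2), sum_const, card_univ, hoddsum]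
  have hπcomm : ∀ x ∈ normalizer (K : Set X), ∀ v, π (x • v) = x • π v := fun x hx v => by
    rw [hπ, hπ, smul_sum]
    let c : K → K := fun y => ⟨x⁻¹ * y * x, by
      have := (Subgroup.mem_normalizer_iff.1 (inv_mem hx) (y : X)).1 y.2
      rwa [inv_inv] at this⟩
    have hc : Function.Bijective c := Finite.injective_iff_bijective.1 fun y y' hy => Subtype.ext (by
      have := congrArg Subtype.val hy
      simpa [c] using this)
    refine ((hc.sum_comp fun y : K => x • (y : X) • v).symm.trans (sum_congr rfl fun y _ => ?_)).symm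
    simp [c, smul_smul, mul_assoc]
  rcases het (π e) (by rw [← hπcomm t hnorm, hte]) with he | he
  swap
  · rw [← he]; exact hπfix e k hk
  let V' : AddSubgroup V := π.ker
  have hV' : ∀ x ∈ normalizer (K : Set X), ∀ v ∈ V', x • v ∈ V' := fun x hx v hv => by
    rw [AddMonoidHom.mem_ker] at hv ⊢
    rw [hπcomm x hx, hv, smul_zero]
  let X' := normalizer (K : Set X)
  letI : DistribMulAction X' V' :=
    { smul := fun x v => ⟨(x : X) • (v : V), hV' x x.2 v v.2⟩
      one_smul := fun v => Subtype.ext (one_smul X (v : V))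
      mul_smul := fun x y v => Subtype.ext (mul_smul (x : X) (y : X) (v : V))
      smul_zero := fun x => Subtype.ext (smul_zero (x : X))
      smul_add := fun x v w => Subtype.ext (smul_add (x : X) (v : V) w) }
  let B' : V' →+ V' →+ U :=
    AddMonoidHom.mk' (fun v => (B (v : V)).comp V'.subtype) fun v w => by
      ext u
      simp
  have horth : ∀ v ∈ V', ∀ w, B v (π w) = 0 := fun v hv w => by
    have hsum : ∑ x : K, B ((x : X) • v) (π w) = 0 := by
      have h0 : π v = 0 := hv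
      rw [← AddMonoidHom.finsetSum_apply, ← map_sum, ← hπ, h0, map_zero, AddMonoidHom.zero_apply]
    rw [sum_congr rfl fun (x : K) _ => (show B ((x : X) • v) (π w) = B v (π w) by
      conv_lhs => rw [← hπfix w x x.2]
      exact hinv x x.2 v (π w)), sum_const, card_univ] at hsum
    obtain ⟨n, hn⟩ := hodd
    rw [← Nat.card_eq_fintype_card, hn, succ_nsmul, mul_comm 2 n, mul_nsmul', two_nsmul,
      ← map_add, h2, map_zero, nsmul_zero, zero_add] at hsum
    exact hsum
  haveI : Finite (K.subgroupOf (normalizer (K : Set X))) :=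
    Finite.of_equiv _ (subgroupOfEquivOfLe (Subgroup.le_normalizer (H := K))).symm.toEquiv
  have hmain := OddFormRigid.smul_eq_self (V := V') (X := X') (fun v => Subtype.ext (h2 v)) B'
    (fun v hv => Subtype.ext (hnd v fun w => by
      have hmem : w + π w ∈ V' := by
        rw [AddMonoidHom.mem_ker, map_add, hπid (π w) (hπfix w), h2]
      have h1 : B (v : V) (w + π w) = 0 := hv ⟨_, hmem⟩
      rwa [map_add, horth v v.2, add_zero] at h1))
    (fun v w => hsymm v w) (K.subgroupOf X')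
    (fun x hx y hy => Subtype.ext (hcomm x hx y hy).eq)
    (by rwa [Nat.card_congr (subgroupOfEquivOfLe (Subgroup.le_normalizer (H := K))).toEquiv])
    (fun v hv => Subtype.ext (by
      have h1 : π (v : V) = v := hπid v fun x hx =>
        congrArg Subtype.val (hv ⟨x, Subgroup.le_normalizer hx⟩ hx)
      rw [← h1]; exact v.2))
    (fun x hx v w => hinv x hx v w) ⟨t, hnorm⟩
    (fun x hx => (Subgroup.mem_normalizer_iff.1 hnorm (x : X)).1 hx) ⟨e, he⟩ (Subtype.ext hte)
    (fun v hv => (het v (congrArg Subtype.val hv)).imp Subtype.ext Subtype.ext) hm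
    (fun v => Subtype.ext (htm v))
    (fun x hx j h0 hj hxj => Subtype.ext (hfpf x hx j h0 hj (congrArg Subtype.val hxj)))
    (k := ⟨k, Subgroup.le_normalizer hk⟩) hk ⟨e, he⟩
  exact congrArg Subtype.val hmain

end Rigid

variable {G Ω : Type u} [Group G] [Finite G] [Finite Ω] [MulAction G Ω] [FaithfulSMul G Ω]
  {W : Ω → Subgroup G} {a b : Ω} {z : G} {Q N J : Subgroup G} (h : Fam W a b z Q N J)

omit [Finite G] [Finite Ω] [FaithfulSMul G Ω] in
/-- Being congruent to a conjugate modulo `W a`, in terms of commutators. -/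
theorem conj_congr_iff {g x : G} (hx : x ∈ cMod W a z) :
    x⁻¹ * (g * x * g⁻¹) ∈ W a ↔ ⁅g, x⁆ ∈ W a := by
  have hc := (mem_cMod.1 hx).1
  constructor
  · intro h1
    rwa [show ⁅g, x⁆ = x * (x⁻¹ * (g * x * g⁻¹)) * x⁻¹ by simp only [commutatorElement_def]; group,
      mul_inv_eq_iff_eq_mul.2 (commute_of_mem_cW hc h1).eq]
  · intro h1
    rwa [show x⁻¹ * (g * x * g⁻¹) = x⁻¹ * ⁅g, x⁆ * x⁻¹⁻¹ by simp only [commutatorElement_def]; group,
      mul_inv_eq_iff_eq_mul.2 (commute_of_mem_cW (inv_mem hc) h1).eq]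

include h

theorem conj_W {g : G} (hg : g ∈ stabilizer G a) {w : G} (hw : w ∈ W a) : g * w * g⁻¹ ∈ W a :=
  (Subgroup.mem_normalizer_iff.1 (h.setting.toTISetting.le_normalizer a hg) w).1 hw

theorem conj_cW {g : G} (hg : g ∈ stabilizer G a) {x : G} (hx : x ∈ cW W a) :
    g * x * g⁻¹ ∈ cW W a := by
  refine Subgroup.mem_inf.2 ⟨mul_mem (mul_mem hg hx.1) (inv_mem hg),
    Subgroup.mem_centralizer_iff.2 fun w hw => ?_⟩
  have h1 := conj_W h (inv_mem hg) hw
  rw [inv_inv] at h1
  calc w * (g * x * g⁻¹) = g * ((g⁻¹ * w * g) * x) * g⁻¹ := by group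
    _ = g * (x * (g⁻¹ * w * g)) * g⁻¹ := by rw [(commute_of_mem_cW hx h1).eq]
    _ = g * x * g⁻¹ * w := by group

theorem J_le : ∀ j ∈ J, j ∈ stabilizer G a ∧ Commute z j := fun j hj => by
  have h1 := Subgroup.mem_inf.1 (Subgroup.mem_inf.1 (h.torus.le hj)).1
  exact ⟨h1.2, h.commute_of_mem_core h1.1⟩

theorem J_normalises {j : G} (hj : j ∈ J) {g : G} (hg : g ∈ cMod W a z) :
    j * g * j⁻¹ ∈ cMod W a z := by
  obtain ⟨hja, hzj⟩ := J_le h j hj
  refine mem_cMod.2 ⟨conj_cW h hja (mem_cMod.1 hg).1, ?_⟩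
  have hz : j * z * j⁻¹ = z := mul_inv_eq_iff_eq_mul.2 hzj.eq.symm
  rw [← hz, ← conjugate_commutatorElement]
  exact conj_W h hja (mem_cMod.1 hg).2

theorem J_le_normalizer {j : G} (hj : j ∈ J) : j ∈ normalizer (cMod W a z : Set G) := by
  refine Subgroup.mem_normalizer_iff.2 fun g => ⟨J_normalises h hj, fun hg => ?_⟩
  have := J_normalises h (inv_mem hj) hg
  rwa [inv_inv, show j⁻¹ * (j * g * j⁻¹) * j = g by group] at this

theorem z_notMem_W : z ∉ W a := fun hz => h.ne
  (h.setting.unique a z hz (fun e => by simpa [e] using h.bad.1) b h.fix_b)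

variable (hN : Nat.card N = 2) (hQ : Nat.card Q = Nat.card (W a) ^ 2)

include hN hQ in
theorem cMod_two : IsPGroup 2 (cMod W a z) := fun g =>
  ⟨2, Subtype.ext (by
    show (g : G) ^ 2 ^ 2 = 1
    rw [show (2 : ℕ) ^ 2 = 2 * 2 from rfl, pow_mul, pow_two, pow_two]
    exact sq_W h (sq_mem h hN hQ g.2))⟩

include hN

omit hQ in
/-- Modulo `W a` the torus fixes only `1` and `z` in `cMod`. -/
theorem torus_fixed {j : G} (hj : j ∈ J) (hj1 : j ≠ 1) {g : G} (hg : g ∈ cMod W a z)
    (hc : ⁅j, g⁆ ∈ W a) : g ∈ W a ∨ z * g ∈ W a := by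
  obtain ⟨hja, hzj⟩ := J_le h j hj
  have hgW := (mem_cMod.1 hg).1
  have hτ : ⁅z, g⁆ = 1 := by
    by_contra hne
    refine hj1 (h.torus_free hj (mem_cMod.1 hg).2 hne (mul_inv_eq_iff_eq_mul.1 ?_))
    have hz : j * z * j⁻¹ = z := mul_inv_eq_iff_eq_mul.2 hzj.eq.symm
    rw [conjugate_commutatorElement, hz, show j * g * j⁻¹ = ⁅j, g⁆ * g by
      simp only [commutatorElement_def]; group,
      tau_mul (W_le_cMod h hc) hg, commutatorElement_eq_one_iff_mul_comm.2
        (commute_of_mem_cW (z_mem_cY h).1 hc).eq, one_mul]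
  have hgY : g ∈ cY W a z := (tau_eq_one_iff hgW).1 hτ
  have hcase : ∀ x ∈ Q, ⁅j, x⁆ ∈ W a → x ∈ W a := fun x hx hxc => by
    refine h.loc.invol x hx ?_
    by_contra hne
    refine hj1 (h.torus_free hj (h.loc.sq_mem x hx) hne (mul_inv_eq_iff_eq_mul.1 ?_))
    rw [show j * (x * x) * j⁻¹ = ⁅j, x⁆ * x * (⁅j, x⁆ * x) by
        simp only [commutatorElement_def]; group]
    have hcx : Commute x ⁅j, x⁆ := commute_of_mem_cW (Q_le_cY h hx).1 hxc
    rw [mul_assoc, ← mul_assoc x, hcx.eq, ← mul_assoc, ← mul_assoc, sq_W h hxc, one_mul]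
  rcases cY_cases h hN hgY with hx | ⟨x, hx, rfl⟩
  · exact Or.inl (hcase g hx hc)
  · have hxz : Commute z x := h.comm_Q z h.mem_N x hx
    have he : z * (x * z) = x := by rw [← mul_assoc, hxz.eq, mul_assoc, z_sq h, mul_one]
    refine Or.inr (he.symm ▸ hcase x hx ?_)
    have hjz : j * z * j⁻¹ = z := mul_inv_eq_iff_eq_mul.2 hzj.eq.symm
    rwa [show ⁅j, x * z⁆ = j * x * j⁻¹ * (j * z * j⁻¹) * z⁻¹ * x⁻¹ by
      simp only [commutatorElement_def]; group, hjz, mul_inv_cancel_right] at hc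

include hQ

/-- `cMod` has odd index in any group between it and `cW W a`. -/
theorem odd_index_cMod
    (hmax : ∀ T : Subgroup G, IsPGroup 2 T → T ≤ cW W a → Nat.card T ≤ Nat.card (cMod W a z))
    {H : Subgroup G} (hPH : cMod W a z ≤ H) (hH : H ≤ cW W a) :
    Odd ((cMod W a z).subgroupOf H).index := by
  haveI : Fact (Nat.Prime 2) := ⟨Nat.prime_two⟩
  have hP : IsPGroup 2 ((cMod W a z).subgroupOf H) :=
    (cMod_two h hN hQ).of_equiv (subgroupOfEquivOfLe hPH).symm
  obtain ⟨S, hS⟩ := hP.exists_le_sylow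
  have hle : Nat.card S ≤ Nat.card ((cMod W a z).subgroupOf H) := by
    rw [Nat.card_congr (subgroupOfEquivOfLe hPH).toEquiv]
    refine le_trans (le_of_eq ?_) (hmax ((S : Subgroup H).map H.subtype) (S.isPGroup'.map _)
      ((map_subtype_le _).trans hH))
    exact (card_subtype H _).symm
  rw [Subgroup.eq_of_le_of_card_ge hS hle, Nat.odd_iff]
  have := S.not_dvd_index
  omega

variable (hshift : Shift W a z)
include hshift

/-- `cMod` is its own normaliser in `cW W a`. -/
theorem normalizer_le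
    (hmax : ∀ T : Subgroup G, IsPGroup 2 T → T ≤ cW W a → Nat.card T ≤ Nat.card (cMod W a z))
    {g : G} (hgY : g ∈ cW W a) (hgP : g ∈ normalizer (cMod W a z : Set G)) : g ∈ cMod W a z := by
  classical
  have hS := h.setting.toTISetting
  set P := cMod W a z with hPdef
  have hPW : ∀ x ∈ P, ∀ w ∈ W a, Commute x w := fun x hx w hw =>
    commute_of_mem_cW (mem_cMod.1 hx).1 hw
  haveI hnormal : ((W a).subgroupOf P).Normal := ⟨fun w hw x => by
    rw [mem_subgroupOf] at hw ⊢
    rw [coe_mul, coe_mul, coe_inv, mul_inv_eq_iff_eq_mul.2 (hPW _ x.2 _ hw).eq]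
    exact hw⟩
  let Wp := (W a).subgroupOf P
  letI : CommGroup (P ⧸ Wp) :=
    { (inferInstance : Group (P ⧸ Wp)) with
      mul_comm := fun v v' => QuotientGroup.induction_on v fun x => QuotientGroup.induction_on v'
        fun y => by
          rw [← QuotientGroup.mk_mul, ← QuotientGroup.mk_mul, QuotientGroup.eq, mem_subgroupOf]
          have := comm_mem h hN hQ (inv_mem y.2) (inv_mem x.2)
          rw [commutatorElement_def, inv_inv, inv_inv] at this
          simpa [mul_assoc] using this }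
  let V := Additive (P ⧸ Wp)
  let mk : P → V := fun x => Additive.ofMul (x : P ⧸ Wp)
  have hmk : ∀ v : V, ∃ x, mk x = v := fun v => QuotientGroup.mk_surjective v.toMul
  have hmk0 : ∀ x : P, mk x = 0 ↔ (x : G) ∈ W a := fun x =>
    ((QuotientGroup.eq_one_iff x).trans mem_subgroupOf)
  have hmk_eq : ∀ x y : P, mk x = mk y ↔ (x : G)⁻¹ * y ∈ W a := fun x y =>
    (QuotientGroup.eq).trans mem_subgroupOf
  -- the pairing
  letI : CommGroup (W a) :=
    { (inferInstance : Group (W a)) with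
      mul_comm := fun x y => Subtype.ext (hS.mul_comm_of_mem x.2 y.2).eq }
  let β : P → P → Additive (W a) := fun x y => Additive.ofMul ⟨⁅(x : G), (y : G)⁆, comm_mem h hN hQ x.2 y.2⟩
  have hβW : ∀ x y : P, (y : G) ∈ W a → β x y = 0 := fun x y hy =>
    congrArg Additive.ofMul (Subtype.ext
      (commutatorElement_eq_one_iff_mul_comm.2 (hPW _ x.2 _ hy).eq))
  have hβr : ∀ x y y' : P, β x (y * y') = β x y + β x y' := fun x y y' =>
    congrArg Additive.ofMul (Subtype.ext (by
      show ⁅(x : G), (y : G) * (y' : G)⁆ = ⁅(x : G), (y : G)⁆ * ⁅(x : G), (y' : G)⁆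
      rw [show ⁅(x : G), (y : G) * (y' : G)⁆ = ⁅(x : G), (y : G)⁆ * ((y : G) * ⁅(x : G), (y' : G)⁆ * (y : G)⁻¹) by
        simp only [commutatorElement_def]; group,
        mul_inv_eq_iff_eq_mul.2 (hPW _ y.2 _ (comm_mem h hN hQ x.2 y'.2)).eq]))
  have hβs : ∀ x y : P, β x y = β y x := fun x y =>
    congrArg Additive.ofMul (Subtype.ext (by
      show ⁅(x : G), (y : G)⁆ = ⁅(y : G), (x : G)⁆
      rw [← commutatorElement_inv, inv_W h (comm_mem h hN hQ y.2 x.2)]))
  have hβl : ∀ x x' y : P, β (x * x') y = β x y + β x' y := fun x x' y => by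
    rw [hβs, hβr, hβs, hβs x']
  have hwd : ∀ x x' y : P, (x : G)⁻¹ * x' ∈ W a → β y x = β y x' := fun x x' y hxx => by
    rw [show x' = x * (x⁻¹ * x') by group, hβr, hβW y (x⁻¹ * x') (by simpa using hxx), add_zero]
  let Bf : V → V → Additive (W a) := fun v w =>
    Quotient.liftOn₂' v.toMul w.toMul β fun x y x' y' hx hy => by
      rw [hwd y y' x (mem_subgroupOf.1 (QuotientGroup.leftRel_apply.1 hy)), hβs, hβs x',
        hwd x x' y' (mem_subgroupOf.1 (QuotientGroup.leftRel_apply.1 hx))]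
  have hBf : ∀ x y, Bf (mk x) (mk y) = β x y := fun _ _ => rfl
  let B : V →+ V →+ Additive (W a) := AddMonoidHom.mk'
    (fun v => AddMonoidHom.mk' (Bf v) fun w w' => by
      obtain ⟨x, rfl⟩ := hmk v
      obtain ⟨y, rfl⟩ := hmk w
      obtain ⟨y', rfl⟩ := hmk w'
      exact hβr x y y')
    fun v v' => by
      refine AddMonoidHom.ext fun w => ?_
      obtain ⟨x, rfl⟩ := hmk v
      obtain ⟨x', rfl⟩ := hmk v'
      obtain ⟨y, rfl⟩ := hmk w
      exact hβl x x' y
  -- the action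
  set X := stabilizer G a ⊓ normalizer (P : Set G) with hX
  have hXle : X ≤ normalizer (P : Set G) := inf_le_right
  let c : X → (P →* P) := fun x =>
    (P.normalizerMonoidHom ⟨x, hXle x.2⟩).toMonoidHom
  have hc : ∀ (x : X) (y : P), ((c x y : P) : G) = (x : G) * y * (x : G)⁻¹ := fun _ _ => rfl
  let act : X → (P ⧸ Wp →* P ⧸ Wp) := fun x => QuotientGroup.map Wp Wp (c x) fun w hw => by
    rw [mem_comap, mem_subgroupOf, hc]
    exact conj_W h x.2.1 (mem_subgroupOf.1 hw)
  have hact_mul : ∀ x x' v, act (x * x') v = act x (act x' v) := fun x x' v =>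
    QuotientGroup.induction_on v fun y => congrArg QuotientGroup.mk (Subtype.ext (by
      rw [hc, hc, hc, coe_mul]; group))
  have hact_one : ∀ v, act 1 v = v := fun v =>
    QuotientGroup.induction_on v fun y => congrArg QuotientGroup.mk (Subtype.ext (by rw [hc]; simp))
  let ρ : X →* MulAut (P ⧸ Wp) :=
    MonoidHom.mk' (fun x =>
      { toFun := act x
        invFun := act x⁻¹
        left_inv := fun v => by rw [← hact_mul, inv_mul_cancel, hact_one]
        right_inv := fun v => by rw [← hact_mul, mul_inv_cancel, hact_one]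
        map_mul' := map_mul _ })
      fun x x' => MulEquiv.ext fun v => hact_mul x x' v
  letI : DistribMulAction (MulAut (P ⧸ Wp)) V :=
    { smul := fun d v => Additive.ofMul (d v.toMul)
      one_smul := fun v => rfl
      mul_smul := fun d d' v => rfl
      smul_zero := fun d => congrArg Additive.ofMul (map_one d)
      smul_add := fun d v w => congrArg Additive.ofMul (map_mul d _ _) }
  have hρ : ∀ (x : X) (y : P), ρ x • mk y = mk (c x y) := fun _ _ => rfl
  -- the vector of `z` and the image `Γ`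
  set e : V := mk ⟨z, cY_le_cMod (z_mem_cY h)⟩ with he
  have he0 : e ≠ 0 := fun h0 => z_notMem_W h ((hmk0 _).1 h0)
  set Y' := (cW W a).subgroupOf X with hY'
  have hPX : P ≤ X := le_inf (cMod_le_cW.trans inf_le_left) Subgroup.le_normalizer
  have htriv : ∀ x : X, (x : G) ∈ P → ρ x = 1 := fun x hx => MulEquiv.ext fun v =>
    QuotientGroup.induction_on v fun y => by
      show ((c x y : P) : P ⧸ Wp) = (y : P ⧸ Wp)
      rw [QuotientGroup.eq, mem_subgroupOf, coe_mul, coe_inv, hc]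
      have := comm_mem h hN hQ hx (inv_mem y.2)
      rw [commutatorElement_def, inv_inv] at this
      simpa [mul_assoc] using this
  have hfix : ∀ γ ∈ Y'.map ρ, γ • e = e → γ = 1 := by
    rintro _ ⟨x, hxY, rfl⟩ hxe
    refine htriv x (mem_cMod.2 ⟨mem_subgroupOf.1 hxY, ?_⟩)
    rw [he, hρ, eq_comm, hmk_eq, hc] at hxe
    rw [← commutatorElement_inv]
    exact inv_mem ((conj_congr_iff (cY_le_cMod (z_mem_cY h))).1 hxe)
  have hΓodd : Odd (Nat.card (Y'.map ρ)) := by
    have hXY : P ≤ X ⊓ cW W a := le_inf hPX cMod_le_cW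
    have h1 := odd_index_cMod h hN hQ hmax hXY inf_le_right
    let f : ↥(X ⊓ cW W a) →* MulAut (P ⧸ Wp) := ρ.comp (Subgroup.inclusion inf_le_left)
    have hle : P.subgroupOf (X ⊓ cW W a) ≤ f.ker := fun x hx =>
      MonoidHom.mem_ker.2 (htriv _ (mem_subgroupOf.1 hx))
    have hrange : f.range = Y'.map ρ := by
      ext γ
      constructor
      · rintro ⟨x, rfl⟩
        exact ⟨⟨x, x.2.1⟩, mem_subgroupOf.2 x.2.2, rfl⟩
      · rintro ⟨x, hx, rfl⟩
        exact ⟨⟨x, x.2, mem_subgroupOf.1 hx⟩, rfl⟩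
    rw [← hrange, ← index_ker]
    exact h1.of_dvd_nat (Subgroup.index_dvd_of_le hle)
  -- the torus
  have hJX : J ≤ X := fun j hj => ⟨(J_le h j hj).1, J_le_normalizer h hj⟩
  have hJc : Odd (Nat.card J) := by
    obtain ⟨r, -, hr, hq⟩ := h.loc.square_log (by rw [inf_centralizer h]; exact hQ)
    have := h.torus.card
    rw [hq] at this
    rw [← Nat.not_even_iff_odd, even_iff_two_dvd]
    intro h2
    have h4 : 2 ∣ 2 ^ r := dvd_pow_self 2 (by omega)
    omega
  obtain ⟨j₀, hj₀⟩ := h.torus.cyclic.exists_generator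
  set t := ρ ⟨j₀, hJX j₀.2⟩ with ht
  set m := Nat.card J with hm
  have htpow : ∀ i, t ^ i = ρ ⟨((j₀ ^ i : J) : G), hJX (j₀ ^ i).2⟩ := fun i => by
    rw [ht, ← map_pow]
    exact congrArg ρ (Subtype.ext (by simp))
  have hte : t • e = e := by
    rw [ht, he, hρ]
    refine congrArg mk (Subtype.ext ?_)
    rw [hc]
    exact mul_inv_eq_iff_eq_mul.2 (J_le h j₀ j₀.2).2.eq.symm
  have hfixJ : ∀ i, 0 < i → i < m → ∀ v : V, t ^ i • v = v → v = 0 ∨ v = e := by
    intro i hi him v hv
    obtain ⟨x, rfl⟩ := hmk v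
    rw [htpow, hρ, eq_comm, hmk_eq, hc] at hv
    have hne : ((j₀ ^ i : J) : G) ≠ 1 := fun e1 => by
      have h1 : orderOf j₀ ∣ i := orderOf_dvd_of_pow_eq_one (Subtype.ext e1)
      rw [orderOf_eq_card_of_forall_mem_zpowers hj₀] at h1
      exact absurd (Nat.le_of_dvd hi h1) (by omega)
    rcases torus_fixed h hN (j₀ ^ i).2 hne x.2 ((conj_congr_iff x.2).1 hv) with h1 | h1
    · exact Or.inl ((hmk0 x).2 h1)
    · refine Or.inr ?_
      rw [he, eq_comm, hmk_eq]
      rwa [inv_eq_of_mul_eq_one_right (z_sq h)]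
  have htm : ∀ v : V, t ^ m • v = v := fun v => by
    rw [htpow, show j₀ ^ m = 1 from pow_card_eq_one']
    rw [show (⟨((1 : J) : G), hJX (1 : J).2⟩ : X) = 1 from rfl, map_one, one_smul]
  have hm1 : 1 < m := by
    have h8 := eight_le h hQ
    have := h.torus.card
    rw [inf_centralizer h] at this
    omega
  have het : ∀ v : V, t • v = v → v = 0 ∨ v = e := fun v hv =>
    hfixJ 1 Nat.one_pos hm1 v (by rwa [pow_one])
  have htΓ : ∀ γ ∈ Y'.map ρ, t * γ * t⁻¹ ∈ Y'.map ρ := by
    rintro _ ⟨x, hx, rfl⟩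
    refine ⟨⟨j₀, hJX j₀.2⟩ * x * ⟨j₀, hJX j₀.2⟩⁻¹, mem_subgroupOf.2 ?_, by
      rw [map_mul, map_mul, map_inv]⟩
    exact conj_cW h (J_le h j₀ j₀.2).1 (mem_subgroupOf.1 hx)
  have hnd : ∀ v, (∀ w, B v w = 0) → v = 0 := by
    intro v hv
    obtain ⟨x, rfl⟩ := hmk v
    obtain ⟨w, hw⟩ := (Subgroup.ne_bot_iff_exists_ne_one (H := W a)).1 (h.setting.ne_bot a)
    obtain ⟨g₁, hg₁, hgw⟩ := hshift w w.2
    refine (hmk0 x).2 (mem_W_of_central h hN hQ x.2 (mem_cMod.2 ⟨hg₁, hgw ▸ w.2⟩) ?_ fun k hk =>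
      commutatorElement_eq_one_iff_mul_comm.1
        (congrArg Subtype.val (congrArg Additive.toMul (hv (mk ⟨k, hk⟩)))))
    exact fun hY => hw (Subtype.ext (hgw.symm.trans ((tau_eq_one_iff hg₁).2 hY)))
  have hinv : ∀ γ ∈ Y'.map ρ, ∀ v w, B (γ • v) (γ • w) = B v w := by
    rintro _ ⟨x, hx, rfl⟩ v w
    obtain ⟨y, rfl⟩ := hmk v
    obtain ⟨y', rfl⟩ := hmk w
    rw [hρ, hρ]
    refine congrArg Additive.ofMul (Subtype.ext ?_)
    show ⁅((c x y : P) : G), ((c x y' : P) : G)⁆ = ⁅(y : G), (y' : G)⁆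
    rw [hc, hc, ← conjugate_commutatorElement]
    exact mul_inv_eq_iff_eq_mul.2
      (commute_of_mem_cW (mem_subgroupOf.1 hx) (comm_mem h hN hQ y.2 y'.2)).eq
  haveI : Finite (MulAut (P ⧸ Wp)) := Finite.of_injective _ DFunLike.coe_injective
  -- all subgroups of `Γ` normalised by the torus are trivial
  have key : ∀ n, ∀ K ≤ Y'.map ρ, Nat.card K = n → (∀ k ∈ K, t * k * t⁻¹ ∈ K) → K = ⊥ := by
    intro n
    induction n using Nat.strong_induction_on with
    | _ n ih =>
      intro K hK hn hnormK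
      by_contra hne
      have hodd : Odd (Nat.card K) := hΓodd.of_dvd_nat (card_dvd_of_le hK)
      haveI : Nontrivial K := (nontrivial_iff_ne_bot K).2 hne
      haveI := CfsgLib.OddOrder.Final.oddSolvable K hodd
      have hlt : Nat.card ↥⁅K, K⁆ < n := by
        rw [← hn, ← Subgroup.map_subtype_commutator, card_subtype, ← Subgroup.card_top (G := K)]
        refine lt_of_le_of_ne (card_le_of_le le_top) fun heq =>
          (Group.IsSolvable.commutator_lt_top_of_nontrivial K).ne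
            (Subgroup.eq_of_le_of_card_ge le_top heq.ge)
      have hnormN : t ∈ normalizer (K : Set (MulAut (P ⧸ Wp))) := by
        refine Subgroup.mem_normalizer_iff.2 fun k => ⟨hnormK k, fun hk => ?_⟩
        let cj : K → K := fun l => ⟨t * l * t⁻¹, hnormK l l.2⟩
        obtain ⟨l, hl⟩ := (Finite.injective_iff_surjective (f := cj)).1
          (fun l l' e1 => Subtype.ext (by
            simpa [cj] using congrArg Subtype.val e1)) ⟨_, hk⟩
        have : (l : MulAut (P ⧸ Wp)) = k := by simpa [cj] using congrArg Subtype.val hl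
        exact this ▸ l.2
      have hab := ih _ hlt ⁅K, K⁆ ((commutator_le_self K).trans hK) rfl fun k hk => by
        have h1 : (⁅K, K⁆).map (MulAut.conj t).toMonoidHom ≤ ⁅K, K⁆ := by
          rw [Subgroup.map_commutator]
          refine commutator_mono ?_ ?_ <;>
          · rintro _ ⟨l, hl, rfl⟩
            exact hnormK l hl
        exact h1 (mem_map_of_mem _ hk)
      have hcomm : ∀ k ∈ K, ∀ l ∈ K, Commute k l := fun k hk l hl =>
        commutatorElement_eq_one_iff_mul_comm.1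
          (mem_bot.1 (hab ▸ commutator_mem_commutator hk hl))
      refine hne ((Subgroup.eq_bot_iff_forall K).2 fun k hk => hfix k (hK hk) ?_)
      refine smul_eq_of_abelian (fun v => ?_) B hnd (fun v w => ?_) K hcomm hodd
        (fun l hl => hinv l (hK hl)) t hnormN e hte het hJc htm (fun l hl i hi him hli => ?_) hk
      · obtain ⟨x, rfl⟩ := hmk v
        exact (hmk0 (x * x)).2 (sq_mem h hN hQ x.2)
      · obtain ⟨x, rfl⟩ := hmk v
        obtain ⟨y, rfl⟩ := hmk w
        exact hβs x y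
      · refine hfix l (hK hl) ?_
        have hfe : t ^ i • e = e := by
          clear hi him hli
          induction i with
          | zero => rw [pow_zero, one_smul]
          | succ i ih => rw [pow_succ, mul_smul, hte, ih]
        have h1 : t ^ i • l • e = l • e := by
          rw [smul_smul, mul_inv_eq_iff_eq_mul.1 hli, mul_smul, hfe]
        exact (hfixJ i hi him _ h1).resolve_left ((smul_ne_zero_iff_ne l).2 he0)
  have hbot := key _ (Y'.map ρ) le_rfl rfl htΓ
  refine mem_cMod.2 ⟨hgY, ?_⟩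
  have h1 : ρ ⟨g, hgY.1, hgP⟩ = 1 := mem_bot.1 (hbot ▸ ⟨_, mem_subgroupOf.2 hgY, rfl⟩)
  have h2 : ρ ⟨g, hgY.1, hgP⟩ • e = e := by rw [h1, one_smul]
  rw [he, hρ, eq_comm, hmk_eq, hc] at h2
  rw [← commutatorElement_inv]
  exact inv_mem ((conj_congr_iff (cY_le_cMod (z_mem_cY h))).1 h2)

/-- The normaliser of `cMod` in the stabiliser of `a` fixes `z` modulo `W a`. -/
theorem normalizer_fixes (hodd : Odd ((cW W a).subgroupOf (stabilizer G a)).index)
    (hmax : ∀ T : Subgroup G, IsPGroup 2 T → T ≤ cW W a → Nat.card T ≤ Nat.card (cMod W a z))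
    {g : G} (hga : g ∈ stabilizer G a) (hgP : g ∈ normalizer (cMod W a z : Set G)) :
    z⁻¹ * (g * z * g⁻¹) ∈ W a := by
  classical
  have hS := h.setting.toTISetting
  set P := cMod W a z with hPdef
  have hzP : z ∈ P := cY_le_cMod (z_mem_cY h)
  set X := stabilizer G a ⊓ normalizer (P : Set G) with hX
  let ρ : X →* MulAut ↥(W a) :=
    (W a).normalizerMonoidHom.comp (Subgroup.inclusion (inf_le_left.trans (hS.le_normalizer a)))
  have hρ : ∀ (x : X) (w : W a), ((ρ x w : W a) : G) = (x : G) * w * (x : G)⁻¹ := fun _ _ => rfl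
  have hρone : ∀ x : X, ρ x = 1 ↔ (x : G) ∈ cW W a := by
    intro x
    rw [cW, Subgroup.mem_inf, Subgroup.mem_centralizer_iff]
    refine ⟨fun hx => ⟨x.2.1, fun w hw => ?_⟩, fun hx => MulEquiv.ext fun w => Subtype.ext ?_⟩
    · have := congrArg Subtype.val (DFunLike.congr_fun hx (⟨w, hw⟩ : W a))
      rw [hρ] at this
      exact (mul_inv_eq_iff_eq_mul.1 this).symm
    · rw [hρ]; exact mul_inv_eq_iff_eq_mul.2 (hx.2 w w.2).symm
  have hPX : P ≤ X := le_inf (cMod_le_cW.trans inf_le_left) Subgroup.le_normalizer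
  have hJX : J ≤ X := fun j hj => ⟨(J_le h j hj).1, J_le_normalizer h hj⟩
  have hker : ρ.ker = P.subgroupOf X := by
    ext x
    rw [MonoidHom.mem_ker, hρone, mem_subgroupOf]
    exact ⟨fun hx => normalizer_le h hN hQ hshift hmax hx x.2.2, fun hx => cMod_le_cW hx⟩
  have hoddD : Odd (Nat.card ρ.range) := by
    let ρM : stabilizer G a →* MulAut ↥(W a) :=
      (W a).normalizerMonoidHom.comp (Subgroup.inclusion (hS.le_normalizer a))
    have hle : ρ.range ≤ ρM.range := by
      rintro _ ⟨x, rfl⟩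
      exact ⟨⟨x, x.2.1⟩, rfl⟩
    have hkM : ρM.ker = (cW W a).subgroupOf (stabilizer G a) := by
      ext x
      rw [MonoidHom.mem_ker, mem_subgroupOf, cW, Subgroup.mem_inf, Subgroup.mem_centralizer_iff]
      refine ⟨fun hx => ⟨x.2, fun w hw => ?_⟩, fun hx => MulEquiv.ext fun w => Subtype.ext ?_⟩
      · exact (mul_inv_eq_iff_eq_mul.1
          (congrArg Subtype.val (DFunLike.congr_fun hx (⟨w, hw⟩ : W a)))).symm
      · exact mul_inv_eq_iff_eq_mul.2 (hx.2 w w.2).symm
    exact (by rwa [← index_ker, hkM] : Odd (Nat.card ρM.range)).of_dvd_nat (card_dvd_of_le hle)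
  have hW : W a ⊓ centralizer {z} = W a := inf_centralizer h
  obtain ⟨r, -, hr3, hqr⟩ := h.loc.square_log (by rw [hW]; exact hQ)
  rw [hW] at hqr
  have hJcard : Nat.card J = 2 ^ r - 1 := by
    have := h.torus.card
    rw [hW, hqr] at this
    omega
  obtain ⟨s, hs, hD⟩ := OddTransitiveCard.card_eq (V := ↥(W a))
    (fun v => Subtype.ext (sq_W h v.2)) (by omega : r ≠ 0) hqr ρ.range hoddD fun v w hv hw => by
      obtain ⟨j, hj, hjv⟩ := h.torus.trans v (by rw [hW]; exact v.2) (fun e => hv (Subtype.ext e)) w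
        (by rw [hW]; exact w.2) (fun e => hw (Subtype.ext e))
      exact ⟨ρ ⟨j, hJX hj⟩, ⟨_, rfl⟩, Subtype.ext (by rw [hρ]; exact hjv)⟩
  have hXcard : Nat.card X = Nat.card P * ((2 ^ r - 1) * s) := by
    rw [← hD, ← index_ker, ← Subgroup.card_mul_index ρ.ker, hker,
      Nat.card_congr (subgroupOfEquivOfLe hPX).toEquiv]
  -- the stabiliser of `z` modulo `W a`
  let S : Subgroup X :=
    { carrier := {x | ⁅(x : G), z⁆ ∈ W a}
      one_mem' := by simp
      mul_mem' := fun {x y} hx hy => by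
        show ⁅((x * y : X) : G), z⁆ ∈ W a
        rw [coe_mul, show ⁅(x : G) * (y : G), z⁆ = (x : G) * ⁅(y : G), z⁆ * (x : G)⁻¹ * ⁅(x : G), z⁆ by
          simp only [commutatorElement_def]; group]
        exact mul_mem (conj_W h x.2.1 hy) hx
      inv_mem' := fun {x} hx => by
        show ⁅((x⁻¹ : X) : G), z⁆ ∈ W a
        rw [coe_inv, show ⁅(x : G)⁻¹, z⁆ = (x : G)⁻¹ * ⁅(x : G), z⁆⁻¹ * (x : G)⁻¹⁻¹ by
          simp only [commutatorElement_def]; group]
        exact conj_W h (inv_mem x.2.1) (inv_mem hx) }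
  have hSP : P.subgroupOf X ≤ S := fun x hx => comm_mem h hN hQ (mem_subgroupOf.1 hx) hzP
  have hSJ : J.subgroupOf X ≤ S := fun x hx => by
    show ⁅(x : G), z⁆ ∈ W a
    rw [commutatorElement_eq_one_iff_mul_comm.2 (J_le h x (mem_subgroupOf.1 hx)).2.eq.symm]
    exact one_mem _
  have hdvd : Nat.card P * (2 ^ r - 1) ∣ Nat.card S := by
    haveI : Fact (Nat.Prime 2) := ⟨Nat.prime_two⟩
    obtain ⟨k, hk⟩ := (cMod_two h hN hQ).exists_card_eq
    refine Nat.Coprime.mul_dvd_of_dvd_of_dvd ?_ ?_ ?_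
    · rw [hk]
      refine Nat.Coprime.pow_left _ (Nat.coprime_two_left.2 ?_)
      rw [Nat.odd_iff]
      have h4 : 2 ∣ 2 ^ r := dvd_pow_self 2 (by omega)
      have := Nat.one_le_two_pow (n := r)
      omega
    · rw [← Nat.card_congr (subgroupOfEquivOfLe hPX).toEquiv]
      exact card_dvd_of_le hSP
    · rw [← hJcard, ← Nat.card_congr (subgroupOfEquivOfLe hJX).toEquiv]
      exact card_dvd_of_le hSJ
  have hindex : S.index ≤ r := by
    obtain ⟨k, hk⟩ := hdvd
    have h1 := Subgroup.card_mul_index S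
    rw [hk, hXcard, mul_assoc, mul_assoc] at h1
    have h2 : k * S.index = s :=
      Nat.eq_of_mul_eq_mul_left (by have := Nat.one_lt_two_pow (by omega : r ≠ 0); omega)
        (Nat.eq_of_mul_eq_mul_left Nat.card_pos h1)
    have hs0 : 0 < s := Nat.pos_of_dvd_of_pos hs (by omega)
    exact ((Nat.le_of_dvd hs0 ⟨k, by rw [mul_comm, h2]⟩)).trans (Nat.le_of_dvd (by omega) hs)
  suffices hg : (⟨g, hga, hgP⟩ : X) ∈ S from (conj_congr_iff hzP).2 hg
  by_contra hg
  set x : X := ⟨g, hga, hgP⟩ with hx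
  let f : J → X ⧸ S := fun j => ((⟨j, hJX j.2⟩ * x : X) : X ⧸ S)
  have hf : Function.Injective f := fun j j' hjj => by
    by_contra hne
    have h1 := QuotientGroup.eq.1 hjj
    set i : G := ((j : G))⁻¹ * (j' : G) with hi
    have hiJ : i ∈ J := mul_mem (inv_mem j.2) j'.2
    have hi1 : i ≠ 1 := fun e => hne (Subtype.ext (inv_mul_eq_one.1 e))
    have h2 : ⁅g⁻¹ * i * g, z⁆ ∈ W a := by
      have h3 : ⁅(((⟨j, hJX j.2⟩ * x : X)⁻¹ * (⟨j', hJX j'.2⟩ * x) : X) : G), z⁆ ∈ W a := h1
      rwa [coe_mul, coe_inv, coe_mul, coe_mul,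
        show ((x : G)) = g from rfl, mul_inv_rev, mul_assoc g⁻¹, ← mul_assoc _ _ g, ← hi,
        ← mul_assoc] at h3
    have h4 : ⁅i, g * z * g⁻¹⁆ ∈ W a := by
      have := conj_W h hga h2
      rwa [conjugate_commutatorElement, show g * (g⁻¹ * i * g) * g⁻¹ = i by group] at this
    have hu : g * z * g⁻¹ ∈ P := (Subgroup.mem_normalizer_iff.1 hgP z).1 hzP
    rcases torus_fixed h hN hiJ hi1 hu h4 with h5 | h5
    · refine z_notMem_W h ?_
      have := conj_W h (inv_mem hga) h5
      rwa [inv_inv, show g⁻¹ * (g * z * g⁻¹) * g = z by group] at this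
    · refine hg ((conj_congr_iff hzP).1 ?_)
      rwa [inv_eq_of_mul_eq_one_right (z_sq h)]
  have h6 := (Nat.card_le_card_of_injective f hf).trans hindex
  rw [hJcard] at h6
  have h7 : r + 2 ≤ 2 ^ r := by
    obtain ⟨m, rfl⟩ : ∃ m, r = m + 2 := ⟨r - 2, by omega⟩
    have := Nat.lt_two_pow_self (n := m)
    rw [pow_add]
    omega
  omega

/-- Conjugates of `z` in `cMod` are congruent to `z` modulo `W a`. -/
theorem conj_z_mem (hodd : Odd ((cW W a).subgroupOf (stabilizer G a)).index)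
    (hmax : ∀ T : Subgroup G, IsPGroup 2 T → T ≤ cW W a → Nat.card T ≤ Nat.card (cMod W a z))
    {g : G} (hg : g * z * g⁻¹ ∈ cMod W a z) : z⁻¹ * (g * z * g⁻¹) ∈ W a := by
  classical
  haveI : Fact (Nat.Prime 2) := ⟨Nat.prime_two⟩
  have hS := h.setting.toTISetting
  set P := cMod W a z with hPdef
  have hPM : P ≤ stabilizer G a := cMod_le_cW.trans inf_le_left
  have hzP : z ∈ P := cY_le_cMod (z_mem_cY h)
  have hz2 := CfsgLib.Involution.Basic.isPGroup_zpowers_of_two h.bad.1
  obtain ⟨k, hka, hkz⟩ := hS.onePoint.control hS.covers hz2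
    (Subgroup.zpowers_le.2 (mem_stabilizer_iff.2 h.fix_a)) g (fun x hx => hPM (by
      obtain ⟨n, rfl⟩ := Subgroup.mem_zpowers_iff.1 hx
      rw [← conj_zpow]
      exact zpow_mem hg n))
  have hkz' := hkz z (Subgroup.mem_zpowers z)
  set y := g * z * g⁻¹ with hy
  let C : Subgroup G :=
    { carrier := {x | x ∈ stabilizer G a ∧ ⁅x, y⁆ ∈ W a}
      one_mem' := ⟨one_mem _, by simp⟩
      mul_mem' := fun {x x'} hx hx' => ⟨mul_mem hx.1 hx'.1, by
        rw [show ⁅x * x', y⁆ = x * ⁅x', y⁆ * x⁻¹ * ⁅x, y⁆ by simp only [commutatorElement_def]; group]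
        exact mul_mem (conj_W h hx.1 hx'.2) hx.2⟩
      inv_mem' := fun {x} hx => ⟨inv_mem hx.1, by
        rw [show ⁅x⁻¹, y⁆ = x⁻¹ * ⁅x, y⁆⁻¹ * x⁻¹⁻¹ by simp only [commutatorElement_def]; group]
        exact conj_W h (inv_mem hx.1) (inv_mem hx.2)⟩ }
  have hCM : C ≤ stabilizer G a := fun x hx => hx.1
  set P₂ := P.map (MulAut.conj k).toMonoidHom with hP₂
  have hPC : P ≤ C := fun x hx => ⟨hPM hx, comm_mem h hN hQ hx hg⟩
  have hP₂C : P₂ ≤ C := by
    rintro _ ⟨x, hx, rfl⟩
    refine ⟨mul_mem (mul_mem (mem_stabilizer_iff.2 hka) (hPM hx))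
      (inv_mem (mem_stabilizer_iff.2 hka)), ?_⟩
    show ⁅k * x * k⁻¹, y⁆ ∈ W a
    rw [← hkz', ← conjugate_commutatorElement]
    exact conj_W h (mem_stabilizer_iff.2 hka) (comm_mem h hN hQ hx hzP)
  -- both are Sylow subgroups of `C`
  have hoddP : Odd (P.subgroupOf (stabilizer G a)).index := by
    show Odd (P.relIndex (stabilizer G a))
    rw [← Subgroup.relIndex_mul_relIndex P (cW W a) (stabilizer G a) cMod_le_cW inf_le_left]
    exact (odd_index_cMod h hN hQ hmax cMod_le_cW le_rfl).mul hodd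
  have hSylow : ∀ T ≤ C, IsPGroup 2 T → Nat.card T = Nat.card P →
      IsPGroup 2 (T.subgroupOf C) ∧ ¬ 2 ∣ (T.subgroupOf C).index := fun T hT hT2 hTc => by
    refine ⟨hT2.of_equiv (subgroupOfEquivOfLe hT).symm, fun h2 => ?_⟩
    have h3 : (T.subgroupOf (stabilizer G a)).index = (P.subgroupOf (stabilizer G a)).index := by
      refine Nat.eq_of_mul_eq_mul_left (Nat.card_pos (α := ↥(P.subgroupOf (stabilizer G a)))) ?_
      rw [Subgroup.card_mul_index, Nat.card_congr (subgroupOfEquivOfLe hPM).toEquiv, ← hTc,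
        ← Nat.card_congr (subgroupOfEquivOfLe (hT.trans hCM)).toEquiv, Subgroup.card_mul_index]
    have h4 : 2 ∣ T.relIndex (stabilizer G a) := by
      rw [← Subgroup.relIndex_mul_relIndex T C (stabilizer G a) hT hCM]
      exact h2.mul_right _
    exact Nat.not_even_iff_odd.2 hoddP (even_iff_two_dvd.2 (h3 ▸ h4))
  obtain ⟨h1p, h1i⟩ := hSylow P hPC (cMod_two h hN hQ) rfl
  obtain ⟨h2p, h2i⟩ := hSylow P₂ hP₂C ((cMod_two h hN hQ).map _)
    (card_map_of_injective (MulEquiv.injective _))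
  obtain ⟨c, hc⟩ := exists_smul_eq C (h2p.toSylow h2i) (h1p.toSylow h1i)
  have hc' : (P₂.subgroupOf C).map (MulAut.conj c).toMonoidHom = P.subgroupOf C :=
    congrArg Sylow.toSubgroup hc
  have hcP : ∀ x ∈ P₂, (c : G) * x * (c : G)⁻¹ ∈ P := fun x hx => by
    have : (MulAut.conj c).toMonoidHom ⟨x, hP₂C hx⟩ ∈ P.subgroupOf C :=
      hc' ▸ mem_map_of_mem _ (mem_subgroupOf.2 hx)
    exact mem_subgroupOf.1 this
  have hmem : ∀ x ∈ P, (c : G) * k * x * ((c : G) * k)⁻¹ ∈ P := fun x hx => by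
    have := hcP _ (mem_map_of_mem (MulAut.conj k).toMonoidHom hx)
    rwa [show (c : G) * k * x * ((c : G) * k)⁻¹ = (c : G) * (k * x * k⁻¹) * (c : G)⁻¹ by group]
  have hnorm : (c : G) * k ∈ normalizer (P : Set G) := by
    have heq : P.map (MulAut.conj ((c : G) * k)).toMonoidHom = P :=
      Subgroup.eq_of_le_of_card_ge (by rintro _ ⟨x, hx, rfl⟩; exact hmem x hx)
        (le_of_eq (card_map_of_injective (MulEquiv.injective _)).symm)
    refine Subgroup.mem_normalizer_iff.2 fun x => ⟨hmem x, fun hx => ?_⟩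
    obtain ⟨x', hx', hxx⟩ := (show _ ∈ P.map (MulAut.conj ((c : G) * k)).toMonoidHom by rw [heq]; exact hx)
    rwa [(MulAut.conj ((c : G) * k)).injective hxx] at hx'
  have hfin := normalizer_fixes h hN hQ hshift hodd hmax
    (mul_mem c.2.1 (mem_stabilizer_iff.2 hka)) hnorm
  rw [show (c : G) * k * z * ((c : G) * k)⁻¹ = ⁅(c : G), y⁆ * y by
    rw [← hkz']; simp only [commutatorElement_def]; group] at hfin
  have hw := c.2.2
  have hcz : Commute z ⁅(c : G), y⁆ := commute_of_mem_cW (mem_cMod.1 hzP).1 hw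
  have key : ∀ w y' : G, Commute z⁻¹ w → z⁻¹ * y' = w⁻¹ * (z⁻¹ * (w * y')) := fun w y' hw' => by
    rw [← mul_assoc z⁻¹ w, hw'.eq]; group
  rw [key _ y hcz.inv_left]
  exact mul_mem (inv_mem hw) hfin

/-- The case of a kernel of order two does not occur. -/
theorem false_of_square_two (hodd : Odd ((cW W a).subgroupOf (stabilizer G a)).index)
    (hmax : ∀ T : Subgroup G, IsPGroup 2 T → T ≤ cW W a → Nat.card T ≤ Nat.card (cMod W a z)) :
    False := by
  classical
  have hS := h.setting.toTISetting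
  set P := cMod W a z with hPdef
  have hzP : z ∈ P := cY_le_cMod (z_mem_cY h)
  have hPM : P ≤ stabilizer G a := cMod_le_cW.trans inf_le_left
  haveI hnormal : ((W a).subgroupOf P).Normal := ⟨fun w hw x => by
    rw [mem_subgroupOf] at hw ⊢
    rw [coe_mul, coe_mul, coe_inv,
      mul_inv_eq_iff_eq_mul.2 (commute_of_mem_cW (mem_cMod.1 x.2).1 hw).eq]
    exact hw⟩
  let Wp := (W a).subgroupOf P
  letI : CommGroup (P ⧸ Wp) :=
    { (inferInstance : Group (P ⧸ Wp)) with
      mul_comm := fun v v' => QuotientGroup.induction_on v fun x => QuotientGroup.induction_on v'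
        fun y => by
          rw [← QuotientGroup.mk_mul, ← QuotientGroup.mk_mul, QuotientGroup.eq, mem_subgroupOf]
          have := comm_mem h hN hQ (inv_mem y.2) (inv_mem x.2)
          rw [commutatorElement_def, inv_inv, inv_inv] at this
          simpa [mul_assoc] using this }
  letI : Module (ZMod 2) (Additive (P ⧸ Wp)) := AddCommGroup.zmodModule fun v => by
    obtain ⟨x, hx⟩ := QuotientGroup.mk_surjective v.toMul
    rw [two_nsmul, show v = Additive.ofMul (x : P ⧸ Wp) from congrArg Additive.ofMul hx.symm]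
    exact (QuotientGroup.eq_one_iff (x * x)).2 (mem_subgroupOf.2 (sq_mem h hN hQ x.2))
  obtain ⟨φ, hφ⟩ := Module.Projective.exists_dual_eq_one (ZMod 2)
    (x := Additive.ofMul ((⟨z, hzP⟩ : P) : P ⧸ Wp)) (fun h0 =>
      z_notMem_W h (mem_subgroupOf.1 ((QuotientGroup.eq_one_iff _).1 h0)))
  let ψ : P →* Multiplicative (ZMod 2) :=
    MonoidHom.mk' (fun x => Multiplicative.ofAdd (φ (Additive.ofMul (x : P ⧸ Wp)))) fun x y =>
      congrArg Multiplicative.ofAdd (φ.map_add (Additive.ofMul (x : P ⧸ Wp)) (Additive.ofMul (y : P ⧸ Wp)))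
  have hoddP : Odd P.index := by
    haveI : IsPretransitive G Ω := ⟨hS.onePoint.exists_move hS.covers⟩
    haveI : Nonempty Ω := ⟨a⟩
    rw [← Subgroup.relIndex_mul_index hPM, index_stabilizer_of_transitive]
    refine Odd.mul ?_ (hS.onePoint.odd_card_points hS.covers)
    rw [← Subgroup.relIndex_mul_relIndex P (cW W a) (stabilizer G a) cMod_le_cW inf_le_left]
    exact (odd_index_cMod h hN hQ hmax cMod_le_cW le_rfl).mul hodd
  refine closure_ne_top_of_odd_index ψ (members W) (fun d ⟨_, c, hd⟩ => hS.sq c d hd) (z_sq h)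
    hoddP (a := Multiplicative.ofAdd 1) (by decide) (fun g hg => ?_) (fun d hd g hg => ?_) h.setting.gen
  · refine congrArg Multiplicative.ofAdd (Eq.trans (congrArg φ (congrArg Additive.ofMul ?_)) hφ)
    rw [eq_comm, QuotientGroup.eq, mem_subgroupOf]
    have := conj_z_mem h hN hQ hshift hodd hmax (g := g⁻¹) (by rwa [inv_inv])
    rw [inv_inv] at this
    exact this
  · have hmem : g⁻¹ * d * g ∈ W a := by
      refine hS.mem_of_fixed ?_ (mem_stabilizer_iff.1 (hPM hg))
      have := hS.onePoint.conj_mem g⁻¹ d hd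
      rwa [inv_inv] at this
    rw [show ψ ⟨g⁻¹ * d * g, hg⟩ =
      Multiplicative.ofAdd (φ (Additive.ofMul ((⟨g⁻¹ * d * g, hg⟩ : P) : P ⧸ Wp))) from rfl,
      (QuotientGroup.eq_one_iff _).2 (mem_subgroupOf.2 hmem), ofMul_one, map_zero, ofAdd_zero]

end CfsgLib.LocalEven.TIEndgame.SquareTwo
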