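import Cfsg.Agent.Lib.LocalEven.TIEndgame.Assembly
import Cfsg.Agent.Lib.LocalEven.TIEndgame.Central.FamExists
import Cfsg.Agent.Lib.LocalEven.TIEndgame.Central.Invol
import Cfsg.Agent.Lib.LocalEven.TIEndgame.Central.LinearBasic
import Cfsg.Agent.Lib.LocalEven.TIEndgame.Central.SquareIndex
import Cfsg.Agent.Lib.LocalEven.TIEndgame.Central.SquareTwo
import Cfsg.Agent.Lib.LocalEven.TIEndgame.Central.Fam

/-!
# The centred case: assembly

All bad involutions centralise the groups of the points they fix, all lines have `q ^ i + 1`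
points.  The endgames are combined here.
-/

set_option autoImplicit false
set_option linter.style.haveILetI false

namespace CfsgLib.LocalEven.TIEndgame

open MulAction Subgroup

universe u

variable {G Ω : Type u} [Group G] [Finite G] [Finite Ω] [MulAction G Ω] [FaithfulSMul G Ω]
  {W : Ω → Subgroup G}

/-- The torus part of the local data. -/
theorem LocHyp.locTorus {G Ω : Type u} [Group G] [Finite G] [MulAction G Ω] {W : Ω → Subgroup G}
    (hloc : LocHyp W) (h : TISetting W) : LocTorus W := by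
  intro x c hx hxc
  obtain ⟨Q, hQ, hJ⟩ := hloc x c hx hxc
  refine ⟨Q, hQ, fun d hd hdc => ?_⟩
  obtain ⟨J, hJ', -⟩ := hJ d (by rw [h.pts_centralizer hx.1]; exact hd) hdc
  exact ⟨J, hJ'⟩

namespace Fam

variable {a b : Ω} {z : G} {Q N J : Subgroup G} (h : Fam W a b z Q N J)
include h

/-- The order of `N` is two or at least four. -/
theorem card_N_cases : Nat.card N = 2 ∨ 4 ≤ Nat.card N := by
  haveI : Fact (Nat.Prime 2) := ⟨Nat.prime_two⟩
  have hN2 : IsPGroup 2 N := fun n => ⟨1, Subtype.ext (by simpa [pow_two] using h.sq_N n n.2)⟩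
  obtain ⟨k, hk⟩ := hN2.exists_card_eq
  have h2 : orderOf z ∣ Nat.card N := Subgroup.orderOf_dvd_natCard N h.mem_N
  rw [h.bad.1, hk] at h2
  rw [hk]
  match k with
  | 0 => norm_num at h2
  | 1 => exact Or.inl rfl
  | k + 2 =>
    right
    calc 4 = 2 ^ 2 := rfl
      _ ≤ 2 ^ (k + 2) := Nat.pow_le_pow_right two_pos (by omega)

/-- With lines of `q ^ i + 1` points the local group has order `q ^ i`. -/
theorem card_Q_eq {i : ℕ} (hφ : Nat.card (fixedBy Ω z) = Nat.card ↥(W a) ^ i + 1) :
    Nat.card Q = Nat.card ↥(W a) ^ i := by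
  have := h.card_fixed
  omega

end Fam

/-- The assembly of the centred case; the endgames are hypotheses. -/
theorem TIMin.false_of_centred_of (h : TIMin G Ω W) (hloc : LocHyp W) {w i : ℕ}
    (hc : CentredConfig W w i) {x₀ : G} (hx₀ : IsBad Ω x₀)
    (hshift : ∀ (a b : Ω) (z : G) (Q N J : Subgroup G), Fam W a b z Q N J → Shift W a z)
    (hcube : LocHyp W → CentredConfig W w 3 → IsBad Ω x₀ → False)
    (hlinear : ∀ (a b : Ω) (z : G) (Q N J : Subgroup G), LinCtx W a b z Q N J → False)
    (hsquareStab : ∀ (a b : Ω) (z : G) (Q N J : Subgroup G), Fam W a b z Q N J →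
      Nat.card Q = Nat.card ↥(W a) ^ 2 → 4 ≤ Nat.card N → Shift W a z →
      Odd ((cW W a).subgroupOf (stabilizer G a)).index →
      (∀ T : Subgroup G, IsPGroup 2 T → T ≤ cW W a → Nat.card T ≤ Nat.card ↥(cMod W a z)) →
      cW W a ⊓ stabilizer G b = N) : False := by
  rcases eq_or_ne i 3 with rfl | hi3
  · exact hcube hloc hc hx₀
  have hi : i = 1 ∨ i = 2 := by
    rcases hc.index with e | e | e
    exacts [Or.inl e, Or.inr e, absurd e hi3]
  obtain ⟨a, b, z, Q, N, J, hF⟩ := exists_fam h (fun c x hx hxc d hd => hc.comm x c hx hxc d hd)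
    (hloc.locTorus h.toTISetting) (fun c => by rw [hc.card_W c]; exact hc.four) hx₀
    (fun x hx => (hc.card_fixed x hx).trans (hc.card_fixed x₀ hx₀).symm) hc.bad_mul (fun c e => hi3 (by
      rw [hc.card_fixed x₀ hx₀, hc.card_W c] at e
      exact Nat.pow_right_injective (le_trans (by norm_num) hc.four) (Nat.succ_injective e)))
  have hq := hc.card_W a
  have hQ : Nat.card Q = Nat.card ↥(W a) ^ i := hF.card_Q_eq (by rw [hc.card_fixed z hF.bad, hq])
  have hφ : ∀ x : G, IsBad Ω x → Nat.card (fixedBy Ω x) = Nat.card (fixedBy Ω z) :=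
    fun x hx => (hc.card_fixed x hx).trans (hc.card_fixed z hF.bad).symm
  have hn : Nat.card Ω = Nat.card (fixedBy Ω z) *
      (1 + (Nat.card (fixedBy Ω z) - 1) * (Nat.card ↥(W a) - 1)) := by
    rw [hc.card_fixed z hF.bad, hq, Nat.add_sub_cancel]
    exact hc.card_points
  have hsh := hshift a b z Q N J hF
  rcases hi with rfl | rfl
  · rw [pow_one] at hQ
    refine hlinear a b z Q N J ⟨hF, hQ, fun v hv _ => ?_, ?_,
      fun v hv hva => h.toTISetting.mem_or_isBad hc hv hva, hsh⟩
    · rw [hc.card_fixed v hv, hq, pow_one]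
    · rw [hc.card_points, hq]
      obtain ⟨m, rfl⟩ : ∃ m, w = m + 1 := ⟨w - 1, by have := hc.four; omega⟩
      rw [Nat.add_sub_cancel, pow_one]
      ring
  · have ht := hF.two_stab (hloc.locTorus h.toTISetting) hφ
    have hodd := hF.odd_index hQ hn ht hsh
    have hmax := hF.card_two_le_cMod hQ hn ht hsh
    rcases hF.card_N_cases with hN | hN
    · exact SquareTwo.false_of_square_two hF hN hQ hsh hodd hmax
    · exact hF.false_of_square_count hQ (hsquareStab a b z Q N J hF hQ hN hsh hodd hmax) hodd hφ hn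

end CfsgLib.LocalEven.TIEndgame
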