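import Cfsg.Agent.Lib.LocalEven.TIEndgame.Defs
import Mathlib.GroupTheory.Index

/-!
# The centraliser of the image of a centred involution

`x` is an involution fixing `a`. Inside `cW W a = C_M(W a)` the elements `y` with
`x * (y * x * y⁻¹) ∈ W a` form `imageCentralizer W x a`, the preimage of the centraliser of the
image of `x` modulo `W a`. `toW` is the homomorphism `y ↦ x * (y * x * y⁻¹)` to `W a`; its kernel is
`cY W a x`, and it is onto as soon as it is nontrivial and the centraliser of `x` is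
transitive on the members at `a`.
-/

set_option autoImplicit false

namespace CfsgLib.LocalEven.TIEndgame.Central

open MulAction
open scoped commutatorElement

variable {G : Type*} {Ω : Type*} [Group G] [MulAction G Ω] {W : Ω → Subgroup G}

theorem mem_cW {a : Ω} {y : G} :
    y ∈ cW W a ↔ y • a = a ∧ ∀ w ∈ W a, Commute w y := by
  simp only [cW, Subgroup.mem_inf, mem_stabilizer_iff, Subgroup.mem_centralizer_iff,
    SetLike.mem_coe]
  exact Iff.rfl

theorem commute_cW {a : Ω} {y w : G} (hy : y ∈ cW W a) (hw : w ∈ W a) : Commute w y :=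
  (mem_cW.1 hy).2 w hw

theorem le_cW (h : TISetting W) (a : Ω) : W a ≤ cW W a := fun w hw =>
  mem_cW.2 ⟨mem_stabilizer_iff.1 (h.fix a hw), fun _ hv => h.mul_comm_of_mem hv hw⟩

/-- The stabiliser of `a` normalises `cW W a`. -/
theorem conj_mem_cW (h : TISetting W) {a : Ω} {g y : G} (hg : g • a = a) (hy : y ∈ cW W a) :
    g * y * g⁻¹ ∈ cW W a := by
  have hg' : g⁻¹ • a = a := inv_smul_eq_iff.2 hg.symm
  refine mem_cW.2 ⟨by rw [mul_smul, mul_smul, hg', (mem_cW.1 hy).1, hg], fun w hw => ?_⟩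
  have hw' := h.conj g⁻¹ a w hw
  rw [hg', inv_inv] at hw'
  have := (commute_cW hy hw')
  show w * (g * y * g⁻¹) = g * y * g⁻¹ * w
  calc w * (g * y * g⁻¹) = g * ((g⁻¹ * w * g) * y) * g⁻¹ := by group
    _ = g * (y * (g⁻¹ * w * g)) * g⁻¹ := by rw [this.eq]
    _ = g * y * g⁻¹ * w := by group

theorem mul_conj_eq {x y z w : G} (hz : x * (z * x * z⁻¹) = w) (hx : x * x = 1)
    (hwy : Commute w y) : x * (y * z * x * (y * z)⁻¹) = x * (y * x * y⁻¹) * w := by
  have hzx : z * x * z⁻¹ = x * w := by rw [← hz, ← mul_assoc x x, hx, one_mul]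
  calc x * (y * z * x * (y * z)⁻¹) = x * (y * (z * x * z⁻¹) * y⁻¹) := by group
    _ = x * (y * (x * w) * y⁻¹) := by rw [hzx]
    _ = x * (y * x * y⁻¹) * (y * w * y⁻¹) := by group
    _ = x * (y * x * y⁻¹) * w := by rw [← hwy.eq, mul_inv_cancel_right]

/-- The preimage of the centraliser of the image of `x` modulo the members at `a`. -/
def imageCentralizer (W : Ω → Subgroup G) (x : G) (a : Ω) (hx : x * x = 1) : Subgroup G where
  carrier := {y | y ∈ cW W a ∧ x * (y * x * y⁻¹) ∈ W a}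
  one_mem' := ⟨one_mem _, by simp [hx]⟩
  mul_mem' := by
    rintro y z ⟨hy, hyW⟩ ⟨hz, hzW⟩
    refine ⟨mul_mem hy hz, ?_⟩
    rw [mul_conj_eq rfl hx (commute_cW hy hzW)]
    exact mul_mem hyW hzW
  inv_mem' := by
    rintro y ⟨hy, hyW⟩
    refine ⟨inv_mem hy, ?_⟩
    have hy' := inv_mem hy
    have h1 := mul_conj_eq (y := y⁻¹) rfl hx (commute_cW hy' hyW)
    rw [inv_mul_cancel, one_mul, inv_one, mul_one, hx] at h1
    rw [eq_inv_of_mul_eq_one_left h1.symm]
    exact inv_mem hyW

variable {x : G} {a : Ω} (hx : x * x = 1)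

theorem mem_imageCentralizer {y : G} :
    y ∈ imageCentralizer W x a hx ↔ y ∈ cW W a ∧ x * (y * x * y⁻¹) ∈ W a := Iff.rfl

theorem mem_cY {y : G} :
    y ∈ cY W a x ↔ y ∈ cW W a ∧ Commute y x := by
  simp only [cY, Subgroup.mem_inf, Subgroup.mem_centralizer_singleton_iff]
  exact Iff.rfl

/-- `y ↦ x * (y * x * y⁻¹)`. -/
def toW (W : Ω → Subgroup G) (x : G) (a : Ω) (hx : x * x = 1) :
    imageCentralizer W x a hx →* W a where
  toFun y := ⟨x * ((y : G) * x * (y : G)⁻¹), y.2.2⟩
  map_one' := Subtype.ext (by simp [hx])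
  map_mul' y z := Subtype.ext (mul_conj_eq rfl hx (commute_cW y.2.1 z.2.2))

theorem toW_coe (y : imageCentralizer W x a hx) :
    (toW W x a hx y : G) = x * ((y : G) * x * (y : G)⁻¹) := rfl

theorem mem_ker_toW {y : imageCentralizer W x a hx} :
    y ∈ (toW W x a hx).ker ↔ Commute (y : G) x := by
  rw [MonoidHom.mem_ker, Subtype.ext_iff, toW_coe, OneMemClass.coe_one]
  refine ⟨fun e => ?_, fun e => by rw [e.eq, mul_inv_cancel_right, hx]⟩
  have h2 : (y : G) * x * (y : G)⁻¹ = x := by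
    calc (y : G) * x * (y : G)⁻¹ = x * x * ((y : G) * x * (y : G)⁻¹) := by rw [hx, one_mul]
      _ = x := by rw [mul_assoc, e, mul_one]
  exact mul_inv_eq_iff_eq_mul.1 h2

theorem cY_le : cY W a x ≤ imageCentralizer W x a hx := fun y hy => by
  obtain ⟨hy, hc⟩ := mem_cY.1 hy
  exact ⟨hy, by rw [hc.eq, mul_inv_cancel_right, hx]; exact one_mem _⟩

/-- The kernel of `toW` is the centraliser of `x`. -/
def kerEquiv : (toW W x a hx).ker ≃ cY W a x where
  toFun y := ⟨y.1.1, mem_cY.2 ⟨y.1.2.1, (mem_ker_toW hx).1 y.2⟩⟩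
  invFun y := ⟨⟨y.1, cY_le hx y.2⟩, (mem_ker_toW hx).2 (mem_cY.1 y.2).2⟩
  left_inv _ := rfl
  right_inv _ := rfl

/-- The order of the preimage, when `toW` is onto. -/
theorem card_imageCentralizer (hs : Function.Surjective (toW W x a hx)) :
    Nat.card (imageCentralizer W x a hx) = Nat.card (cY W a x) * Nat.card (W a) := by
  rw [← (toW W x a hx).ker.card_mul_index, Subgroup.index_ker,
    MonoidHom.range_eq_top.2 hs, Subgroup.card_top, Nat.card_congr (kerEquiv hx)]

/-- The preimage is a 2-group when the centraliser of `x` is one. -/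
theorem isPGroup_imageCentralizer [Finite G] (h : TISetting W)
    (h2 : IsPGroup 2 (cY W a x)) : IsPGroup 2 (imageCentralizer W x a hx) := by
  intro y
  have hsq : (toW W x a hx) (y * y) = 1 := by
    rw [map_mul]
    exact Subtype.ext (h.sq a _ (toW W x a hx y).2)
  obtain ⟨k, hk⟩ := h2 (kerEquiv hx ⟨y * y, hsq⟩)
  refine ⟨k + 1, Subtype.ext ?_⟩
  have hk' : ((y : G) * (y : G)) ^ 2 ^ k = 1 := congrArg Subtype.val hk
  rw [SubgroupClass.coe_pow, pow_succ', pow_mul, pow_two, hk']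
  rfl

variable (h : TISetting W)
include h

/-- Elements of the stabiliser commuting with `x` normalise the preimage. -/
theorem conj_mem_imageCentralizer {g y : G} (hga : g • a = a) (hgx : Commute g x)
    (hy : y ∈ imageCentralizer W x a hx) : g * y * g⁻¹ ∈ imageCentralizer W x a hx := by
  refine ⟨conj_mem_cW h hga hy.1, ?_⟩
  have h1 := h.conj g a _ hy.2
  rw [hga] at h1
  have e : g * x * g⁻¹ = x := by rw [hgx.eq, mul_inv_cancel_right]
  rwa [show g * (x * (y * x * y⁻¹)) * g⁻¹ =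
      (g * x * g⁻¹) * (g * y * g⁻¹ * (g * x * g⁻¹) * (g * y * g⁻¹)⁻¹) by group, e] at h1

/-- `toW` is onto once it is nontrivial and the centraliser of `x` is transitive on the members. -/
theorem toW_surjective
    (htr : ∀ r ∈ W a, ∀ s ∈ W a, r ≠ 1 → s ≠ 1 → ∃ g : G, g • a = a ∧ Commute g x ∧ g * r * g⁻¹ = s)
    (hne : ∃ y, toW W x a hx y ≠ 1) : Function.Surjective (toW W x a hx) := by
  obtain ⟨y, hy⟩ := hne
  intro s
  by_cases hs : s = 1
  · exact ⟨1, by rw [map_one, hs]⟩
  obtain ⟨g, hga, hgx, hg⟩ := htr _ (toW W x a hx y).2 _ s.2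
    (fun e => hy (Subtype.ext e)) (fun e => hs (Subtype.ext e))
  refine ⟨⟨g * y * g⁻¹, conj_mem_imageCentralizer hx h hga hgx y.2⟩, Subtype.ext ?_⟩
  rw [← hg, toW_coe, toW_coe]
  have e : g * x * g⁻¹ = x := by rw [hgx.eq, mul_inv_cancel_right]
  rw [show g * (x * ((y : G) * x * (y : G)⁻¹)) * g⁻¹ =
      (g * x * g⁻¹) * (g * y * g⁻¹ * (g * x * g⁻¹) * (g * y * g⁻¹)⁻¹) by group, e]

omit h in
/-- `toW` is the commutator with `x`. -/
theorem toW_eq_commutator (y : imageCentralizer W x a hx) :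
    (toW W x a hx y : G) = ⁅x, (y : G)⁆ := by
  rw [toW_coe, commutatorElement_def, inv_eq_of_mul_eq_one_right hx]; group

omit h in
/-- `cMod` is the preimage of the centraliser of the image. -/
theorem cMod_eq : cMod W a x = imageCentralizer W x a hx := by
  have key : ∀ y : G, x * (y * x * y⁻¹) = ⁅x, y⁆ := fun y => by
    rw [commutatorElement_def, inv_eq_of_mul_eq_one_right hx]; group
  refine le_antisymm ((Subgroup.closure_le _).2 fun y hy => ?_) fun y hy => Subgroup.subset_closure ?_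
  · exact ⟨hy.1, (key y).symm ▸ hy.2⟩
  · exact ⟨hy.1, key y ▸ hy.2⟩

end CfsgLib.LocalEven.TIEndgame.Central
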