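import Cfsg.Agent.Lib.LocalEven.TIEndgame.Central.Fam
import Cfsg.Agent.Lib.LocalEven.TIEndgame.Central.Image
import Mathlib.GroupTheory.Sylow

/-!
# All translations of a centred bad involution are induced

If some translation `z ↦ z * f` were not induced inside `cW W a`, the normaliser of `cY W a z` would
hold a 2-group of order at least `q |cY|` meeting `cW W a` in `cY`.  In the linear case it is free
off the `q²` points of the translated lines; in the Suzuki case an involution it induces on `W a`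
moves a square out of a commutator subgroup of index two.
-/

set_option autoImplicit false
set_option linter.style.haveILetI false

namespace CfsgLib.LocalEven.TIEndgame

open MulAction Subgroup
open scoped commutatorElement

universe u

variable {G Ω : Type u} [Group G] [Finite G] [Finite Ω] [MulAction G Ω] [FaithfulSMul G Ω]
  {W : Ω → Subgroup G} {a b : Ω} {z : G} {Q N J : Subgroup G}

/-- The elements fixing `a` that normalise `cY W a z` and keep `z` in its coset modulo `W a`. -/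
def cosetStab (W : Ω → Subgroup G) (a : Ω) (z : G) : Set G :=
  {g | g • a = a ∧ (∀ y ∈ cY W a z, g * y * g⁻¹ ∈ cY W a z) ∧ z⁻¹ * (g * z * g⁻¹) ∈ W a}

namespace Fam

variable (h : Fam W a b z Q N J)
include h

theorem cosetStab_mul {g g' : G} (hg : g ∈ cosetStab W a z) (hg' : g' ∈ cosetStab W a z) :
    g * g' ∈ cosetStab W a z := by
  obtain ⟨h1, h2, h3⟩ := hg
  obtain ⟨h1', h2', h3'⟩ := hg'
  refine ⟨by rw [mul_smul, h1', h1], fun y hy => ?_, ?_⟩
  · rw [show g * g' * y * (g * g')⁻¹ = g * (g' * y * g'⁻¹) * g⁻¹ by group]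
    exact h2 _ (h2' y hy)
  · have h4 := h.setting.conj g a _ h3'
    rw [h1] at h4
    rw [show z⁻¹ * (g * g' * z * (g * g')⁻¹) =
      z⁻¹ * (g * z * g⁻¹) * (g * (z⁻¹ * (g' * z * g'⁻¹)) * g⁻¹) by group]
    exact mul_mem h3 h4

variable (hloc : LocTorus W)
  (hφ : ∀ x : G, IsBad Ω x → Nat.card (fixedBy Ω x) = Nat.card (fixedBy Ω z))
  (hmul : ∀ x : G, ∀ c : Ω, IsBad Ω x → x • c = c → ∀ r ∈ W c, IsBad Ω (x * r))
include hloc hφ hmul

/-- The elements keeping the coset of `z` are transitive on it. -/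
theorem exists_cosetStab {t : G} (ht : t ∈ W a) :
    ∃ g ∈ cosetStab W a z, g * z * g⁻¹ = z * t := by
  by_cases ht1 : t = 1
  · subst ht1
    exact ⟨1, ⟨one_smul _ _, fun y hy => by simpa using hy, by simp⟩, by simp⟩
  obtain ⟨f, hf, hf1, hft⟩ : ∃ f ∈ W a, f ≠ 1 ∧ f ≠ t := by
    by_contra hne
    push Not at hne
    have hsub : (W a : Set G) ⊆ {1, t} := fun f hf => by
      by_cases hf1 : f = 1
      · exact Or.inl hf1
      · exact Or.inr (hne f hf hf1)
    have h1 := Set.ncard_le_ncard hsub (Set.toFinite _)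
    have h2 : ({1, t} : Set G).ncard ≤ 2 := (Set.ncard_insert_le _ _).trans (by simp)
    have h4 := h.four
    rw [← Nat.card_coe_set_eq, SetLike.coe_sort_coe] at h1
    omega
  obtain ⟨c, Q', J', P', -⟩ := h.exists_point hloc hφ hmul hf
  have hfc : f ∈ W a ⊓ centralizer {z * f} := by rwa [P'.inf_eq a P'.fix_a]
  have htc : f * t ∈ W a ⊓ centralizer {z * f} := by
    rw [P'.inf_eq a P'.fix_a]; exact mul_mem hf ht
  have hfinv : f⁻¹ = f := inv_eq_of_mul_eq_one_right (h.setting.sq a f hf)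
  obtain ⟨j, hj, hjf⟩ := P'.torus.trans f hfc hf1 (f * t) htc
    (fun e => hft (by rw [← hfinv]; exact (mul_eq_one_iff_inv_eq.1 e)))
  have hzj : j * z * j⁻¹ = z * t := by
    calc j * z * j⁻¹ = j * (z * f) * j⁻¹ * (j * f * j⁻¹)⁻¹ := by group
      _ = z * f * (f * t)⁻¹ := by rw [← (P'.commute_J hj).eq, mul_inv_cancel_right, hjf]
      _ = z * t := by
        rw [mul_inv_rev, inv_eq_of_mul_eq_one_right (h.setting.sq a t ht), hfinv, mul_assoc z,
          ← mul_assoc f, (h.setting.mul_comm_of_mem hf ht).eq, mul_assoc t,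
          h.setting.sq a f hf, mul_one]
  refine ⟨j, ⟨P'.J_fix_a hj, fun y hy => ?_, ?_⟩, hzj⟩
  · rw [← cY_mul hf] at hy ⊢
    exact conj_mem_cY h.setting.toTISetting (P'.J_fix_a hj) (P'.commute_J hj).symm hy
  · rw [hzj, inv_mul_cancel_left]; exact ht

/-- A large 2-group keeping the coset of `z`, meeting `cW W a` in `cY W a z`. -/
theorem exists_big_two (hns : ∀ g ∈ cMod W a z, g ∈ cY W a z) :
    ∃ S : Subgroup G, IsPGroup 2 S ∧ cY W a z ≤ S ∧ (∀ g ∈ S, g ∈ cosetStab W a z) ∧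
      (∀ g ∈ S, g ∈ cW W a → g ∈ cY W a z) ∧
      Nat.card ↥(cY W a z) * Nat.card ↥(W a) ≤ Nat.card S := by
  classical
  haveI : Fact (Nat.Prime 2) := ⟨Nat.prime_two⟩
  let P : Subgroup G :=
    { carrier := cosetStab W a z
      one_mem' := ⟨one_smul _ _, fun y hy => by simpa using hy, by simp⟩
      mul_mem' := fun hg hg' => h.cosetStab_mul hg hg'
      inv_mem' := fun {g} hg => by
        have hpow : ∀ n : ℕ, g ^ n ∈ cosetStab W a z := fun n => by
          induction n with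
          | zero => exact ⟨by simp, fun y hy => by simpa using hy, by simp⟩
          | succ n ih => rw [pow_succ]; exact h.cosetStab_mul ih hg
        have he : g⁻¹ = g ^ (orderOf g - 1) := inv_eq_of_mul_eq_one_left (by
          rw [← pow_succ, Nat.sub_add_cancel (orderOf_pos g), pow_orderOf_eq_one])
        rw [he]; exact hpow _ }
  have hAP : cY W a z ≤ P := fun g hg => by
    refine ⟨(mem_cY_iff.1 hg).1,
      fun y hy => mul_mem (mul_mem hg hy) (inv_mem hg), ?_⟩
    rw [(mem_cY_iff.1 hg).2.2.eq, mul_inv_cancel_right, inv_mul_cancel]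
    exact one_mem _
  -- the orbit map onto the coset
  let ψ : P → W a := fun g => ⟨_, g.2.2.2⟩
  choose s hs hsz using fun t : W a => h.exists_cosetStab hloc hφ hmul t.2
  have hsec : ∀ t, ψ ⟨s t, hs t⟩ = t := fun t => Subtype.ext (by
    show z⁻¹ * (s t * z * (s t)⁻¹) = (t : G)
    rw [hsz, inv_mul_cancel_left])
  have hψ : ∀ g g' : P, ψ g = ψ g' ↔ (g : G)⁻¹ * g' ∈ centralizer {z} := fun g g' => by
    rw [Subtype.ext_iff, mem_centralizer_singleton_iff]
    show z⁻¹ * (_ * z * _) = z⁻¹ * (_ * z * _) ↔ _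
    rw [mul_right_inj]
    refine ⟨fun e => ?_, fun e => ?_⟩
    · calc (g : G)⁻¹ * g' * z = (g : G)⁻¹ * ((g' : G) * z * (g' : G)⁻¹) * g' := by group
        _ = z * ((g : G)⁻¹ * g') := by rw [← e]; group
    · calc (g : G) * z * (g : G)⁻¹ = (g : G) * (z * ((g : G)⁻¹ * g')) * (g' : G)⁻¹ := by group
        _ = (g' : G) * z * (g' : G)⁻¹ := by rw [← e]; group
  let C : Subgroup P := (centralizer {z}).subgroupOf P
  have hP : Nat.card P = Nat.card ↥(W a) * Nat.card C := by
    rw [← Nat.card_prod]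
    refine (Nat.card_eq_of_bijective
      (fun p : W a × C => (⟨s p.1, hs p.1⟩ : P) * p.2) ⟨fun p p' e => ?_, fun g => ?_⟩).symm
    · have hfst : ∀ (t : W a) (k : C), ψ (⟨s t, hs t⟩ * (k : P)) = t := fun t k => by
        refine ((hψ _ _).2 ?_).trans (hsec t)
        have : ((⟨s t, hs t⟩ * (k : P) : P) : G)⁻¹ * s t = ((k : P) : G)⁻¹ := by
          show (s t * ((k : P) : G))⁻¹ * s t = _
          group
        rw [this]
        exact inv_mem (mem_subgroupOf.1 k.2)
      have h1 : p.1 = p'.1 := by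
        have := congrArg ψ e
        rwa [hfst, hfst] at this
      refine Prod.ext h1 (Subtype.ext (mul_left_cancel (a := (⟨s p.1, hs p.1⟩ : P)) ?_))
      simp only [h1] at e ⊢
      exact e
    · refine ⟨(ψ g, ⟨(⟨s (ψ g), hs (ψ g)⟩ : P)⁻¹ * g,
        mem_subgroupOf.2 ((hψ _ _).1 (hsec (ψ g)))⟩), ?_⟩
      exact mul_inv_cancel_left _ g
  obtain ⟨i, hi⟩ := h.isPGroup_cY.exists_card_eq
  have hW2 : IsPGroup 2 (W a) := fun x =>
    ⟨1, Subtype.ext (by simpa [pow_two] using h.setting.sq a x x.2)⟩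
  obtain ⟨r, hr⟩ := hW2.exists_card_eq
  have hdvd : 2 ^ (r + i) ∣ Nat.card P := by
    rw [hP, pow_add, ← hr, ← hi, ← Nat.card_congr (subgroupOfEquivOfLe hAP).toEquiv]
    refine Nat.mul_dvd_mul_left _ (Subgroup.card_dvd_of_le fun g hg => ?_)
    exact mem_subgroupOf.2 (Subgroup.mem_inf.1 (mem_subgroupOf.1 hg)).2
  obtain ⟨S, hS⟩ := (h.isPGroup_cY.of_equiv (subgroupOfEquivOfLe hAP).symm).exists_le_sylow
  have hcard : Nat.card (S : Subgroup P) = Nat.card ↥((S : Subgroup P).map P.subtype) :=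
    (Subgroup.card_map_of_injective P.subtype_injective).symm
  refine ⟨(S : Subgroup P).map P.subtype, S.isPGroup'.map _, fun g hg =>
    ⟨⟨g, hAP hg⟩, hS (mem_subgroupOf.2 hg), rfl⟩, ?_, ?_, ?_⟩
  · rintro g ⟨g', -, rfl⟩
    exact g'.2
  · rintro g ⟨g', -, rfl⟩ hgW
    refine hns _ (SquareTwo.mem_cMod.2 ⟨hgW, ?_⟩)
    rw [commutatorElement_def, inv_eq_of_mul_eq_one_right (h.sq_N z h.mem_N)]
    have := g'.2.2.2
    rw [inv_eq_of_mul_eq_one_right (h.sq_N z h.mem_N)] at this
    simpa only [mul_assoc, Subgroup.coe_subtype] using this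
  · rw [← hcard, hi, hr, ← pow_add, add_comm i r]
    exact Nat.le_of_dvd Nat.card_pos (S.pow_dvd_card_of_pow_dvd_card hdvd)

omit hloc hφ hmul in
/-- The Suzuki case of `shift`. -/
theorem shift_square (hsq : Nat.card Q = Nat.card ↥(W a) ^ 2) {S : Subgroup G} (hS : IsPGroup 2 S)
    (hSP : ∀ g ∈ S, g ∈ cosetStab W a z) (hSW : ∀ g ∈ S, g ∈ cW W a → g ∈ cY W a z)
    {g₀ : G} (hg₀ : g₀ ∈ S) (hg₀Y : g₀ ∉ cY W a z) : False := by
  classical
  have hP := h.localPair
  have hW : W a ⊓ centralizer {z} = W a := h.inf_centralizer_eq h.fix_a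
  have hsq' : Nat.card Q = Nat.card ↥(W a ⊓ centralizer {z}) ^ 2 := by rw [hW]; exact hsq
  -- an element of order two modulo `cY`
  obtain ⟨g, hg, hgY, hg2⟩ : ∃ g ∈ S, g ∉ cY W a z ∧ g * g ∈ cY W a z := by
    obtain ⟨k, hk⟩ := hS ⟨g₀, hg₀⟩
    have hk' : g₀ ^ 2 ^ k = 1 := congrArg Subtype.val hk
    by_contra hne
    push Not at hne
    have hall : ∀ i, g₀ ^ 2 ^ i ∉ cY W a z := fun i => by
      induction i with
      | zero => simpa using hg₀Y
      | succ i ih =>
        rw [pow_succ, pow_mul, pow_two]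
        exact hne _ (pow_mem hg₀ _) ih
    exact hall k (hk' ▸ one_mem _)
  obtain ⟨hga, hgN, -⟩ := hSP g hg
  have hgWa : ∀ w ∈ W a, g * w * g⁻¹ ∈ W a := fun w hw => by
    have := h.setting.conj g a w hw
    rwa [hga] at this
  obtain ⟨w, hw, hgw⟩ : ∃ w ∈ W a, g * w * g⁻¹ ≠ w := by
    by_contra hne
    push Not at hne
    exact hgY (hSW g hg (Subgroup.mem_inf.2 ⟨hga, Subgroup.mem_centralizer_iff.2 fun w hw =>
      (mul_inv_eq_iff_eq_mul.1 (hne w hw)).symm⟩))
  set d := w * (g * w * g⁻¹) with hd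
  have hdW : d ∈ W a := mul_mem hw (hgWa w hw)
  have hd1 : d ≠ 1 := fun e => hgw (by
    rw [← inv_eq_of_mul_eq_one_right e, inv_eq_of_mul_eq_one_right (h.setting.sq a w hw)])
  have hggw : g * (g * w * g⁻¹) * g⁻¹ = w := by
    have := (mem_cY_iff.1 hg2).2.1 w hw
    rw [show g * (g * w * g⁻¹) * g⁻¹ = g * g * w * (g * g)⁻¹ by group, this.eq, mul_inv_cancel_right]
  have hgd : g * d * g⁻¹ = d := by
    rw [hd, show g * (w * (g * w * g⁻¹)) * g⁻¹ = (g * w * g⁻¹) * (g * (g * w * g⁻¹) * g⁻¹) by group,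
      hggw, (h.setting.mul_comm_of_mem (hgWa w hw) hw).eq]
  -- a square root of `d`
  obtain ⟨x, hx, hxd⟩ : ∃ x ∈ Q, x * x = d := by
    obtain ⟨x₁, hx₁, hx₁W⟩ : ∃ x ∈ Q, x ∉ W a := by
      by_contra hne
      push Not at hne
      have := Subgroup.card_le_of_le (show Q ≤ W a from hne)
      rw [hsq] at this
      have := h.four
      nlinarith
    obtain ⟨j, hj, hjd⟩ := h.torus.trans (x₁ * x₁) (by rw [hW]; exact h.loc.sq_mem x₁ hx₁)
      (fun e => hx₁W (h.loc.invol x₁ hx₁ e)) d (by rwa [hW]) hd1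
    exact ⟨j * x₁ * j⁻¹, h.loc.normal j (mem_centralizer_singleton_iff.2 (hP.commute_J hj).eq.symm)
      (hP.J_fix_a hj) x₁ hx₁, by rw [← hjd]; group⟩
  have hxW : x ∉ W a := fun e => hd1 (by rw [← hxd]; exact h.setting.sq a x e)
  -- the commutators with `x`
  let φ : Q →* G :=
    { toFun := fun y => ⁅x, (y : G)⁆
      map_one' := commutatorElement_one_right _
      map_mul' := fun y y' => by
        simp only [Subgroup.coe_mul]
        rw [show ⁅x, (y : G) * y'⁆ = ⁅x, (y : G)⁆ * ((y : G) * ⁅x, (y' : G)⁆ * (y : G)⁻¹) by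
          simp only [commutatorElement_def]; group,
          (hP.Q_central y.2 (h.loc.comm_mem x hx y' y'.2)).eq, mul_inv_cancel_right] }
  have hHW : φ.range ≤ W a := by
    rintro _ ⟨y, rfl⟩
    exact h.loc.comm_mem x hx y y.2
  have hdH : d ∉ φ.range := by
    rintro ⟨y, hy⟩
    have hy' : x * y * x⁻¹ * (y : G)⁻¹ = x * x := by
      rw [hxd]; exact hy
    have e1 : (y : G) * x⁻¹ * (y : G)⁻¹ = x := mul_left_cancel (a := x) (by rw [← hy']; group)
    have e2 : (y : G) * x⁻¹ = x * y := mul_inv_eq_iff_eq_mul.1 e1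
    have hxy : x * y * (x * y) = (y : G) * y := by
      calc x * (y : G) * (x * y) = (y : G) * x⁻¹ * (x * y) := by rw [e2]
        _ = (y : G) * y := by group
    have hmem := h.loc.square_inj hsq' y y.2 (x * y) (mul_mem hx y.2) hxy.symm
    refine hxW ?_
    have hc := (hP.Q_central y.2 hmem).eq
    have : x = (y : G)⁻¹ * (x * y) := by
      calc x = (y : G) * ((y : G)⁻¹ * (x * y)) * (y : G)⁻¹ := by group
        _ = (y : G)⁻¹ * (x * y) := by rw [hc, mul_inv_cancel_right]
    exact this ▸ hmem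
  -- `g` keeps the commutators with `x`
  have hconjQ : ∀ y ∈ Q, ∃ y' ∈ Q, ∃ n ∈ N, g * y * g⁻¹ = y' * n := fun y hy =>
    h.decomp _ (hgN y (hP.Q_le_cY hy))
  have hsqconj : ∀ x' ∈ Q, ∀ n ∈ N, (x' * n) * (x' * n) = x' * x' := fun x' hx' n hn => by
    calc x' * n * (x' * n) = x' * (n * x') * n := by group
      _ = x' * x' * (n * n) := by rw [(h.comm_Q n hn x' hx').eq]; group
      _ = x' * x' := by rw [h.sq_N n hn, mul_one]
  obtain ⟨x', hx', n, hn, hgx⟩ := hconjQ x hx
  have hxx' : x⁻¹ * x' ∈ W a := by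
    refine h.loc.square_inj hsq' x hx x' hx' ?_
    rw [← hsqconj x' hx' n hn, ← hgx, show g * x * g⁻¹ * (g * x * g⁻¹) = g * (x * x) * g⁻¹ by group,
      hxd, hgd]
  have hinv : ∀ u ∈ φ.range, g * u * g⁻¹ ∈ φ.range := by
    rintro _ ⟨y, rfl⟩
    obtain ⟨y', hy', m, hm, hgy⟩ := hconjQ y y.2
    refine ⟨⟨y', hy'⟩, ?_⟩
    show ⁅x, y'⁆ = g * ⁅x, (y : G)⁆ * g⁻¹
    set w' := x⁻¹ * x' with hw'
    have hwy : Commute w' y' := (hP.Q_central hy' hxx').symm
    have hcn : Commute n y' := h.comm_Q n hn y' hy'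
    have hcm : Commute m x' := h.comm_Q m hm x' hx'
    have hnm : Commute n m := by
      have h1 := h.sq_N _ (mul_mem hn hm)
      calc n * m = (n * m)⁻¹ := (inv_eq_of_mul_eq_one_right h1).symm
        _ = m⁻¹ * n⁻¹ := mul_inv_rev n m
        _ = m * n := by
          rw [inv_eq_of_mul_eq_one_right (h.sq_N n hn), inv_eq_of_mul_eq_one_right (h.sq_N m hm)]
    calc ⁅x, y'⁆ = ⁅x', y'⁆ := by
          rw [show x' = x * w' by rw [hw', mul_inv_cancel_left], commutatorElement_def,
            commutatorElement_def, mul_inv_rev, mul_assoc x w' y', hwy.eq]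
          group
      _ = ⁅x' * n, y' * m⁆ := by
          simp only [commutatorElement_def, mul_inv_rev]
          rw [show x' * n * (y' * m) * (n⁻¹ * x'⁻¹) * (m⁻¹ * y'⁻¹) =
              x' * (n * y') * m * n⁻¹ * x'⁻¹ * m⁻¹ * y'⁻¹ by group, hcn.eq,
            show x' * (y' * n) * m * n⁻¹ * x'⁻¹ * m⁻¹ * y'⁻¹ =
              x' * y' * (n * m * n⁻¹) * x'⁻¹ * m⁻¹ * y'⁻¹ by group, hnm.eq, mul_inv_cancel_right,
            show x' * y' * m * x'⁻¹ * m⁻¹ * y'⁻¹ = x' * y' * (m * x'⁻¹) * m⁻¹ * y'⁻¹ by group,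
            hcm.inv_right.eq]
          group
      _ = g * ⁅x, (y : G)⁆ * g⁻¹ := by
          rw [← hgx, ← hgy]; simp only [commutatorElement_def]; group
  -- the range has index two
  have hker : Nat.card φ.ker ≤ 2 * Nat.card ↥(W a) := by
    rw [← Subgroup.card_map_of_injective (f := Q.subtype) Q.subtype_injective]
    refine card_le_two_mul (x := x) fun y hy => ?_
    obtain ⟨y', hy', rfl⟩ := hy
    exact h.loc.square_comm hsq' x hx hxW y' y'.2
      (commutatorElement_eq_one_iff_mul_comm.1 (MonoidHom.mem_ker.1 hy'))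
  have hmul' := φ.ker.card_mul_index
  rw [Subgroup.index_ker, hsq] at hmul'
  have hle : Nat.card ↥(W a) ≤ 2 * Nat.card φ.range := by
    have h4 := h.four
    nlinarith
  have hidx : (φ.range.subgroupOf (W a)).index = 2 := by
    have h1 := (φ.range.subgroupOf (W a)).card_mul_index
    rw [Nat.card_congr (subgroupOfEquivOfLe hHW).toEquiv] at h1
    have hne : (φ.range.subgroupOf (W a)).index ≠ 1 := fun e => hdH (mem_subgroupOf.1
      (Subgroup.index_eq_one.1 e ▸ Subgroup.mem_top (⟨d, hdW⟩ : W a)))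
    have hpos : 0 < Nat.card φ.range := Nat.card_pos
    have h0 : (φ.range.subgroupOf (W a)).index ≠ 0 := fun e => by
      rw [e, mul_zero] at h1
      have := h.four
      omega
    have : (φ.range.subgroupOf (W a)).index ≤ 2 := Nat.le_of_mul_le_mul_left (by rw [h1]; linarith) hpos
    omega
  refine hdH (mem_subgroupOf.1 ((Subgroup.mul_mem_iff_of_index_two hidx
    (a := ⟨w, hw⟩) (b := ⟨g * w * g⁻¹, hgWa w hw⟩)).2 ?_))
  simp only [mem_subgroupOf]
  exact ⟨fun hwH => hinv w hwH, fun hwH => hggw ▸ hinv _ hwH⟩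

/-- The linear case of `shift`. -/
theorem shift_linear (hlin : Nat.card Q = Nat.card ↥(W a))
    (hn : Nat.card Ω = Nat.card (fixedBy Ω z) *
      (1 + (Nat.card (fixedBy Ω z) - 1) * (Nat.card ↥(W a) - 1)))
    {S : Subgroup G} (hS : IsPGroup 2 S) (hYS : cY W a z ≤ S)
    (hSP : ∀ g ∈ S, g ∈ cosetStab W a z) (hSW : ∀ g ∈ S, g ∈ cW W a → g ∈ cY W a z)
    (hbig : Nat.card ↥(cY W a z) * Nat.card ↥(W a) ≤ Nat.card S) : False := by
  classical
  haveI : Fact (Nat.Prime 2) := ⟨Nat.prime_two⟩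
  have hQW : Q = W a := (Subgroup.eq_of_le_of_card_ge h.localPair.W_le_Q hlin.le).symm
  have hφz : Nat.card (fixedBy Ω z) = Nat.card ↥(W a) + 1 := by rw [h.card_fixed, hlin]
  -- the exceptional points
  let E : ↥(W a) → Set Ω := fun f => fixedBy Ω (z * (f : G)) \ {a}
  have hE : ∀ f, Nat.card (E f) = Nat.card ↥(W a) := fun f => by
    obtain ⟨c, Q', J', P', -⟩ := h.exists_point hloc hφ hmul f.2
    rw [Nat.card_coe_set_eq, Set.ncard_sdiff_singleton_of_mem
      (show a ∈ fixedBy Ω (z * (f : G)) from P'.fix_a), ← Nat.card_coe_set_eq, hφ _ P'.bad, hφz,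
      Nat.add_sub_cancel]
  have hdisj : Pairwise (Function.onFun Disjoint E) := fun f f' hff' => Set.disjoint_left.2 fun c h1 h2 =>
    hff' (Subtype.ext (h.W_unique f.2 f'.2 h1.2 h1.1 h2.1))
  let X : Set Ω := {c | c ≠ a ∧ ∀ g ∈ S, g • c = c → g = 1}
  have hX : X = ({a} ∪ ⋃ f, E f)ᶜ := by
    ext c
    simp only [X, Set.mem_setOf_eq, Set.mem_compl_iff, Set.mem_union, Set.mem_singleton_iff,
      Set.mem_iUnion, not_or, not_exists]
    refine and_congr_right fun hca => ⟨fun hfree f hcf => ?_, fun hout g hg hgc => ?_⟩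
    · have hmem : z * (f : G) ∈ S := hYS (mul_mem h.localPair.z_mem
        (h.localPair.Q_le_cY (h.localPair.W_le_Q f.2)))
      have e := hfree _ hmem hcf.1
      exact h.z_ne_one (h.localPair.eq_one_of_fix h.setting.toTISetting
        (h.localPair.W_le_Q (by rw [eq_inv_of_mul_eq_one_left e]; exact inv_mem f.2)) h.fix_b)
    · by_contra hg1
      obtain ⟨k, hk⟩ : ∃ k, orderOf g = 2 ^ k := by
        obtain ⟨k, hk⟩ := hS ⟨g, hg⟩
        obtain ⟨i, -, hi⟩ := (Nat.dvd_prime_pow Nat.prime_two).1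
          (orderOf_dvd_of_pow_eq_one (congrArg Subtype.val hk : g ^ 2 ^ k = 1))
        exact ⟨i, hi⟩
      rcases k with _ | k
      · exact hg1 (orderOf_eq_one_iff.1 (by rw [hk, pow_zero]))
      set v := g ^ 2 ^ k with hv
      have hvo : orderOf v = 2 := by
        rw [hv, orderOf_pow_of_dvd (by positivity) (by rw [hk]; exact pow_dvd_pow 2 k.le_succ), hk,
          pow_succ, Nat.mul_div_cancel_left _ (by positivity)]
      have hvS : v ∈ S := pow_mem hg _
      have hva : v • a = a := (hSP v hvS).1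
      have hvc : v • c = c := mem_stabilizer_iff.1 (pow_mem (mem_stabilizer_iff.2 hgc) _)
      have hbad : IsBad Ω v := ⟨hvo, a, c, fun e => hca e.symm, hva, hvc⟩
      have hvY := hSW v hvS (Subgroup.mem_inf.2 ⟨hva, Subgroup.mem_centralizer_iff.2 fun d hd =>
        (h.all a v hbad hva d hd).eq.symm⟩)
      obtain ⟨x, hx, m, hm, hxm⟩ := h.decomp v hvY
      rw [hQW] at hx
      have hm1 : m ≠ 1 := fun e => by
        rw [e, mul_one] at hxm
        refine hca (h.setting.unique a x hx (fun e' => ?_) c (hxm ▸ hvc))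
        rw [hxm, e', orderOf_one] at hvo
        omega
      obtain ⟨j, hj⟩ := h.exists_isScalar hloc hφ hmul hm hm1
      have hf : j⁻¹ * x * j ∈ W a := by
        have := h.conj_J (inv_mem hj.1) hx
        rwa [inv_inv] at this
      have hmem : c ∈ fixedBy Ω (m * (j * (j⁻¹ * x * j) * j⁻¹)) := by
        rw [mem_fixedBy, show j * (j⁻¹ * x * j) * j⁻¹ = x by group,
          (h.commute_W_of_mem hm hx).eq, ← hxm, hvc]
      rw [h.fixedBy_eq hloc hφ hmul hm hm1 hj hf] at hmem
      exact hout ⟨_, hf⟩ ⟨hmem, hca⟩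
  -- the count
  have hcard : Nat.card X + (1 + Nat.card ↥(W a) * Nat.card ↥(W a)) = Nat.card Ω := by
    haveI := Fintype.ofFinite ↥(W a)
    have hU : Nat.card ↑(⋃ f, E f) = Nat.card ↥(W a) * Nat.card ↥(W a) := by
      rw [Nat.card_congr (Set.unionEqSigmaOfDisjoint hdisj), Nat.card_sigma,
        Finset.sum_congr rfl fun f _ => hE f, Finset.sum_const, smul_eq_mul, Finset.card_univ,
        ← Nat.card_eq_fintype_card]
    have ha : a ∉ ⋃ f, E f := fun he => by
      obtain ⟨f, hf⟩ := Set.mem_iUnion.1 he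
      exact hf.2 rfl
    rw [hX, Nat.card_coe_set_eq, Set.singleton_union, ← hU, Nat.card_coe_set_eq,
      Nat.add_comm 1, ← Set.ncard_insert_of_notMem ha (Set.toFinite _), add_comm,
      Set.ncard_add_ncard_compl]
  have hdvd : Nat.card S ∣ Nat.card X := by
    let Xs : SubMulAction S Ω :=
      { carrier := X
        smul_mem' := fun g c hc => by
          refine ⟨fun e => hc.1 (smul_left_cancel (g : G) (e.trans (hSP g g.2).1.symm)),
            fun g' hg' e => ?_⟩
          have h1 := hc.2 ((g : G)⁻¹ * g' * g) (mul_mem (mul_mem (inv_mem g.2) hg') g.2) (by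
            rw [mul_smul, mul_smul]
            show (g : G)⁻¹ • g' • (g • c : Ω) = c
            rw [e]
            exact inv_smul_smul (g : G) c)
          calc g' = (g : G) * ((g : G)⁻¹ * g' * g) * (g : G)⁻¹ := by group
            _ = 1 := by rw [h1]; group }
    show Nat.card S ∣ Nat.card Xs
    haveI := Fintype.ofFinite (orbitRel.Quotient S Xs)
    rw [Nat.card_congr (selfEquivSigmaOrbits S Xs), Nat.card_sigma]
    refine Finset.dvd_sum fun o _ => ?_
    have hbot : stabilizer S o.out = ⊥ := (eq_bot_iff).2 fun g hg => by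
      refine Subgroup.mem_bot.2 (Subtype.ext ?_)
      exact o.out.2.2 g g.2 (congrArg Subtype.val (mem_stabilizer_iff.1 hg))
    have h1 := index_stabilizer S o.out
    rw [hbot, Subgroup.index_bot] at h1
    rw [h1, Nat.card_coe_set_eq]
  obtain ⟨m, hm⟩ : ∃ m, Nat.card ↥(W a) = m + 1 :=
    ⟨Nat.card ↥(W a) - 1, (Nat.sub_add_cancel Nat.card_pos).symm⟩
  have hXq : Nat.card X = (m + 1) * (m + 1) * m := by
    have he : (m + 1 + 1) * (1 + (m + 1) * m) = (m + 1) * (m + 1) * m + (1 + (m + 1) * (m + 1)) := by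
      ring
    rw [hn, hφz, hm, Nat.add_sub_cancel, Nat.add_sub_cancel, he] at hcard
    omega
  obtain ⟨r, hr⟩ := (show IsPGroup 2 (W a) from fun x =>
    ⟨1, Subtype.ext (by simpa [pow_two] using h.setting.sq a x x.2)⟩).exists_card_eq
  obtain ⟨i, hi⟩ := hS.exists_card_eq
  have hr0 : r ≠ 0 := fun e => by
    have := h.four
    rw [hr, e, pow_zero] at this
    omega
  have hcop : Nat.Coprime (Nat.card S) m := by
    rw [hi]
    refine Nat.Coprime.pow_left i (Nat.coprime_two_left.2 ?_)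
    have he : Even (m + 1) := by
      rw [← hm, hr]
      exact Nat.even_pow.2 ⟨even_two, hr0⟩
    simpa [Nat.even_add_one] using he
  rw [hXq] at hdvd
  have hle := Nat.le_of_dvd (by positivity) (hcop.dvd_of_dvd_mul_right hdvd)
  rw [h.card_cY, hlin, hm] at hbig
  have hN : 2 ≤ Nat.card N := by
    have h1 := Nat.le_of_dvd Nat.card_pos (Subgroup.orderOf_dvd_natCard N h.mem_N)
    rwa [h.bad.1] at h1
  nlinarith

/-- Every translation of `z` by a member at `a` is induced in `cW W a`. -/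
theorem shift (hn : Nat.card Ω = Nat.card (fixedBy Ω z) *
    (1 + (Nat.card (fixedBy Ω z) - 1) * (Nat.card ↥(W a) - 1))) : Shift W a z := by
  classical
  by_cases hns : ∀ g ∈ cMod W a z, g ∈ cY W a z
  · exfalso
    obtain ⟨S, hS, hYS, hSP, hSW, hbig⟩ := h.exists_big_two hloc hφ hmul hns
    rcases h.not_cube with hq | hq
    · exact h.shift_linear hloc hφ hmul hq hn hS hYS hSP hSW hbig
    · obtain ⟨g₀, hg₀, hg₀Y⟩ : ∃ g ∈ S, g ∉ cY W a z := by
        by_contra hne
        push Not at hne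
        have h1 := (Subgroup.card_le_of_le (show S ≤ cY W a z from hne))
        have := h.four
        have : 0 < Nat.card ↥(cY W a z) := Nat.card_pos
        nlinarith
      exact h.shift_square hq hS hSP hSW hg₀ hg₀Y
  push Not at hns
  obtain ⟨g, hg, hgY⟩ := hns
  obtain ⟨hgW, hgτ⟩ := SquareTwo.mem_cMod.1 hg
  have hne : ⁅z, g⁆ ≠ 1 := fun e => hgY ((SquareTwo.tau_eq_one_iff hgW).1 e)
  intro f hf
  by_cases hf1 : f = 1
  · exact ⟨1, one_mem _, by rw [hf1, commutatorElement_one_right]⟩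
  have hW : W a ⊓ centralizer {z} = W a := h.inf_centralizer_eq h.fix_a
  obtain ⟨j, hj, hjf⟩ := h.torus.trans _ (by rwa [hW]) hne f (by rwa [hW]) hf1
  refine ⟨j * g * j⁻¹,
    Central.conj_mem_cW h.setting.toTISetting (h.localPair.J_fix_a hj) hgW, ?_⟩
  have hzj : j * z * j⁻¹ = z := by rw [← (h.localPair.commute_J hj).eq, mul_inv_cancel_right]
  rw [← hjf, commutatorElement_def, commutatorElement_def,
    show j * (z * g * z⁻¹ * g⁻¹) * j⁻¹ =
      (j * z * j⁻¹) * (j * g * j⁻¹) * (j * z * j⁻¹)⁻¹ * (j * g * j⁻¹)⁻¹ by group, hzj]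

end Fam

end CfsgLib.LocalEven.TIEndgame
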