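import Cfsg.Agent.Lib.LocalEven.TIEndgame.InvariantPairing
import Mathlib.Algebra.Module.ZMod
import Mathlib.LinearAlgebra.Basis.VectorSpace

/-!
# A zero of the squaring form whose orthogonal has a centre of order two

`P` models the image of the preimage above a bad involution `z` (Suzuki size): `B` is the
commutator, `s` squaring, `B z` the map onto the members, `Γ` an automorphism of odd order acting
by a scalar `c ≠ 1` on the members moved and fixing the squares. Then some `v` outside the kernel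
of `B z` squares to zero and its orthogonal has centre `{0, v}`.
-/

set_option autoImplicit false
set_option linter.style.haveILetI false

namespace CfsgLib.LocalEven.TIEndgame.SquareCore

open Finset

variable {P V : Type*} [AddCommGroup P] [AddCommGroup V]

/-- The data above a bad involution. -/
structure Data (B : P →+ P →+ V) (s : P → V) (z : P) (Nb : AddSubgroup P) : Prop where
  two : ∀ p : P, p + p = 0
  polar : ∀ p p', s (p + p') = s p + s p' + B p p'
  alt : ∀ p, B p p = 0
  symm : ∀ p p', B p p' = B p' p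
  z_mem : z ∈ Nb
  onto : Function.Surjective (B z)
  nb_ker : ∀ n ∈ Nb, B z n = 0
  nb_orth : ∀ n ∈ Nb, ∀ p, B z p = 0 → B n p = 0
  nb_sq : ∀ n ∈ Nb, s n = 0
  nb_inj : ∀ n ∈ Nb, n ≠ 0 → ∀ p, B n p = 0 → B z p = 0
  sq_inj : ∀ p p', B z p = 0 → B z p' = 0 → s p = s p' → p + p' ∈ Nb
  comm : ∀ p p', B z p = 0 → B z p' = 0 → B p p' = 0 → p ∉ Nb → p' ∈ Nb ∨ p + p' ∈ Nb
  big : ∀ p, B z p = 0 → p ∉ Nb → ∃ p', B z p' = 0 ∧ B p p' ≠ 0
  ex : ∃ p, B z p = 0 ∧ p ∉ Nb

variable {B : P →+ P →+ V} {s : P → V} {z : P} {Nb : AddSubgroup P}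

/-- The zero with small centre. -/
theorem exists_zero [Finite V] (h : Data B s z Nb) {r : ℕ} (hr : Odd r) (hV : Nat.card V = 2 ^ r)
    (h2 : ∀ v : V, v + v = 0) {S : Set (AddMonoid.End V)} (hcomm : ∀ f ∈ S, ∀ g ∈ S, f * g = g * f)
    (htrans : ∀ v : V, v ≠ 0 → ∀ w : V, w ≠ 0 → ∃ f ∈ S, f v = w) {c : AddMonoid.End V} (hc : c ∈ S)
    (hc1 : c ≠ 1) (Γ : P →+ P) {o : ℕ} (ho : Odd o) (hΓo : ∀ p, (⇑Γ)^[o] p = p)
    (hΓs : ∀ p, s (Γ p) = s p) (hΓB : ∀ p p', B (Γ p) (Γ p') = B p p')
    (hΓz : ∀ p, c (B z (Γ p)) = B z p) :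
    ∃ v : P, s v = 0 ∧ B z v ≠ 0 ∧
      ∀ cc : P, B v cc = 0 → (∀ t, B v t = 0 → B cc t = 0) → cc = 0 ∨ cc = v := by
  classical
  haveI : Fact (Nat.Prime 2) := ⟨Nat.prime_two⟩
  letI : Module (ZMod 2) P := AddCommGroup.zmodModule (fun p => by rw [two_nsmul]; exact h.two p)
  letI : Module (ZMod 2) V := AddCommGroup.zmodModule (fun v => by rw [two_nsmul]; exact h2 v)
  obtain ⟨σ, hσ⟩ := LinearMap.exists_rightInverse_of_surjective ((B z).toZModLinearMap 2)
    (LinearMap.range_eq_top.2 h.onto)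
  have hσ' : ∀ w, B z (σ w) = w := fun w => LinearMap.congr_fun hσ w
  have hodd : ∀ v : V, o • v = v := by
    obtain ⟨k, rfl⟩ := ho
    intro v
    rw [add_nsmul, one_nsmul, mul_nsmul, two_nsmul, h2, nsmul_zero, zero_add]
  have hΓi : ∀ (i : ℕ) p, (⇑c)^[i] (B z ((⇑Γ)^[i] p)) = B z p := by
    intro i
    induction i with
    | zero => intro p; rfl
    | succ i ih =>
      intro p
      rw [Function.iterate_succ_apply, Function.iterate_succ_apply', hΓz, ih]
  have hco : ∀ w, (⇑c)^[o] w = w := fun w => by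
    obtain ⟨p, rfl⟩ := h.onto w
    have := hΓi o p
    rwa [hΓo] at this
  -- the equivariant section
  let sec : V →+ P := ∑ i ∈ range o,
    AddMonoidHom.comp ((show AddMonoid.End P from Γ) ^ i : AddMonoid.End P)
      ((σ.toAddMonoidHom).comp ((c ^ i : AddMonoid.End V) : V →+ V))
  have hsec : ∀ w, sec w = ∑ i ∈ range o, (⇑Γ)^[i] (σ ((⇑c)^[i] w)) := fun w => by
    simp only [sec, AddMonoidHom.finsetSum_apply]
    refine sum_congr rfl fun i _ => ?_
    show ((show AddMonoid.End P from Γ) ^ i : AddMonoid.End P) (σ ((c ^ i : AddMonoid.End V) w)) = _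
    rw [AddMonoid.End.coe_pow, AddMonoid.End.coe_pow]; rfl
  have hcinj : ∀ i, Function.Injective (⇑c)^[i] := fun i =>
    Function.Injective.iterate (Finite.injective_iff_surjective.2 fun w => by
      obtain ⟨p, rfl⟩ := h.onto w
      exact ⟨_, hΓz p⟩) i
  have hτsec : ∀ w, B z (sec w) = w := fun w => by
    rw [hsec, map_sum]
    conv_rhs => rw [← hodd w]
    rw [← card_range o, ← sum_const, card_range]
    refine sum_congr rfl fun i _ => hcinj i ?_
    rw [hΓi, hσ']
  have hsecΓ : ∀ w, Γ (sec (c w)) = sec w := fun w => by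
    rw [hsec, hsec, map_sum]
    have h1 : ∀ i, Γ ((⇑Γ)^[i] (σ ((⇑c)^[i] (c w)))) = (⇑Γ)^[i + 1] (σ ((⇑c)^[i + 1] w)) := fun i => by
      rw [← Function.iterate_succ_apply' (⇑Γ), ← Function.iterate_succ_apply (⇑c)]
    rw [sum_congr rfl fun i _ => h1 i]
    have h3 := sum_range_succ' (fun i => (⇑Γ)^[i] (σ ((⇑c)^[i] w))) o
    rw [sum_range_succ, hΓo, hco] at h3
    exact (add_right_cancel h3).symm
  have hinvar : ∀ p, B z p = 0 → Γ p = p → ∀ w, B p (sec w) = 0 := by
    intro p _ hp w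
    have := InvariantPairing.hom_eq_zero hcomm htrans hc hc1 ((B p).comp sec) (fun u => by
      show B p (sec (c u)) = B p (sec u)
      conv_rhs => rw [← hsecΓ u]
      conv_lhs => rw [← hΓB p (sec (c u)), hp])
    exact DFunLike.congr_fun this w
  have hβ : ∀ w w', B (sec w) (sec w') = 0 := by
    have := InvariantPairing.eq_zero_of_invariant hcomm htrans hr hV h2 hc hc1
      (((AddMonoidHom.flip (B.comp sec)).comp sec).flip) (fun w w' => by
        show B (sec (c w)) (sec (c w')) = B (sec w) (sec w')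
        conv_rhs => rw [← hsecΓ w, ← hsecΓ w']
        rw [hΓB])
    intro w w'
    exact DFunLike.congr_fun (DFunLike.congr_fun this w) w'
  have hΦ : ∀ w, s (sec w) = 0 := by
    have hadd : ∀ w w', s (sec (w + w')) = s (sec w) + s (sec w') := fun w w' => by
      rw [map_add, h.polar, hβ, add_zero]
    have := InvariantPairing.hom_eq_zero hcomm htrans hc hc1
      (AddMonoidHom.mk' (fun w => s (sec w)) hadd) (fun u => by
        show s (sec (c u)) = s (sec u)
        conv_rhs => rw [← hsecΓ u, hΓs])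
    exact fun w => DFunLike.congr_fun this w
  -- the fixed representatives
  have hfix : ∀ p, B z p = 0 → ∃ p0, Γ p0 = p0 ∧ B z p0 = 0 ∧ p + p0 ∈ Nb := by
    intro p hp
    refine ⟨∑ i ∈ range o, (⇑Γ)^[i] p, ?_, ?_, ?_⟩
    · have h3 := sum_range_succ' (fun i => (⇑Γ)^[i] p) o
      rw [sum_range_succ, hΓo] at h3
      rw [map_sum, sum_congr rfl fun i _ => (Function.iterate_succ_apply' (⇑Γ) i p).symm]
      exact (add_right_cancel h3).symm
    · rw [map_sum]
      refine sum_eq_zero fun i _ => hcinj i ?_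
      rw [hΓi, hp, iterate_map_zero (c : V →+ V)]
    · have hpo : o • p = p := by
        obtain ⟨k, rfl⟩ := ho
        rw [add_nsmul, one_nsmul, mul_nsmul, two_nsmul, h.two, nsmul_zero, zero_add]
      conv => arg 2; arg 1; rw [← hpo, ← card_range o, ← sum_const]
      rw [← sum_add_distrib]
      refine AddSubgroup.sum_mem _ fun i _ => h.sq_inj _ _ hp (hcinj i ?_) ?_
      · rw [hΓi, hp, iterate_map_zero (c : V →+ V)]
      · induction i with
        | zero => rfl
        | succ i ih => rw [Function.iterate_succ_apply', hΓs, ih (mem_range.2 (by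
            have := mem_range.1 (‹i + 1 ∈ range o›); omega))]
  obtain ⟨x, hx, hxN⟩ := h.ex
  obtain ⟨x0, hx0f, hx0z, hx0N⟩ := hfix x hx
  have hx0 : x0 ∉ Nb := fun e => hxN (by
    have := add_mem hx0N e
    rwa [add_assoc, h.two, add_zero] at this)
  set X := s x0 with hX
  set y := sec X with hy
  have hX0 : X ≠ 0 := fun e => hx0 (by
    have := h.sq_inj x0 0 hx0z (map_zero _) (by rw [← hX, e, h.nb_sq 0 (zero_mem _)])
    rwa [add_zero] at this)
  have hzz : B z z = 0 := h.alt z
  have hzv : B z (x0 + z + y) = X := by rw [map_add, map_add, hx0z, hzz, hy, hτsec, zero_add, zero_add]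
  refine ⟨x0 + z + y, ?_, by rwa [hzv], fun cc hcc hcen => ?_⟩
  · rw [h.polar, h.polar, h.nb_sq z h.z_mem, hy, hΦ, map_add, AddMonoidHom.add_apply,
      hinvar x0 hx0z hx0f, hτsec, h.symm x0 z, hx0z, ← hX]
    simp only [add_zero, zero_add, h2]
  -- the centre
  set w' := B z cc with hw'
  have ha : B z (cc + sec w') = 0 := by rw [map_add, hτsec, ← hw', h2]
  obtain ⟨p0, hp0f, hp0z, hp0N⟩ := hfix _ ha
  set n := cc + sec w' + p0 with hn
  have hccEq : cc = p0 + n + sec w' := by
    rw [hn]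
    calc cc = cc + (sec w' + sec w') + (p0 + p0) := by rw [h.two, h.two, add_zero, add_zero]
      _ = _ := by abel
  have hpq : ∀ p p' : P, B z p = 0 → B z p' = 0 → ∀ n' ∈ Nb, ∀ n'' ∈ Nb,
      Γ p = p → Γ p' = p' → ∀ u u' : V,
      B (p + n' + sec u) (p' + n'' + sec u') = B p p' + B n' (sec u') + B n'' (sec u) := by
    intro p p' hp hp' n' hn' n'' hn'' hpf hp'f u u'
    simp only [map_add, AddMonoidHom.add_apply]
    rw [hinvar p hp hpf, hβ, h.symm (sec u) p', hinvar p' hp' hp'f, h.symm p n'', h.nb_orth n'' hn'' p hp,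
      h.nb_orth n' hn' p' hp', h.nb_orth n' hn' n'' (h.nb_ker n'' hn''), h.symm (sec u) n'']
    abel
  -- test with z + y
  have hΓ0 : Γ 0 = 0 := map_zero Γ
  have h0z : B z 0 = 0 := map_zero _
  have hv1 : B (x0 + z + y) (0 + z + sec X) = 0 := by
    rw [hy, hpq x0 0 hx0z h0z z h.z_mem z h.z_mem hx0f hΓ0, map_zero, zero_add, hτsec, h2]
  have e1 := hcen _ hv1
  rw [hccEq, hpq p0 0 hp0z h0z n hp0N z h.z_mem hp0f hΓ0, map_zero, zero_add, hτsec] at e1
  rw [hccEq, hy, hpq x0 p0 hx0z hp0z z h.z_mem n hp0N hx0f hp0f, hτsec, add_assoc,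
    add_comm w' (B n (sec X)), e1, add_zero] at hcc
  -- test with the fixed representatives
  have e2 : ∀ p', B z p' = 0 → Γ p' = p' → B p0 p' + B n (sec (B x0 p')) = 0 := by
    intro p' hp' hp'f
    have hv2 : B (x0 + z + y) (p' + 0 + sec (B x0 p')) = 0 := by
      rw [hy, hpq x0 p' hx0z hp' z h.z_mem 0 (zero_mem _) hx0f hp'f, hτsec, map_zero,
        AddMonoidHom.zero_apply, add_zero, h2]
    have e := hcen _ hv2
    rwa [hccEq, hpq p0 p' hp0z hp' n hp0N 0 (zero_mem _) hp0f hp'f, map_zero,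
      AddMonoidHom.zero_apply, add_zero] at e
  obtain ⟨x', hx'z, hx'⟩ := h.big x0 hx0z hx0
  obtain ⟨p', hp'f, hp'z, hp'N⟩ := hfix x' hx'z
  have hxp : B x0 p' ≠ 0 := by
    have : B x0 (x' + p') = 0 := by rw [h.symm]; exact h.nb_orth _ hp'N _ hx0z
    rw [map_add] at this
    intro e
    rw [e, add_zero] at this
    exact hx' this
  have hninj : ∀ m ∈ Nb, B m (sec (B x0 p')) = 0 → m = 0 := fun m hm e => by_contra fun hm0 => by
    have := h.nb_inj m hm hm0 _ e
    rw [hτsec] at this
    exact hxp this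
  rcases h.comm x0 p0 hx0z hp0z hcc hx0 with hp | hp
  · left
    have e3 := e2 p' hp'z hp'f
    rw [h.nb_orth p0 hp p' hp'z, zero_add] at e3
    have hn0 := hninj n hp0N e3
    have hw0 : w' = 0 := by rwa [hn0, map_zero, AddMonoidHom.zero_apply, zero_add] at e1
    -- a fixed element of `Nb` kills the moved members
    have hp00 : p0 = 0 := hninj p0 hp (hinvar p0 hp0z hp0f _)
    rw [hccEq, hn0, hw0, map_zero, hp00, add_zero, add_zero]
  · right
    have hd : x0 + p0 = 0 := hninj _ hp (by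
      rw [map_add, AddMonoidHom.add_apply, hinvar x0 hx0z hx0f, hinvar p0 hp0z hp0f, add_zero])
    have hp0x : p0 = x0 := by
      calc p0 = (x0 + x0) + p0 := by rw [h.two, zero_add]
        _ = x0 := by rw [add_assoc, hd, add_zero]
    subst hp0x
    have e3 := e2 p' hp'z hp'f
    have hn1 : n + z = 0 := hninj _ (add_mem hp0N h.z_mem) (by
      rw [map_add, AddMonoidHom.add_apply, hτsec, add_comm]; exact e3)
    have hnz : n = z := by
      calc n = n + (z + z) := by rw [h.two, add_zero]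
        _ = z := by rw [← add_assoc, hn1, zero_add]
    have hwX : w' = X := by
      rw [hnz, hτsec] at e1
      calc w' = (X + X) + w' := by rw [h2, zero_add]
        _ = X := by rw [add_assoc, e1, add_zero]
    rw [hccEq, hnz, hwX, hy]

end CfsgLib.LocalEven.TIEndgame.SquareCore
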