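import Cfsg.Agent.Lib.LocalEven.TIEndgame.Central.Fam
import Cfsg.Agent.Lib.LocalEven.TIEndgame.Central.FamExists
import Cfsg.Agent.Lib.LocalEven.TIEndgame.Central.SquareCore
import Cfsg.Agent.Lib.LocalEven.TIEndgame.Central.SquareIndex
import Mathlib.GroupTheory.Transfer
import Mathlib.GroupTheory.Nilpotent

/-!
# The Suzuki case: the pair stabiliser in `cW W a` is `N`

For `|Q| = q²` and `|N| ≥ 4`: an element `γ` of odd order of `cW W a` fixing `b` and normalising `N`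
is trivial, as otherwise `cMod W a z` modulo `W a` is elementary and holds the image of a bad
involution whose centraliser has a centre of order two modulo `W a`. So `N` has a normal complement
in the stabiliser, inverted by three involutions, hence trivial.
-/

set_option autoImplicit false
set_option linter.style.haveILetI false

namespace CfsgLib.LocalEven.TIEndgame

open MulAction Subgroup
open scoped commutatorElement

universe u

namespace SquareStab

variable {G Ω : Type u} [Group G] [Finite G] [Finite Ω] [MulAction G Ω] [FaithfulSMul G Ω]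
  {W : Ω → Subgroup G} {a b : Ω} {z : G} {Q N J : Subgroup G}

section Basic

omit [Finite G] [Finite Ω] [FaithfulSMul G Ω] in
theorem comm_right {g h k : G} (hh : h ∈ cW W a) (hk : ⁅g, k⁆ ∈ W a) :
    ⁅g, h * k⁆ = ⁅g, h⁆ * ⁅g, k⁆ := by
  rw [show ⁅g, h * k⁆ = ⁅g, h⁆ * (h * ⁅g, k⁆ * h⁻¹) by simp only [commutatorElement_def]; group,
    mul_inv_eq_iff_eq_mul.2 (SquareTwo.commute_of_mem_cW hh hk).eq]

omit [Finite G] [Finite Ω] [FaithfulSMul G Ω] in
theorem comm_left {g h k : G} (hg : g ∈ cW W a) (hk : ⁅h, k⁆ ∈ W a) (hgk : ⁅g, k⁆ ∈ cW W a) :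
    ⁅g * h, k⁆ = ⁅g, k⁆ * ⁅h, k⁆ := by
  rw [show ⁅g * h, k⁆ = g * ⁅h, k⁆ * g⁻¹ * ⁅g, k⁆ by simp only [commutatorElement_def]; group,
    mul_inv_eq_iff_eq_mul.2 (SquareTwo.commute_of_mem_cW hg hk).eq,
    ← (SquareTwo.commute_of_mem_cW hgk hk).eq]

omit [Finite G] [Finite Ω] [FaithfulSMul G Ω] in
theorem cY_mul_W (g : G) {f : G} (hf : f ∈ W a) : cY W a (g * f) = cY W a g := by
  ext y
  simp only [cY, Subgroup.mem_inf, Subgroup.mem_centralizer_singleton_iff]
  refine and_congr_right fun hy => ?_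
  have hc := (SquareTwo.commute_of_mem_cW (Subgroup.mem_inf.2 hy) hf).eq
  constructor
  · intro e
    calc y * g = y * (g * f) * f⁻¹ := by group
      _ = g * (f * y) * f⁻¹ := by rw [e]; group
      _ = g * y := by rw [← hc]; group
  · intro e
    rw [← mul_assoc, e, mul_assoc, hc, ← mul_assoc]

variable (h : Fam W a b z Q N J)
include h

theorem N_le : N ≤ cY W a z := fun n hn =>
  (Subgroup.mem_inf.1 (show n ∈ cY W a z ⊓ stabilizer G b from h.eq_N ▸ hn)).1

theorem N_fix {n : G} (hn : n ∈ N) : n • b = b := h.pointwise n hn b h.fix_b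

theorem N_le_cMod : N ≤ cMod W a z := (N_le h).trans SquareTwo.cY_le_cMod

theorem N_comm {n m : G} (hn : n ∈ N) (hm : m ∈ N) : Commute n m := by
  have h1 := h.sq_N _ (mul_mem hn hm)
  calc n * m = (n * m)⁻¹ := (inv_eq_of_mul_eq_one_right h1).symm
    _ = m⁻¹ * n⁻¹ := mul_inv_rev n m
    _ = m * n := by
      rw [inv_eq_of_mul_eq_one_right (h.sq_N n hn), inv_eq_of_mul_eq_one_right (h.sq_N m hm)]

theorem comm_N_cY {n g : G} (hn : n ∈ N) (hg : g ∈ cY W a z) : Commute n g := by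
  obtain ⟨x, hx, m, hm, rfl⟩ := h.decomp g hg
  exact (h.comm_Q n hn x hx).mul_right (N_comm h hn hm)

theorem eq_one_of_mem_Q_fix {x : G} (hx : x ∈ Q) (hxb : x • b = b) : x = 1 := by
  have hbpts := h.mem_pts.2 h.fix_b
  obtain ⟨u, -, hu⟩ := h.loc.regular b hbpts h.ne b hbpts h.ne
  exact (hu x ⟨hx, hxb⟩).trans (hu 1 ⟨one_mem _, one_smul _ _⟩).symm

theorem eq_N_of_commute {g : G} (hg : g ∈ cW W a) (hgb : g • b = b) {n : G} (hn : n ∈ N)
    (hn1 : n ≠ 1) (hc : Commute g n) : g ∈ N := by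
  rw [h.eq_N, Subgroup.mem_inf, ← h.cY_eq n hn hn1]
  exact ⟨Subgroup.mem_inf.2 ⟨hg, Subgroup.mem_centralizer_singleton_iff.2 hc.eq⟩,
    mem_stabilizer_iff.2 hgb⟩

theorem W_le_cW : W a ≤ cW W a := fun _ hw =>
  (SquareTwo.Q_le_cY h (SquareTwo.W_le_Q h hw)).1

/-- Equal squares inside `cY` mean equal up to `W a` and `N`. -/
theorem same_square (hsq : Nat.card Q = Nat.card ↥(W a) ^ 2) {y y' : G} (hy : y ∈ cY W a z)
    (hy' : y' ∈ cY W a z) (he : y * y = y' * y') : ∃ w ∈ W a, ∃ n ∈ N, y' = y * (w * n) := by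
  obtain ⟨x, hx, n, hn, rfl⟩ := h.decomp y hy
  obtain ⟨x', hx', n', hn', rfl⟩ := h.decomp y' hy'
  have hs : ∀ x n : G, x ∈ Q → n ∈ N → x * n * (x * n) = x * x := fun x n hx hn => by
    rw [show x * n * (x * n) = x * (n * x) * n by group, (h.comm_Q n hn x hx).eq,
      show x * (x * n) * n = x * x * (n * n) by group, h.sq_N n hn, mul_one]
  rw [hs x n hx hn, hs x' n' hx' hn'] at he
  have hw := SquareTwo.square_inj h hsq hx hx' he
  refine ⟨_, hw, n⁻¹ * n', mul_mem (inv_mem hn) hn', ?_⟩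
  have hc : Commute n (x⁻¹ * x') := h.comm_Q n hn _ (mul_mem (inv_mem hx) hx')
  rw [mul_assoc x n, ← mul_assoc n, hc.eq]
  group

theorem square_mul_WN {y w n : G} (hy : y ∈ cY W a z) (hw : w ∈ W a) (hn : n ∈ N) :
    y * (w * n) * (y * (w * n)) = y * y := by
  have h1 : Commute (w * n) y :=
    ((SquareTwo.commute_of_mem_cW hy.1 hw).symm).mul_left (comm_N_cY h hn hy)
  have h2 : w * n * (w * n) = 1 := by
    rw [show w * n * (w * n) = w * (n * w) * n by group,
      (SquareTwo.commute_of_mem_cW (N_le h hn).1 hw).eq,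
      show w * (w * n) * n = w * w * (n * n) by group, h.sq_N n hn, mul_one, SquareTwo.sq_W h hw]
  rw [show y * (w * n) * (y * (w * n)) = y * ((w * n) * y) * (w * n) by group, h1.eq,
    show y * (y * (w * n)) * (w * n) = y * y * (w * n * (w * n)) by group, h2, mul_one]

theorem sq_mem_cY {g : G} (hg : g ∈ cMod W a z) : g * g ∈ cY W a z := by
  rw [← SquareTwo.tau_eq_one_iff (mul_mem (SquareTwo.cMod_le_cW hg) (SquareTwo.cMod_le_cW hg)),
    SquareTwo.tau_mul hg hg]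
  exact SquareTwo.sq_W h (SquareTwo.mem_cMod.1 hg).2

omit [Finite G] [Finite Ω] [FaithfulSMul G Ω] h in
theorem conj_mem_cY {g y : G} (hg : g ∈ cMod W a z) (hy : y ∈ cY W a z) :
    g * y * g⁻¹ ∈ cY W a z := by
  have hy' := SquareTwo.cY_le_cMod hy
  rw [← SquareTwo.tau_eq_one_iff
      (mul_mem (mul_mem (SquareTwo.cMod_le_cW hg) hy.1) (inv_mem (SquareTwo.cMod_le_cW hg))),
    SquareTwo.tau_mul (mul_mem hg hy') (inv_mem hg), SquareTwo.tau_mul hg hy',
    (SquareTwo.tau_eq_one_iff hy.1).2 hy, mul_one, ← SquareTwo.tau_mul hg (inv_mem hg),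
    mul_inv_cancel, commutatorElement_one_right]

theorem square_cY_mem {y : G} (hy : y ∈ cY W a z) : y * y ∈ W a := by
  obtain ⟨x, hx, n, hn, rfl⟩ := h.decomp y hy
  rw [show x * n * (x * n) = x * (n * x) * n by group, (h.comm_Q n hn x hx).eq,
    show x * (x * n) * n = x * x * (n * n) by group, h.sq_N n hn, mul_one]
  exact h.loc.sq_mem x hx

theorem comm_cY_mem {y y' : G} (hy : y ∈ cY W a z) (hy' : y' ∈ cY W a z) : ⁅y, y'⁆ ∈ W a := by
  have h1 := square_cY_mem h (mul_mem hy hy')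
  have h2 := square_cY_mem h hy
  have h3 := square_cY_mem h hy'
  have hc : Commute (y * y)⁻¹ y' := (SquareTwo.commute_of_mem_cW hy'.1 (inv_mem h2)).symm
  rw [show ⁅y, y'⁆ = y * y' * y * ((y * y)⁻¹ * y') * (y' * y')⁻¹ by
      simp only [commutatorElement_def]; group, hc.eq,
    show y * y' * y * (y' * (y * y)⁻¹) * (y' * y')⁻¹ =
      y * y' * (y * y') * (y * y)⁻¹ * (y' * y')⁻¹ by group]
  exact mul_mem (mul_mem h1 (inv_mem h2)) (inv_mem h3)

/-- Modulo `W a`, elements of `cY` differing by `W a` and `N` differ by `N`. -/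
theorem mem_Q_of_fix {x n : G} (hx : x ∈ Q) (hn : n ∈ N) (hw : x * n ∈ W a) : n = 1 ∧ x ∈ W a := by
  have hxx : x⁻¹ * (x * n) ∈ Q := mul_mem (inv_mem hx) (SquareTwo.W_le_Q h hw)
  rw [inv_mul_cancel_left] at hxx
  have := eq_one_of_mem_Q_fix h hxx (N_fix h hn)
  subst this
  exact ⟨rfl, by rwa [mul_one] at hw⟩

/-- Off `W a` some element of `Q` does not commute. -/
theorem exists_not_commute (hsq : Nat.card Q = Nat.card ↥(W a) ^ 2) {x : G} (hx : x ∈ Q)
    (hxW : x ∉ W a) : ∃ y ∈ Q, ¬ Commute x y := by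
  by_contra hcon
  push Not at hcon
  have h1 := SquareTwo.card_Q_le h hsq hx hxW ⊤ fun y _ => hcon y y.2
  rw [Subgroup.card_top, hsq] at h1
  have := SquareTwo.eight_le h hsq
  nlinarith

end Basic

section Main

variable (h : Fam W a b z Q N J)
  (hsq : Nat.card Q = Nat.card ↥(W a) ^ 2) (hshift : Shift W a z)
  (hscal : ∀ n ∈ N, n ≠ 1 → ∃ j ∈ J, ∀ g ∈ cMod W a z, ⁅n, g⁆ = j * ⁅z, g⁆ * j⁻¹)
  (hloc : LocTorus W)
  (hphi : ∀ x : G, IsBad Ω x → Nat.card (fixedBy Ω x) = Nat.card (fixedBy Ω z))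
  (hmul : ∀ x : G, ∀ c : Ω, IsBad Ω x → x • c = c → ∀ r ∈ W c, IsBad Ω (x * r))
  (hN : 4 ≤ Nat.card N)
include h hsq hshift hscal hloc hphi hmul hN

/-- An element of odd order fixing `b` and normalising `N` is trivial. -/
theorem eq_one_of_odd {γ : G} (hγW : γ ∈ cW W a) (hγb : γ • b = b) (hodd : Odd (orderOf γ))
    (hγN : ∀ n ∈ N, γ * n * γ⁻¹ ∈ N) : γ = 1 := by
  classical
  by_contra hγ1
  have hS := h.setting.toTISetting
  have hz1 : z ≠ 1 := fun e => by
    have := h.bad.1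
    rw [e, orderOf_one] at this
    omega
  set P := cMod W a z with hPdef
  have hPW : P ≤ cW W a := SquareTwo.cMod_le_cW
  have hzY : z ∈ cY W a z := N_le h h.mem_N
  have hzP : z ∈ P := SquareTwo.cY_le_cMod hzY
  have hWP : W a ≤ P := SquareTwo.W_le_cMod h
  have hW1 : ∀ {w : G}, w ∈ W a → γ * w * γ⁻¹ = w := fun {w} hw =>
    mul_inv_eq_iff_eq_mul.2 (SquareTwo.commute_of_mem_cW hγW hw).eq
  set n₁ := γ * z * γ⁻¹ with hn₁def
  have hn₁ : n₁ ∈ N := hγN z h.mem_N
  have hn₁1 : n₁ ≠ 1 := fun e => hz1 (conj_eq_one_iff.1 e)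
  have hn₁z : n₁ ≠ z := fun e => by
    have hγN' := eq_N_of_commute h hγW hγb h.mem_N hz1
      (show Commute γ z from mul_inv_eq_iff_eq_mul.1 e)
    have h1 : orderOf γ ∣ 2 := orderOf_dvd_of_pow_eq_one (by rw [pow_two]; exact h.sq_N γ hγN')
    rcases (Nat.dvd_prime Nat.prime_two).1 h1 with e1 | e1
    · exact hγ1 (orderOf_eq_one_iff.1 e1)
    · rw [e1] at hodd
      exact absurd hodd (by decide)
  obtain ⟨j, hj, hjs⟩ := hscal n₁ hn₁ hn₁1
  have hjW : ∀ {w : G}, w ∈ W a → j * w * j⁻¹ ∈ W a := fun {w} hw => by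
    have := hS.conj j a w hw
    rwa [mem_stabilizer_iff.1 (Subgroup.mem_inf.1 (Subgroup.mem_inf.1 (h.torus.le hj)).1).2] at this
  have hj1 : j ≠ 1 := fun e => by
    obtain ⟨⟨f, hf⟩, hf1⟩ := (Subgroup.ne_bot_iff_exists_ne_one).1 (hS.ne_bot a)
    obtain ⟨g, hg, hgf⟩ := hshift f hf
    have hgP : g ∈ P := SquareTwo.mem_cMod.2 ⟨hg, hgf ▸ hf⟩
    have hnz : n₁ * z ≠ 1 := fun e1 => hn₁z (by
      rw [mul_eq_one_iff_eq_inv.1 e1, inv_eq_of_mul_eq_one_right (h.sq_N z h.mem_N)])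
    have h1 : ⁅n₁ * z, g⁆ = 1 := by
      rw [comm_left (N_le h hn₁).1 (hgf ▸ hf)
        (by rw [hjs g hgP, e, one_mul, inv_one, mul_one, hgf]; exact W_le_cW h hf),
        hjs g hgP, e, one_mul, inv_one, mul_one, hgf]
      exact SquareTwo.sq_W h hf
    have hgA : g ∈ cY W a z := by
      rw [← h.cY_eq _ (mul_mem hn₁ h.mem_N) hnz]
      exact ⟨hg, Subgroup.mem_centralizer_singleton_iff.2
        (commutatorElement_eq_one_iff_mul_comm.1 h1).symm⟩
    have := (SquareTwo.tau_eq_one_iff hg).2 hgA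
    exact hf1 (Subtype.ext (hgf.symm.trans this))
  -- `γ` normalises `P`
  have hzγ : z = γ⁻¹ * n₁ * γ := by rw [hn₁def]; group
  have hconj : ∀ g ∈ P, γ * g * γ⁻¹ ∈ P := by
    have hfwd : ∀ g ∈ P, γ⁻¹ * g * γ ∈ P := fun g hg => SquareTwo.mem_cMod.2
      ⟨mul_mem (mul_mem (inv_mem hγW) (hPW hg)) hγW, by
        have h1 : ⁅n₁, g⁆ ∈ W a := by
          rw [hjs g hg]; exact hjW (SquareTwo.mem_cMod.1 hg).2
        rw [show ⁅z, γ⁻¹ * g * γ⁆ = γ⁻¹ * ⁅n₁, g⁆ * γ by
          conv_lhs => rw [hzγ]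
          simp only [commutatorElement_def]; group]
        rw [mul_assoc, (SquareTwo.commute_of_mem_cW hγW h1).symm.eq, inv_mul_cancel_left]
        exact h1⟩
    intro g hg
    obtain ⟨⟨g', hg'⟩, he⟩ := (Finite.injective_iff_surjective.1
      (fun x y e => Subtype.ext (by simpa using congrArg Subtype.val e) :
        Function.Injective fun x : P => (⟨γ⁻¹ * x * γ, hfwd x x.2⟩ : P))) ⟨g, hg⟩
    have he' : γ⁻¹ * g' * γ = g := congrArg Subtype.val he
    rw [← he', show γ * (γ⁻¹ * g' * γ) * γ⁻¹ = g' by group]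
    exact hg'
  have hτ : ∀ g ∈ P, j * ⁅z, γ * g * γ⁻¹⁆ * j⁻¹ = ⁅z, g⁆ := fun g hg => by
    rw [← hjs _ (hconj g hg), show ⁅n₁, γ * g * γ⁻¹⁆ = γ * ⁅z, g⁆ * γ⁻¹ by
      simp only [hn₁def, commutatorElement_def]; group]
    exact hW1 (SquareTwo.mem_cMod.1 hg).2
  have hjz : Commute j z :=
    (h.commute_of_mem_core (Subgroup.mem_inf.1 (Subgroup.mem_inf.1 (h.torus.le hj)).1).1).symm
  have hja : j • a = a :=
    mem_stabilizer_iff.1 (Subgroup.mem_inf.1 (Subgroup.mem_inf.1 (h.torus.le hj)).1).2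
  have hjP : ∀ g ∈ P, j * g * j⁻¹ ∈ P := fun g hg => by
    have hgW := hPW hg
    have hmem : j * g * j⁻¹ ∈ cW W a := by
      refine Subgroup.mem_inf.2 ⟨?_, Subgroup.mem_centralizer_iff.2 fun w hw => ?_⟩
      · rw [mem_stabilizer_iff, mul_smul, mul_smul, inv_smul_eq_iff.2 hja.symm,
          mem_stabilizer_iff.1 hgW.1, hja]
      · have hw' : j⁻¹ * w * j ∈ W a := by
          have := hS.conj j⁻¹ a w hw
          rwa [inv_smul_eq_iff.2 hja.symm, inv_inv] at this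
        calc w * (j * g * j⁻¹) = j * ((j⁻¹ * w * j) * g) * j⁻¹ := by group
          _ = j * (g * (j⁻¹ * w * j)) * j⁻¹ := by
            rw [(SquareTwo.commute_of_mem_cW hgW hw').eq]
          _ = j * g * j⁻¹ * w := by group
    refine SquareTwo.mem_cMod.2 ⟨hmem, ?_⟩
    rw [show ⁅z, j * g * j⁻¹⁆ = j * ⁅j⁻¹ * z * j, g⁆ * j⁻¹ by
      simp only [commutatorElement_def]; group, hjz.inv_left.eq, inv_mul_cancel_right]
    exact hjW (SquareTwo.mem_cMod.1 hg).2
  -- squares of `P` lie in `W a * N`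
  have hSQ : ∀ g ∈ P, g * g * (g * g) = 1 := by
    intro g hg
    set s := g * g with hs
    have hsY := sq_mem_cY h hg
    set g' := γ * g * γ⁻¹ with hg'def
    have hg' := hconj g hg
    have hjg' := hjP g' hg'
    have hτj : ⁅z, j * g' * j⁻¹⁆ = ⁅z, g⁆ := by
      rw [show ⁅z, j * g' * j⁻¹⁆ = j * ⁅j⁻¹ * z * j, g'⁆ * j⁻¹ by
        simp only [commutatorElement_def]; group, hjz.inv_left.eq, inv_mul_cancel_right]
      exact hτ g hg
    set y := g⁻¹ * (j * g' * j⁻¹) with hy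
    have hyY : y ∈ cY W a z := by
      rw [← SquareTwo.tau_eq_one_iff (mul_mem (inv_mem (hPW hg)) (hPW hjg')),
        SquareTwo.tau_mul (inv_mem hg) hjg', hτj, ← SquareTwo.tau_mul (inv_mem hg) hg,
        inv_mul_cancel, commutatorElement_one_right]
    have hconjy := conj_mem_cY (inv_mem hg) hyY
    rw [inv_inv] at hconjy
    have hsame : g⁻¹ * y * g * (g⁻¹ * y * g) = y * y := by
      have h2 := SquareTwo.commute_of_mem_cW (hPW hg) (square_cY_mem h hyY)
      calc g⁻¹ * y * g * (g⁻¹ * y * g) = g⁻¹ * ((y * y) * g) := by group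
        _ = y * y := by rw [← h2.eq, inv_mul_cancel_left]
    obtain ⟨w, hw, n, hn, hu⟩ := same_square h hsq hyY hconjy hsame.symm
    have key : j * g' * j⁻¹ * (j * g' * j⁻¹) = s * (g⁻¹ * y * g * y) := by
      rw [show j * g' * j⁻¹ = g * y by rw [hy, mul_inv_cancel_left], hs]; group
    obtain ⟨w', hw', n', hn', hv⟩ : ∃ w' ∈ W a, ∃ n' ∈ N, g⁻¹ * y * g * y = w' * n' := by
      refine ⟨y * y * w, mul_mem (square_cY_mem h hyY) hw, n, hn, ?_⟩
      rw [hu]
      have hc : Commute (w * n) y :=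
        ((SquareTwo.commute_of_mem_cW hyY.1 hw).symm).mul_left (comm_N_cY h hn hyY)
      rw [mul_assoc y, hc.eq]; group
    have h1 : j * (g' * g') * j⁻¹ * (j * (g' * g') * j⁻¹) = s * s := by
      rw [show j * (g' * g') * j⁻¹ = j * g' * j⁻¹ * (j * g' * j⁻¹) by group, key, hv]
      exact square_mul_WN h hsY hw' hn'
    have h2 : g' * g' * (g' * g') = s * s := by
      rw [hg'def, show γ * g * γ⁻¹ * (γ * g * γ⁻¹) * (γ * g * γ⁻¹ * (γ * g * γ⁻¹)) =
        γ * (s * s) * γ⁻¹ by rw [hs]; group]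
      exact hW1 (square_cY_mem h hsY)
    rw [show j * (g' * g') * j⁻¹ * (j * (g' * g') * j⁻¹) = j * (g' * g' * (g' * g')) * j⁻¹ by group,
      h2] at h1
    by_contra hne
    exact hj1 (h.torus_free hj (square_cY_mem h hsY) hne (mul_inv_eq_iff_eq_mul.1 h1))
  have hsqWN : ∀ g ∈ P, ∃ w ∈ W a, ∃ n ∈ N, g * g = w * n := by
    intro g hg
    obtain ⟨x, hx, n, hn, he⟩ := h.decomp _ (sq_mem_cY h hg)
    refine ⟨x, h.loc.invol x hx ?_, n, hn, he⟩
    have := hSQ g hg
    rw [he, show x * n * (x * n) = x * (n * x) * n by group, (h.comm_Q n hn x hx).eq,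
      show x * (x * n) * n = x * x * (n * n) by group, h.sq_N n hn, mul_one] at this
    exact this
  have hnW : ∀ n ∈ N, n ≠ 1 → ∀ g ∈ P, ⁅n, g⁆ ∈ W a := fun n hn hn1 g hg => by
    obtain ⟨i, hi, his⟩ := hscal n hn hn1
    rw [his g hg]
    have := hS.conj i a _ (SquareTwo.mem_cMod.1 hg).2
    rwa [mem_stabilizer_iff.1 (Subgroup.mem_inf.1 (Subgroup.mem_inf.1 (h.torus.le hi)).1).2] at this
  have hninj : ∀ n ∈ N, n ≠ 1 → ∀ g ∈ P, ⁅n, g⁆ = 1 → g ∈ cY W a z := fun n hn hn1 g hg he => by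
    rw [← h.cY_eq n hn hn1]
    exact ⟨hPW hg, Subgroup.mem_centralizer_singleton_iff.2
      (commutatorElement_eq_one_iff_mul_comm.1 he).symm⟩
  have hsqW : ∀ g ∈ P, g * g ∈ W a := by
    intro g hg
    obtain ⟨w, hw, n, hn, he⟩ := hsqWN g hg
    by_cases hn1 : n = 1
    · rw [he, hn1, mul_one]; exact hw
    have hc : Commute g (w * n) := he ▸ (Commute.refl g).mul_right (Commute.refl g)
    have hc' : Commute g n := by
      have := ((SquareTwo.commute_of_mem_cW (hPW hg) hw).inv_right).mul_right hc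
      rwa [inv_mul_cancel_left] at this
    exact square_cY_mem h (hninj n hn hn1 g hg
      (commutatorElement_eq_one_iff_mul_comm.2 hc'.eq.symm))
  have hcommW : ∀ g ∈ P, ∀ g' ∈ P, ⁅g, g'⁆ ∈ W a := by
    intro g hg g' hg'
    have hc : Commute (g * g)⁻¹ g' :=
      (SquareTwo.commute_of_mem_cW (hPW hg') (inv_mem (hsqW g hg))).symm
    rw [show ⁅g, g'⁆ = g * g' * g * ((g * g)⁻¹ * g') * (g' * g')⁻¹ by
        simp only [commutatorElement_def]; group, hc.eq,
      show g * g' * g * (g' * (g * g)⁻¹) * (g' * g')⁻¹ =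
        g * g' * (g * g') * (g * g)⁻¹ * (g' * g')⁻¹ by group]
    exact mul_mem (mul_mem (hsqW _ (mul_mem hg hg')) (inv_mem (hsqW g hg))) (inv_mem (hsqW g' hg'))
  have hcm : ∀ g ∈ P, ∀ g' ∈ P, ⁅g', g⁆ = ⁅g, g'⁆ := fun g hg g' hg' => by
    rw [← commutatorElement_inv, inv_eq_of_mul_eq_one_right (SquareTwo.sq_W h (hcommW g hg g' hg'))]
  have hright : ∀ g ∈ P, ∀ g' ∈ P, ∀ g'' ∈ P, ⁅g, g' * g''⁆ = ⁅g, g'⁆ * ⁅g, g''⁆ :=
    fun g hg g' hg' g'' hg'' => comm_right (hPW hg') (hcommW g hg g'' hg'')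
  -- the quotient by `W a`
  let K : Subgroup ↥P := (W a).subgroupOf P
  haveI hKn : K.Normal := ⟨fun k hk g => by
    rw [Subgroup.mem_subgroupOf] at hk ⊢
    rw [Subgroup.coe_mul, Subgroup.coe_mul, Subgroup.coe_inv,
      mul_inv_eq_iff_eq_mul.2 (SquareTwo.commute_of_mem_cW (hPW g.2) hk).eq]
    exact hk⟩
  letI : CommGroup (↥P ⧸ K) :=
    { (inferInstance : Group (↥P ⧸ K)) with
      mul_comm := fun x y => by
        induction x using QuotientGroup.induction_on with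
        | _ g =>
          induction y using QuotientGroup.induction_on with
          | _ g' =>
            rw [← QuotientGroup.mk_mul, ← QuotientGroup.mk_mul, QuotientGroup.eq]
            show ((g : G) * g')⁻¹ * ((g' : G) * g) ∈ W a
            have h1 := hcommW _ (inv_mem g'.2) _ (inv_mem g.2)
            rw [show ((g : G) * g')⁻¹ * (g' * g) = ⁅(g' : G)⁻¹, (g : G)⁻¹⁆ by
              simp only [commutatorElement_def]; group]
            exact h1 }
  letI : CommGroup ↥(W a) :=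
    { (inferInstance : Group ↥(W a)) with
      mul_comm := fun x y =>
        Subtype.ext (SquareTwo.commute_of_mem_cW (W_le_cW h x.2) y.2).eq }
  let mk : ↥P → Additive (↥P ⧸ K) := fun g => Additive.ofMul (QuotientGroup.mk g)
  have hmk_mul : ∀ g g' : P, mk (g * g') = mk g + mk g' := fun _ _ => rfl
  have hmk_eq : ∀ g g' : P, mk g = mk g' → ∃ w ∈ W a, (g' : G) = g * w := fun g g' e => by
    refine ⟨(g : G)⁻¹ * g', ?_, by rw [mul_inv_cancel_left]⟩
    have := QuotientGroup.eq.1 (Additive.ofMul.injective e)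
    exact this
  have hmk_w : ∀ g : P, (g : G) ∈ W a → mk g = 0 := fun g hg => by
    show Additive.ofMul (QuotientGroup.mk g) = 0
    rw [(QuotientGroup.eq_one_iff g).2 hg]; rfl
  have hmk_surj : ∀ p, ∃ g, mk g = p := fun p => by
    obtain ⟨g, hg⟩ := QuotientGroup.mk_surjective (Additive.toMul p)
    exact ⟨g, by simp only [mk, hg, ofMul_toMul]⟩
  have hone : ∀ g ∈ P, ∀ w ∈ W a, ⁅g, w⁆ = 1 := fun g hg w hw =>
    commutatorElement_eq_one_iff_mul_comm.2 (SquareTwo.commute_of_mem_cW (hPW hg) hw).eq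
  let B0 : (↥P ⧸ K) → (↥P ⧸ K) → ↥(W a) := fun x y => Quotient.liftOn₂' x y
    (fun g g' => ⟨⁅(g : G), (g' : G)⁆, hcommW g g.2 g' g'.2⟩) (by
    intro g₁ g₂ g₁' g₂' e₁ e₂
    rw [QuotientGroup.leftRel_apply, Subgroup.mem_subgroupOf] at e₁ e₂
    refine Subtype.ext ?_
    have e₁' : (g₁' : G) = g₁ * ((g₁⁻¹ * g₁' : P) : G) := by simp
    have e₂' : (g₂' : G) = g₂ * ((g₂⁻¹ * g₂' : P) : G) := by simp
    show ⁅(g₁ : G), (g₂ : G)⁆ = ⁅(g₁' : G), (g₂' : G)⁆
    rw [e₁', e₂', hright _ (mul_mem g₁.2 (SetLike.coe_mem _)) _ g₂.2 _ (SetLike.coe_mem _),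
      hone _ (mul_mem g₁.2 (SetLike.coe_mem _)) _ e₂, mul_one,
      hcm _ g₂.2 _ (mul_mem g₁.2 (SetLike.coe_mem _)),
      hright _ g₂.2 _ g₁.2 _ (SetLike.coe_mem _), hone _ g₂.2 _ e₁, mul_one, hcm _ g₁.2 _ g₂.2])
  have hB0 : ∀ g g' : P, (B0 (QuotientGroup.mk g) (QuotientGroup.mk g') : G) = ⁅(g : G), (g' : G)⁆ :=
    fun _ _ => rfl
  let B : Additive (↥P ⧸ K) →+ Additive (↥P ⧸ K) →+ Additive ↥(W a) :=
    AddMonoidHom.mk' (fun p => AddMonoidHom.mk'
        (fun p' => Additive.ofMul (B0 (Additive.toMul p) (Additive.toMul p'))) (fun p₁ p₂ => by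
          obtain ⟨g, rfl⟩ := hmk_surj p
          obtain ⟨g₁, rfl⟩ := hmk_surj p₁
          obtain ⟨g₂, rfl⟩ := hmk_surj p₂
          exact congrArg Additive.ofMul (Subtype.ext (hright g g.2 g₁ g₁.2 g₂ g₂.2))))
      (fun p₁ p₂ => AddMonoidHom.ext fun p => by
        obtain ⟨g, rfl⟩ := hmk_surj p
        obtain ⟨g₁, rfl⟩ := hmk_surj p₁
        obtain ⟨g₂, rfl⟩ := hmk_surj p₂
        refine congrArg Additive.ofMul (Subtype.ext ?_)
        show ⁅((g₁ * g₂ : P) : G), (g : G)⁆ = ⁅(g₁ : G), (g : G)⁆ * ⁅(g₂ : G), (g : G)⁆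
        rw [Subgroup.coe_mul, hcm _ g.2 _ (mul_mem g₁.2 g₂.2), hcm _ g.2 _ g₁.2, hcm _ g.2 _ g₂.2]
        exact hright g g.2 g₁ g₁.2 g₂ g₂.2)
  have hB : ∀ g g' : P, B (mk g) (mk g') = Additive.ofMul ⟨⁅(g : G), (g' : G)⁆, hcommW g g.2 g' g'.2⟩ :=
    fun _ _ => rfl
  have hB0' : ∀ g g' : P, B (mk g) (mk g') = 0 ↔ ⁅(g : G), (g' : G)⁆ = 1 := fun g g' => by
    rw [hB]
    exact ⟨fun e => congrArg (fun v : Additive ↥(W a) => ((Additive.toMul v : ↥(W a)) : G)) e,
      fun e => congrArg Additive.ofMul (Subtype.ext e)⟩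
  have hsqgen : ∀ g ∈ P, ∀ g' ∈ P, g * g' * (g * g') = g * g * (g' * g') * ⁅g, g'⁆ := by
    intro g hg g' hg'
    have h1 : ⁅g⁻¹, g'⁆ = ⁅g, g'⁆ := by
      have e1 : ⁅g', g⁻¹⁆ = ⁅g', g⁆ := by
        have e2 := hright g' hg' g⁻¹ (inv_mem hg) g hg
        rw [inv_mul_cancel, commutatorElement_one_right] at e2
        rw [mul_eq_one_iff_eq_inv.1 e2.symm,
          inv_eq_of_mul_eq_one_right (SquareTwo.sq_W h (hcommW g' hg' g hg))]
      rw [hcm g' hg' g⁻¹ (inv_mem hg), e1, hcm g hg g' hg']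
    have hc := SquareTwo.commute_of_mem_cW (mul_mem (hPW hg') (hPW hg')) (hcommW g hg g' hg')
    calc g * g' * (g * g') = g * g * (⁅g⁻¹, g'⁆ * (g' * g')) := by
          simp only [commutatorElement_def]; group
      _ = g * g * (g' * g') * ⁅g, g'⁆ := by rw [h1, ← hc.eq]; group
  let s : Additive (↥P ⧸ K) → Additive ↥(W a) := fun p => Quotient.liftOn' (Additive.toMul p)
    (fun g => Additive.ofMul (⟨(g : G) * g, hsqW g g.2⟩ : ↥(W a))) (by
    intro g g' e
    rw [QuotientGroup.leftRel_apply, Subgroup.mem_subgroupOf] at e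
    refine congrArg Additive.ofMul (Subtype.ext ?_)
    show (g : G) * g = g' * g'
    have e' : (g' : G) = g * ((g⁻¹ * g' : P) : G) := by simp
    rw [e', hsqgen _ g.2 _ (SetLike.coe_mem _), hone _ g.2 _ e, mul_one, SquareTwo.sq_W h e, mul_one])
  have hs : ∀ g : P, s (mk g) = Additive.ofMul (⟨(g : G) * g, hsqW g g.2⟩ : ↥(W a)) := fun _ => rfl
  let zP : ↥P := ⟨z, hzP⟩
  have hker : ∀ g : P, B (mk zP) (mk g) = 0 ↔ (g : G) ∈ cY W a z := fun g => by
    rw [hB0']; exact SquareTwo.tau_eq_one_iff (hPW g.2)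
  let Nb : AddSubgroup (Additive (↥P ⧸ K)) :=
    { carrier := {p | ∃ g : P, (g : G) ∈ N ∧ mk g = p}
      zero_mem' := ⟨1, one_mem _, rfl⟩
      add_mem' := by
        rintro _ _ ⟨g, hg, rfl⟩ ⟨g', hg', rfl⟩
        exact ⟨g * g', mul_mem hg hg', rfl⟩
      neg_mem' := by
        rintro _ ⟨g, hg, rfl⟩
        exact ⟨g⁻¹, inv_mem hg, rfl⟩ }
  have hQP : ∀ {x : G}, x ∈ Q → x ∈ P := fun {x} hx =>
    SquareTwo.cY_le_cMod (SquareTwo.Q_le_cY h hx)
  have hnot : ∀ g : P, (g : G) ∈ cY W a z → mk g ∉ Nb →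
      ∀ x ∈ Q, ∀ n ∈ N, (g : G) = x * n → x ∉ W a := by
    intro g _ hgN x hx n hn he hxW
    refine hgN ⟨⟨n, N_le_cMod h hn⟩, hn, ?_⟩
    have : g = ⟨x, hQP hx⟩ * ⟨n, N_le_cMod h hn⟩ := Subtype.ext he
    rw [this, hmk_mul, hmk_w ⟨x, hQP hx⟩ hxW, zero_add]
  have hneg : ∀ g : P, mk g + mk g = 0 := fun g => by
    rw [← hmk_mul]
    exact hmk_w _ (hsqW g g.2)
  have hdata : SquareCore.Data B s (mk zP) Nb := by
    refine ⟨fun p => ?_, fun p p' => ?_, fun p => ?_, fun p p' => ?_, ⟨zP, h.mem_N, rfl⟩, fun v => ?_,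
      ?_, ?_, ?_, ?_, ?_, ?_, ?_, ?_⟩
    · obtain ⟨g, rfl⟩ := hmk_surj p; exact hneg g
    · obtain ⟨g, rfl⟩ := hmk_surj p
      obtain ⟨g', rfl⟩ := hmk_surj p'
      exact congrArg Additive.ofMul (Subtype.ext (hsqgen g g.2 g' g'.2))
    · obtain ⟨g, rfl⟩ := hmk_surj p
      rw [hB0']; exact commutatorElement_self _
    · obtain ⟨g, rfl⟩ := hmk_surj p
      obtain ⟨g', rfl⟩ := hmk_surj p'
      exact congrArg Additive.ofMul (Subtype.ext (hcm g' g'.2 g g.2))
    · obtain ⟨g, hg, he⟩ := hshift _ (Additive.toMul v).2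
      refine ⟨mk ⟨g, SquareTwo.mem_cMod.2 ⟨hg, he ▸ (Additive.toMul v).2⟩⟩, ?_⟩
      rw [hB]
      exact congrArg Additive.ofMul (Subtype.ext he)
    · rintro _ ⟨n, hn, rfl⟩
      exact (hker n).2 (N_le h hn)
    · rintro _ ⟨n, hn, rfl⟩ p hp
      obtain ⟨g, rfl⟩ := hmk_surj p
      rw [hB0', commutatorElement_eq_one_iff_mul_comm]
      exact (comm_N_cY h hn ((hker g).1 hp)).eq
    · rintro _ ⟨n, hn, rfl⟩
      rw [hs]
      exact congrArg Additive.ofMul (Subtype.ext (h.sq_N n hn))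
    · rintro _ ⟨n, hn, rfl⟩ hn0 p hp
      obtain ⟨g, rfl⟩ := hmk_surj p
      refine (hker g).2 (hninj n hn (fun e => hn0 ?_) g g.2 ((hB0' n g).1 hp))
      exact hmk_w n (e ▸ one_mem _)
    · intro p p' hp hp' he
      obtain ⟨g, rfl⟩ := hmk_surj p
      obtain ⟨g', rfl⟩ := hmk_surj p'
      rw [hs, hs] at he
      obtain ⟨w, hw, n, hn, hgn⟩ := same_square h hsq ((hker g).1 hp) ((hker g').1 hp')
        (congrArg Subtype.val (Additive.ofMul.injective he))
      refine ⟨⟨n, N_le_cMod h hn⟩, hn, ?_⟩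
      have : g' = g * ⟨w, hWP hw⟩ * ⟨n, N_le_cMod h hn⟩ := Subtype.ext (by simp [hgn, mul_assoc])
      rw [this, hmk_mul, hmk_mul, hmk_w ⟨w, hWP hw⟩ hw, add_zero, ← add_assoc, hneg, zero_add]
    · intro p p' hp hp' hpp hpN
      obtain ⟨g, rfl⟩ := hmk_surj p
      obtain ⟨g', rfl⟩ := hmk_surj p'
      obtain ⟨x, hx, n, hn, hgx⟩ := h.decomp g ((hker g).1 hp)
      obtain ⟨x', hx', n', hn', hgx'⟩ := h.decomp g' ((hker g').1 hp')
      have hxW := hnot g ((hker g).1 hp) hpN x hx n hn hgx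
      have hxx : Commute x x' := by
        have hc := commutatorElement_eq_one_iff_mul_comm.1 ((hB0' g g').1 hpp)
        rw [hgx, hgx'] at hc
        have h1 : Commute n (x' * n') := (h.comm_Q n hn x' hx').mul_right (N_comm h hn hn')
        have h2 : Commute n' x := h.comm_Q n' hn' x hx
        have e : x * x' * (n * n') = x' * x * (n * n') := by
          calc x * x' * (n * n') = x * (x' * n') * n := by
                rw [(N_comm h hn hn').eq]; group
            _ = x * n * (x' * n') := by rw [mul_assoc x (x' * n'), ← h1.eq, ← mul_assoc x n]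
            _ = x' * n' * (x * n) := hc
            _ = x' * x * (n * n') := by
                rw [mul_assoc x', ← mul_assoc n', h2.eq, (N_comm h hn hn').eq]; group
        exact mul_right_cancel e
      rcases h.loc.square_comm (by rw [SquareTwo.inf_centralizer h]; exact hsq) x hx hxW x' hx' hxx
        with h1 | h1
      · left
        refine ⟨⟨n', N_le_cMod h hn'⟩, hn', ?_⟩
        have : g' = ⟨x', hQP hx'⟩ * ⟨n', N_le_cMod h hn'⟩ := Subtype.ext hgx'
        rw [this, hmk_mul, hmk_w ⟨x', hQP hx'⟩ h1, zero_add]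
      · right
        refine ⟨⟨n * n', N_le_cMod h (mul_mem hn hn')⟩, mul_mem hn hn', ?_⟩
        have e1 : g = ⟨x, hQP hx⟩ * ⟨n, N_le_cMod h hn⟩ := Subtype.ext hgx
        have e2 : g' = ⟨x, hQP hx⟩ * ⟨x⁻¹ * x', hQP (mul_mem (inv_mem hx) hx')⟩ * ⟨n', N_le_cMod h hn'⟩ :=
          Subtype.ext (by simp [hgx'])
        have e3 : (⟨n * n', N_le_cMod h (mul_mem hn hn')⟩ : P) =
            ⟨n, N_le_cMod h hn⟩ * ⟨n', N_le_cMod h hn'⟩ := rfl
        rw [e1, e2, e3, hmk_mul, hmk_mul, hmk_mul, hmk_mul,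
          hmk_w ⟨x⁻¹ * x', hQP (mul_mem (inv_mem hx) hx')⟩ h1, add_zero]
        rw [add_add_add_comm, hneg, zero_add]
    · intro p hp hpN
      obtain ⟨g, rfl⟩ := hmk_surj p
      obtain ⟨x, hx, n, hn, hgx⟩ := h.decomp g ((hker g).1 hp)
      obtain ⟨y, hy, hxy⟩ := exists_not_commute h hsq hx (hnot g ((hker g).1 hp) hpN x hx n hn hgx)
      refine ⟨mk ⟨y, hQP hy⟩, (hker _).2 (SquareTwo.Q_le_cY h hy), fun e => hxy ?_⟩
      have hc : Commute (g : G) y := commutatorElement_eq_one_iff_mul_comm.1 ((hB0' _ _).1 e)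
      rw [hgx] at hc
      have := hc.mul_left (h.comm_Q n hn y hy)
      rwa [mul_assoc, h.sq_N n hn, mul_one] at this
    · obtain ⟨x, hx, hxW⟩ : ∃ x ∈ Q, x ∉ W a := by
        by_contra hcon
        push Not at hcon
        have h1 := Nat.le_of_dvd Nat.card_pos (Subgroup.card_dvd_of_le (show Q ≤ W a from hcon))
        rw [hsq] at h1
        have := SquareTwo.eight_le h hsq
        nlinarith
      refine ⟨mk ⟨x, hQP hx⟩, (hker _).2 (SquareTwo.Q_le_cY h hx), ?_⟩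
      rintro ⟨n, hn, he⟩
      obtain ⟨w, hw, e⟩ := hmk_eq _ _ he
      have hxn : x * (n : G) ∈ W a := by
        have : x * (n : G) = (n : G) * w * n := congrArg (· * (n : G)) e
        rw [this, (SquareTwo.commute_of_mem_cW (hPW n.2) hw).eq, mul_assoc, h.sq_N n hn, mul_one]
        exact hw
      exact hxW (mem_Q_of_fix h hx hn hxn).2
  -- the scalar
  let cj : ↥(W a) →* ↥(W a) :=
    { toFun := fun w => ⟨j * w * j⁻¹, hjW w.2⟩
      map_one' := Subtype.ext (by simp)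
      map_mul' := fun w w' => Subtype.ext (by
        show j * ((w : G) * w') * j⁻¹ = j * w * j⁻¹ * (j * w' * j⁻¹)
        group) }
  let S : Set (AddMonoid.End (Additive ↥(W a))) :=
    {f | ∃ i ∈ J, ∀ w : ↥(W a), ((Additive.toMul (f (Additive.ofMul w)) : ↥(W a)) : G) = i * w * i⁻¹}
  have hScomm : ∀ f ∈ S, ∀ f' ∈ S, f * f' = f' * f := by
    rintro f ⟨i, hi, hf⟩ f' ⟨i', hi', hf'⟩
    refine AddMonoidHom.ext fun v => ?_
    apply Additive.toMul.injective
    refine Subtype.ext ?_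
    have h1 := hf (Additive.toMul (f' v))
    have h2 := hf' (Additive.toMul (f v))
    rw [ofMul_toMul] at h1 h2
    show ((Additive.toMul (f (f' v)) : ↥(W a)) : G) = ((Additive.toMul (f' (f v)) : ↥(W a)) : G)
    have h3 := hf (Additive.toMul v)
    have h4 := hf' (Additive.toMul v)
    rw [ofMul_toMul] at h3 h4
    haveI := h.torus.cyclic
    have hii : i * i' = i' * i :=
      congrArg Subtype.val ((IsCyclic.isMulCommutative (α := J)).is_comm.comm (⟨i, hi⟩ : J) ⟨i', hi'⟩)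
    rw [h1, h4, h2, h3,
      show i * (i' * ((Additive.toMul v : ↥(W a)) : G) * i'⁻¹) * i⁻¹ =
        (i * i') * ((Additive.toMul v : ↥(W a)) : G) * (i * i')⁻¹ by group,
      hii]
    group
  have hStrans : ∀ v : Additive ↥(W a), v ≠ 0 → ∀ v', v' ≠ 0 → ∃ f ∈ S, f v = v' := by
    intro v hv v' hv'
    have hmem : ∀ u : Additive ↥(W a), ((Additive.toMul u : ↥(W a)) : G) ∈ W a ⊓ centralizer {z} :=
      fun u => by rw [SquareTwo.inf_centralizer h]; exact (Additive.toMul u).2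
    obtain ⟨i, hi, he⟩ := h.torus.trans _ (hmem v) (fun e => hv (by
        apply Additive.toMul.injective; exact Subtype.ext e)) _ (hmem v') (fun e => hv' (by
        apply Additive.toMul.injective; exact Subtype.ext e))
    have hiW : ∀ {w : G}, w ∈ W a → i * w * i⁻¹ ∈ W a := fun {w} hw => by
      have := hS.conj i a w hw
      rwa [mem_stabilizer_iff.1 (Subgroup.mem_inf.1 (Subgroup.mem_inf.1 (h.torus.le hi)).1).2] at this
    refine ⟨MonoidHom.toAdditive
      { toFun := fun w : ↥(W a) => ⟨i * w * i⁻¹, hiW w.2⟩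
        map_one' := Subtype.ext (by simp)
        map_mul' := fun w w' => Subtype.ext (by
          show i * ((w : G) * w') * i⁻¹ = i * w * i⁻¹ * (i * w' * i⁻¹)
          group) }, ⟨i, hi, fun w => rfl⟩, ?_⟩
    apply Additive.toMul.injective
    exact Subtype.ext he
  let c : AddMonoid.End (Additive ↥(W a)) := MonoidHom.toAdditive cj
  have hcS : c ∈ S := ⟨j, hj, fun w => rfl⟩
  have hc1 : c ≠ 1 := fun e => by
    obtain ⟨⟨f, hf⟩, hf1⟩ := (Subgroup.ne_bot_iff_exists_ne_one).1 (hS.ne_bot a)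
    refine hj1 (h.torus_free hj hf (fun e' => hf1 (Subtype.ext e')) ?_)
    have := congrArg (fun φ : AddMonoid.End (Additive ↥(W a)) =>
      ((Additive.toMul (φ (Additive.ofMul (⟨f, hf⟩ : ↥(W a)))) : ↥(W a)) : G)) e
    exact mul_inv_eq_iff_eq_mul.1 this
  -- the automorphism
  let Γ0 : ↥P →* ↥P :=
    { toFun := fun g => ⟨γ * g * γ⁻¹, hconj g g.2⟩
      map_one' := Subtype.ext (by simp)
      map_mul' := fun g g' => Subtype.ext (by
        show γ * ((g : G) * g') * γ⁻¹ = γ * g * γ⁻¹ * (γ * g' * γ⁻¹)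
        group) }
  let Γ : Additive (↥P ⧸ K) →+ Additive (↥P ⧸ K) := MonoidHom.toAdditive
    (QuotientGroup.map K K Γ0 (fun g hg => by
      rw [Subgroup.mem_comap, Subgroup.mem_subgroupOf]
      show γ * (g : G) * γ⁻¹ ∈ W a
      rw [Subgroup.mem_subgroupOf] at hg
      rw [hW1 hg]; exact hg))
  have hΓ : ∀ g : P, Γ (mk g) = mk (Γ0 g) := fun _ => rfl
  have hΓi : ∀ (i : ℕ) (g : P), (⇑Γ)^[i] (mk g) = mk ((⇑Γ0)^[i] g) := by
    intro i
    induction i with
    | zero => intro g; rfl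
    | succ i ih => intro g; rw [Function.iterate_succ_apply', ih, Function.iterate_succ_apply', hΓ]
  have hΓ0i : ∀ (i : ℕ) (g : P), (((⇑Γ0)^[i] g : P) : G) = γ ^ i * g * (γ ^ i)⁻¹ := by
    intro i
    induction i with
    | zero => intro g; simp
    | succ i ih =>
      intro g
      rw [Function.iterate_succ_apply']
      show γ * (((⇑Γ0)^[i] g : P) : G) * γ⁻¹ = _
      rw [ih, pow_succ']
      group
  obtain ⟨r, hr, -, hqr⟩ := h.loc.square_log (by rw [SquareTwo.inf_centralizer h]; exact hsq)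
  rw [SquareTwo.inf_centralizer h] at hqr
  obtain ⟨v, hv0, hv1, hvc⟩ := SquareCore.exists_zero (V := Additive ↥(W a)) hdata hr
    (by rw [← hqr]; exact Nat.card_congr Additive.toMul)
    (fun w => by
      apply Additive.toMul.injective
      exact Subtype.ext (SquareTwo.sq_W h (Additive.toMul w).2))
    hScomm hStrans hcS hc1 Γ hodd (fun p => by
      obtain ⟨g, rfl⟩ := hmk_surj p
      rw [hΓi]
      refine congrArg mk (Subtype.ext ?_)
      rw [hΓ0i, pow_orderOf_eq_one]; simp)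
    (fun p => by
      obtain ⟨g, rfl⟩ := hmk_surj p
      rw [hΓ, hs, hs]
      refine congrArg Additive.ofMul (Subtype.ext ?_)
      show γ * (g : G) * γ⁻¹ * (γ * g * γ⁻¹) = (g : G) * g
      rw [show γ * (g : G) * γ⁻¹ * (γ * g * γ⁻¹) = γ * ((g : G) * g) * γ⁻¹ by group]
      exact hW1 (hsqW g g.2))
    (fun p p' => by
      obtain ⟨g, rfl⟩ := hmk_surj p
      obtain ⟨g', rfl⟩ := hmk_surj p'
      rw [hΓ, hΓ, hB, hB]
      refine congrArg Additive.ofMul (Subtype.ext ?_)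
      show ⁅γ * (g : G) * γ⁻¹, γ * (g' : G) * γ⁻¹⁆ = ⁅(g : G), (g' : G)⁆
      rw [← conjugate_commutatorElement]
      exact hW1 (hcommW g g.2 g' g'.2))
    (fun p => by
      obtain ⟨g, rfl⟩ := hmk_surj p
      rw [hΓ, hB, hB]
      exact congrArg Additive.ofMul (Subtype.ext (hτ g g.2)))
  obtain ⟨g, rfl⟩ := hmk_surj v
  have hg2 : (g : G) * g = 1 := by
    rw [hs] at hv0
    exact congrArg (fun v : Additive ↥(W a) => ((Additive.toMul v : ↥(W a)) : G)) hv0
  have hgY : (g : G) ∉ cY W a z := fun e => hv1 ((hker g).2 e)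
  have hg1 : (g : G) ≠ 1 := fun e => hgY (e ▸ one_mem _)
  have hga : (g : G) • a = a := mem_stabilizer_iff.1 (hPW g.2).1
  -- a bad involution in the coset of `g`
  obtain ⟨f, hf, hbad⟩ : ∃ f ∈ W a, IsBad Ω ((g : G) * f) := by
    by_cases hex : ∃ e, e ≠ a ∧ (g : G) • e = e
    · obtain ⟨e, hea, hge⟩ := hex
      refine ⟨1, one_mem _, ?_⟩
      rw [mul_one]
      exact ⟨orderOf_eq_prime (by rw [pow_two, hg2]) hg1, a, e, hea.symm, hga, hge⟩
    push Not at hex
    have hop := hS.onePoint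
    obtain ⟨d, hd⟩ := OnePoint.dat_nonempty (D := members W) hS.covers b
    have hmov : d ∈ moved (members W) Ω (g : G) :=
      ⟨hd.1, fun e he => by rw [hop.fixed_unique d hd.1 e b he hd.2]; exact hex b h.ne⟩
    obtain ⟨f, ⟨hf, hfd⟩, -⟩ := hop.exists_middle_centred hg2 hmov
    obtain ⟨e, he⟩ := hop.exists_fixed f hf.1
    have hea : e = a := by
      by_contra hea
      exact hex e hea (hop.centred_fixed hf he)
    rw [hea] at he
    have hfW : f ∈ W a := hS.mem_of_fixed hf.1 he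
    have hne1 : (g : G) * f ≠ 1 := fun e1 => hgY (by
      rw [mul_eq_one_iff_eq_inv.1 e1]
      exact inv_mem (SquareTwo.Q_le_cY h (SquareTwo.W_le_Q h hfW)))
    exact ⟨f, hfW, orderOf_eq_prime (by rw [hf.2.mul_pow, pow_two, pow_two, hg2, hop.mul_self hf.1, one_mul]) hne1,
      a, b, h.ne.symm, by rw [mul_smul, he, hga], hop.fix_of_commute hd.1 hd.2 hfd.symm⟩
  have hv'a : ((g : G) * f) • a = a := by
    rw [mul_smul, mem_stabilizer_iff.1 (hS.fix a hf), hga]
  let ρ : ↥P →* G :=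
    { toFun := fun y => ⁅(g : G), (y : G)⁆
      map_one' := commutatorElement_one_right _
      map_mul' := fun y y' => hright g g.2 y y.2 y' y'.2 }
  have hker' : ρ.ker.map P.subtype ≤ cY W a ((g : G) * f) := by
    rw [cY_mul_W _ hf]
    rintro _ ⟨y, hy, rfl⟩
    exact ⟨hPW y.2, Subgroup.mem_centralizer_singleton_iff.2
      (commutatorElement_eq_one_iff_mul_comm.1 (MonoidHom.mem_ker.1 hy)).symm⟩
  have hrange : Nat.card ρ.range ≤ Nat.card ↥(W a) := Nat.le_of_dvd Nat.card_pos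
    (Subgroup.card_dvd_of_le (by rintro _ ⟨y, rfl⟩; exact hcommW g g.2 y y.2))
  have hge : Nat.card ↥(cY W a z) ≤ Nat.card ρ.ker := by
    refine Nat.le_of_mul_le_mul_right ?_ (Nat.card_pos (α := ↥(W a)))
    rw [← SquareTwo.card_cMod hshift, ← hPdef, ← ρ.ker.card_mul_index, Subgroup.index_ker]
    exact Nat.mul_le_mul_left _ hrange
  have hle := h.maximal _ hbad hv'a
  have heq : ρ.ker.map P.subtype = cY W a ((g : G) * f) :=
    Subgroup.eq_of_le_of_card_ge hker' (by rw [Subgroup.card_subtype]; exact hle.trans hge)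
  have hcard : Nat.card ↥(cY W a ((g : G) * f)) = Nat.card ↥(cY W a z) :=
    le_antisymm hle (by rw [← heq, Subgroup.card_subtype]; exact hge)
  have hcube : Nat.card (fixedBy Ω ((g : G) * f)) ≠ Nat.card ↥(W a) ^ 3 + 1 := by
    rw [hphi _ hbad, h.card_fixed, hsq]
    intro e
    have := Nat.pow_right_injective (show 2 ≤ Nat.card ↥(W a) by have := h.four; omega)
      (Nat.succ_injective e)
    omega
  obtain ⟨b', Q', N', J', h'⟩ := exists_fam_of_maximal h.setting h.all hloc h.four hbad hv'a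
    (fun z' h1 h2 => hcard.symm ▸ h.maximal z' h1 h2) (fun x hx => (hphi x hx).trans (hphi _ hbad).symm)
    hmul hcube
  have hQ' : Nat.card Q' = Nat.card Q := Nat.succ_injective
    (h'.card_fixed.symm.trans ((hphi _ hbad).trans h.card_fixed))
  have hN' : 4 ≤ Nat.card N' := by
    have e := h'.card_cY
    rw [hcard, h.card_cY, hQ'] at e
    rw [← Nat.eq_of_mul_eq_mul_left Nat.card_pos e]
    exact hN
  have hN'P : ∀ n ∈ N', n ∈ P := fun n hn => by
    have := N_le h' hn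
    rw [← heq] at this
    obtain ⟨y, -, rfl⟩ := this
    exact y.2
  have hcases : ∀ n ∈ N', n ∈ W a ∨ (g : G)⁻¹ * n ∈ W a := by
    intro n hn
    have hnY := N_le h' hn
    have hnc : Commute (g : G) n := by
      rw [cY_mul_W _ hf] at hnY
      exact (Subgroup.mem_centralizer_singleton_iff.1 hnY.2).symm
    rcases hvc (mk ⟨n, hN'P n hn⟩) ((hB0' _ _).2 (commutatorElement_eq_one_iff_mul_comm.2 hnc.eq))
      (fun t ht => by
        obtain ⟨y, rfl⟩ := hmk_surj t
        rw [hB0'] at ht ⊢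
        refine commutatorElement_eq_one_iff_mul_comm.2 (comm_N_cY h' hn ?_).eq
        rw [← heq]
        exact ⟨y, MonoidHom.mem_ker.2 ht, rfl⟩) with e | e
    · left
      obtain ⟨w, hw, he⟩ := hmk_eq _ 1 (e.trans (hmk_w 1 (one_mem _)).symm)
      rw [Subgroup.coe_one] at he
      rw [show n = w⁻¹ from eq_inv_of_mul_eq_one_left he.symm]
      exact inv_mem hw
    · right
      obtain ⟨w, hw, he⟩ := hmk_eq _ _ e.symm
      have he2 : n = (g : G) * w := he
      rw [he2, inv_mul_cancel_left]; exact hw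
  have htriv : ∀ n ∈ N', n ∈ W a → n = 1 := fun n hn hnW => by
    by_contra hn1
    exact h'.ne (hS.unique a n hnW hn1 b' (N_fix h' hn))
  obtain ⟨n, hn, hn', hnn⟩ : ∃ n ∈ N', ∃ n' ∈ N', n ≠ 1 ∧ n' ≠ 1 ∧ n ≠ n' := by
    haveI := Fintype.ofFinite N'
    rw [Nat.card_eq_fintype_card] at hN'
    obtain ⟨x, y, w, hxy, hxw, hyw⟩ := Fintype.two_lt_card_iff.1 (show 2 < Fintype.card N' by omega)
    by_cases hx : (x : G) = 1
    · exact ⟨y, y.2, w, w.2, fun e => hxy (Subtype.ext (hx.trans e.symm)),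
        fun e => hxw (Subtype.ext (hx.trans e.symm)), fun e => hyw (Subtype.ext e)⟩
    · by_cases hy : (y : G) = 1
      · exact ⟨x, x.2, w, w.2, hx, fun e => hyw (Subtype.ext (hy.trans e.symm)),
          fun e => hxw (Subtype.ext e)⟩
      · exact ⟨x, x.2, y, y.2, hx, hy, fun e => hxy (Subtype.ext e)⟩
  obtain ⟨hn'N, hn1, hn'1, hne⟩ := hnn
  have a1 := (hcases n hn).resolve_left fun e => hn1 (htriv n hn e)
  have a2 := (hcases hn' hn'N).resolve_left fun e => hn'1 (htriv _ hn'N e)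
  refine hne (inv_mul_eq_one.1 (htriv _ (mul_mem (inv_mem hn) hn'N) ?_))
  rw [show n⁻¹ * hn' = ((g : G)⁻¹ * n)⁻¹ * ((g : G)⁻¹ * hn') by group]
  exact mul_mem (inv_mem a1) a2

/-- The pair stabiliser inside `cW W a` is `N`. -/
theorem stab_eq : cW W a ⊓ stabilizer G b = N := by
  classical
  haveI : Fact (Nat.Prime 2) := ⟨Nat.prime_two⟩
  have hNY : ∀ n ∈ N, n ∈ cW W a ⊓ stabilizer G b := fun n hn =>
    Subgroup.mem_inf.2 ⟨(N_le h hn).1, mem_stabilizer_iff.2 (N_fix h hn)⟩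
  refine le_antisymm ?_ hNY
  set Y := cW W a ⊓ stabilizer G b with hY
  set N0 := N.subgroupOf Y with hN0
  have hmem : ∀ {y : Y}, y ∈ N0 ↔ (y : G) ∈ N := Iff.rfl
  have hfix : ∀ {y : Y}, (y : G) • b = b := fun {y} =>
    mem_stabilizer_iff.1 (Subgroup.mem_inf.1 y.2).2
  have hYW : ∀ y : Y, (y : G) ∈ cW W a := fun y => (Subgroup.mem_inf.1 y.2).1
  have hN02 : IsPGroup 2 N0 := fun n => ⟨1, Subtype.ext (Subtype.ext (by
    simpa [pow_two] using h.sq_N _ n.2))⟩
  -- normalising elements lie in `N`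
  have hnorm : ∀ y ∈ Subgroup.normalizer (N0 : Set Y), y ∈ N0 := by
    intro y hy
    have hconj : ∀ n ∈ N, (y : G) * n * (y : G)⁻¹ ∈ N := fun n hn =>
      (Subgroup.mem_normalizer_iff.1 hy ⟨n, hNY n hn⟩).1 hn
    -- split the order
    obtain ⟨k, m, hm, hkm⟩ := Nat.exists_eq_two_pow_mul_odd (orderOf_pos (y : G)).ne'
    have hiter : ∀ i : ℕ, ∀ n ∈ N, (y : G) ^ i * n * ((y : G) ^ i)⁻¹ ∈ N := by
      intro i
      induction i with
      | zero => intro n hn; simpa using hn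
      | succ i ih =>
        intro n hn
        rw [pow_succ', show (y : G) * (y : G) ^ i * n * ((y : G) * (y : G) ^ i)⁻¹ =
          (y : G) * ((y : G) ^ i * n * ((y : G) ^ i)⁻¹) * (y : G)⁻¹ by group]
        exact hconj _ (ih n hn)
    have hpow : ∀ i : ℕ, (y : G) ^ i ∈ cW W a ∧ ((y : G) ^ i) • b = b := fun i =>
      ⟨pow_mem (hYW y) i, mem_stabilizer_iff.1 (pow_mem (Subgroup.mem_inf.1 y.2).2 i)⟩
    have hodd : (y : G) ^ (2 ^ k) = 1 := by
      refine eq_one_of_odd h hsq hshift hscal hloc hphi hmul hN (hpow _).1 (hpow _).2 ?_ (hiter _)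
      rw [orderOf_pow_of_dvd (by positivity) ⟨m, hkm⟩, hkm, Nat.mul_div_cancel_left m (by positivity)]
      exact hm
    -- a 2-element fixes an element of `N` other than one
    set R := Subgroup.zpowers y with hR
    have hR2 : IsPGroup 2 R := IsPGroup.of_card_dvd_pow (n := k) (by
      rw [Nat.card_zpowers, orderOf_dvd_iff_pow_eq_one]
      exact Subtype.ext (by rw [SubgroupClass.coe_pow]; exact hodd))
    have hRle : R ≤ Subgroup.normalizer (N0 : Set Y) := Subgroup.zpowers_le.2 hy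
    letI : MulAction R N0 :=
      { smul := fun p x => ⟨(p : Y) * x * (p : Y)⁻¹,
          (Subgroup.mem_normalizer_iff.1 (hRle p.2) x).1 x.2⟩
        one_smul := fun x => Subtype.ext (by show (1 : Y) * x * (1 : Y)⁻¹ = x; group)
        mul_smul := fun p p' x => Subtype.ext (by
          show ((p : Y) * p') * x * ((p : Y) * p')⁻¹ = p * (p' * x * (p' : Y)⁻¹) * (p : Y)⁻¹
          group) }
    have h2N : 2 ∣ Nat.card N0 := by
      obtain ⟨e, he⟩ := hN02.exists_card_eq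
      rw [he]
      refine dvd_pow_self 2 (fun e0 => ?_)
      rw [e0, pow_zero, hN0, Nat.card_congr (subgroupOfEquivOfLe hNY).toEquiv] at he
      omega
    obtain ⟨x, hx, hx1⟩ := hR2.exists_fixed_point_of_prime_dvd_card_of_fixed_point N0 h2N
      (a := 1) (fun p => Subtype.ext (show (p : Y) * 1 * (p : Y)⁻¹ = 1 by group))
    have hxy : Commute (y : G) ((x : Y) : G) := by
      have := congrArg (fun u : N0 => ((u : Y) : G)) (hx ⟨y, Subgroup.mem_zpowers y⟩)
      exact mul_inv_eq_iff_eq_mul.1 this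
    exact eq_N_of_commute h (hYW y) hfix x.2
      (fun e => hx1 (Subtype.ext (Subtype.ext e.symm))) hxy
  -- `N0` is a Sylow subgroup
  obtain ⟨S, hS⟩ := hN02.exists_le_sylow
  have hSN : (S : Subgroup Y) = N0 := by
    by_contra hne
    haveI := S.isPGroup'.isNilpotent
    have hlt : N0.subgroupOf S < Subgroup.normalizer (N0.subgroupOf S : Set S) :=
      Group.normalizerCondition_of_isNilpotent _ (lt_top_iff_ne_top.2 fun e => hne
        (le_antisymm (Subgroup.subgroupOf_eq_top.1 e) hS))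
    obtain ⟨s, hs, hsN⟩ := Set.exists_of_ssubset hlt
    refine hsN (hnorm (s : Y) (Subgroup.mem_normalizer_iff.2 fun x => ?_))
    refine ⟨fun hx => ?_, fun hx => ?_⟩
    · exact (Subgroup.mem_normalizer_iff.1 hs ⟨x, hS hx⟩).1 hx
    · have hxS : x ∈ (S : Subgroup Y) := by
        rw [show x = (s : Y)⁻¹ * ((s : Y) * x * (s : Y)⁻¹) * s by group]
        exact mul_mem (mul_mem (inv_mem s.2) (hS hx)) s.2
      exact (Subgroup.mem_normalizer_iff.1 hs ⟨x, hxS⟩).2 hx
  have hcent : Subgroup.normalizer ((S : Subgroup Y) : Set Y) ≤ centralizer ((S : Subgroup Y) : Set Y) := by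
    rw [hSN]
    intro y hy
    refine Subgroup.mem_centralizer_iff.2 fun x hx => Subtype.ext ?_
    exact (N_comm h (hmem.1 hx) (hmem.1 (hnorm y hy))).eq
  set O := (MonoidHom.transferSylow S hcent).ker with hO
  have hcompl := MonoidHom.ker_transferSylow_isComplement' S hcent
  have hinter : ∀ y ∈ O, y ∈ N0 → y = 1 := fun y hy hyN => by
    have := Subgroup.disjoint_def.1 hcompl.disjoint hy (by rw [hSN]; exact hyN)
    exact this
  have hinv : ∀ n ∈ N, n ≠ 1 → ∀ x : Y, x ∈ O → n * (x : G) * n⁻¹ = (x : G)⁻¹ := by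
    intro n hn hn1 x hx
    let nY : Y := ⟨n, hNY n hn⟩
    let φ : O → O := fun o => ⟨(o : Y)⁻¹ * (nY * o * nY⁻¹),
      mul_mem (inv_mem o.2) ((MonoidHom.normal_ker _).conj_mem _ o.2 nY)⟩
    have hφ : Function.Injective φ := by
      intro o o' e
      have e1 : (o : Y)⁻¹ * (nY * o * nY⁻¹) = (o' : Y)⁻¹ * (nY * o' * nY⁻¹) :=
        congrArg (fun u : O => (u : Y)) e
      have hc : Commute ((o' : Y) * (o : Y)⁻¹) nY := by
        calc (o' : Y) * (o : Y)⁻¹ * nY = o' * ((o : Y)⁻¹ * (nY * o * nY⁻¹)) * (nY * (o : Y)⁻¹) := by group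
          _ = o' * ((o' : Y)⁻¹ * (nY * o' * nY⁻¹)) * (nY * (o : Y)⁻¹) := by rw [e1]
          _ = nY * ((o' : Y) * (o : Y)⁻¹) := by group
      have := hinter _ (mul_mem o'.2 (inv_mem o.2))
        (eq_N_of_commute h (g := (((o' : Y) * (o : Y)⁻¹ : Y) : G)) (hYW _) hfix hn hn1 (congrArg (fun u : Y => (u : G)) hc.eq))
      exact Subtype.ext (mul_inv_eq_one.1 this).symm
    obtain ⟨o, ho⟩ := (Finite.injective_iff_surjective.1 hφ) ⟨x, hx⟩
    have hx' : ((o : Y) : G)⁻¹ * (n * ((o : Y) : G) * n⁻¹) = (x : G) :=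
      congrArg (fun u : O => ((u : Y) : G)) ho
    have hnn : n⁻¹ = n := inv_eq_of_mul_eq_one_right (h.sq_N n hn)
    rw [← hx', hnn, mul_inv_rev, inv_inv, mul_inv_rev, mul_inv_rev, hnn]
    simp only [mul_assoc, h.sq_N n hn, mul_one]
  obtain ⟨n₁, n₂, hn₁, hn₂, hn₁1, hn₂1, hne⟩ : ∃ n₁ n₂, n₁ ∈ N ∧ n₂ ∈ N ∧ n₁ ≠ 1 ∧ n₂ ≠ 1 ∧ n₁ ≠ n₂ := by
    haveI := Fintype.ofFinite N
    rw [Nat.card_eq_fintype_card] at hN
    obtain ⟨x, y, w, hxy, hxw, hyw⟩ := Fintype.two_lt_card_iff.1 (show 2 < Fintype.card N by omega)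
    by_cases hx : (x : G) = 1
    · exact ⟨y, w, y.2, w.2, fun e => hxy (Subtype.ext (hx.trans e.symm)),
        fun e => hxw (Subtype.ext (hx.trans e.symm)), fun e => hyw (Subtype.ext e)⟩
    · by_cases hy : (y : G) = 1
      · exact ⟨x, w, x.2, w.2, hx, fun e => hyw (Subtype.ext (hy.trans e.symm)),
          fun e => hxw (Subtype.ext e)⟩
      · exact ⟨x, y, x.2, y.2, hx, hy, fun e => hxy (Subtype.ext e)⟩
  have hObot : O = ⊥ := (Subgroup.eq_bot_iff_forall O).2 fun x hx => by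
    refine hinter x hx ?_
    have hm : n₁ * n₂ ≠ 1 := fun e => hne (by
      rw [mul_eq_one_iff_eq_inv.1 e, inv_eq_of_mul_eq_one_right (h.sq_N n₂ hn₂)])
    refine eq_N_of_commute h (hYW x) hfix (mul_mem hn₁ hn₂) hm ?_
    have h1 := hinv n₁ hn₁ hn₁1 x hx
    have h2 := hinv n₂ hn₂ hn₂1 x hx
    calc (x : G) * (n₁ * n₂) = ((x : G)⁻¹)⁻¹ * (n₁ * n₂) := by rw [inv_inv]
      _ = n₁ * n₂ * x := by
        rw [← h2, show (n₂ * (x : G) * n₂⁻¹)⁻¹ = n₂ * (x : G)⁻¹ * n₂⁻¹ by group, ← h1,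
          inv_eq_of_mul_eq_one_right (h.sq_N n₁ hn₁), inv_eq_of_mul_eq_one_right (h.sq_N n₂ hn₂),
          show n₂ * (n₁ * (x : G) * n₁) * n₂ * (n₁ * n₂) = n₂ * n₁ * (x : G) * (n₁ * n₂ * (n₁ * n₂)) by group,
          h.sq_N _ (mul_mem hn₁ hn₂), mul_one, (N_comm h hn₂ hn₁).eq]
  intro g hg
  have htop := hcompl.sup_eq_top
  rw [← hO, hObot, bot_sup_eq, hSN] at htop
  exact hmem.1 (htop ▸ Subgroup.mem_top (⟨g, hg⟩ : Y))

end Main

end SquareStab

/-- The pair stabiliser inside `cW W a` is `N`, for lines of `q ^ 2 + 1` points and `4 ≤ |N|`. -/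
theorem Fam.square_stab {G Ω : Type u} [Group G] [Finite G] [Finite Ω] [MulAction G Ω]
    [FaithfulSMul G Ω] {W : Ω → Subgroup G} {a b : Ω} {z : G} {Q N J : Subgroup G}
    (h : Fam W a b z Q N J) (hloc : LocTorus W)
    (hphi : ∀ x : G, IsBad Ω x → Nat.card (fixedBy Ω x) = Nat.card (fixedBy Ω z))
    (hmul : ∀ x : G, ∀ c : Ω, IsBad Ω x → x • c = c → ∀ r ∈ W c, IsBad Ω (x * r))
    (hsq : Nat.card Q = Nat.card ↥(W a) ^ 2) (hN : 4 ≤ Nat.card N) (hshift : Shift W a z) :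
    cW W a ⊓ stabilizer G b = N :=
  SquareStab.stab_eq h hsq hshift (fun _ hn hn1 => h.scalar_comm hloc hphi hmul hn hn1) hloc hphi
    hmul hN

end CfsgLib.LocalEven.TIEndgame
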