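import Cfsg.Agent.Lib.LocalEven.TIEndgame.Classify
import Cfsg.Agent.Lib.LocalEven.TIEndgame.CoreProper

/-!
# The configuration of the centraliser of a rotation

`w` is a rotation on the line of a bad involution `z` of unitary size.  The points of `centralizer w`
again form a configuration of `q ^ 3 + 1` points.
-/

set_option autoImplicit false
set_option linter.style.haveILetI false

open scoped commutatorElement

namespace CfsgLib.LocalEven.TIEndgame

open MulAction Subgroup

universe u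

variable {G Ω : Type u} [Group G] [Finite G] [Finite Ω] [MulAction G Ω] [FaithfulSMul G Ω]
  {W : Ω → Subgroup G}

/-- The splitting at every subgroup with a proper core. -/
abbrev CoreLocHyp (W : Ω → Subgroup G) : Prop :=
  ∀ (H : Subgroup G) (a b : Ω), core W H ≠ ⊤ → a ∈ pts W H → b ∈ pts W H → b ≠ a →
    4 ≤ Nat.card ↥(W a ⊓ H) → ∃ Q, Loc W H a Q ∧ ∃ J, Torus W H a b Q J ∧
      (Nat.card Q = Nat.card ↥(W a ⊓ H) ^ 3 → ∃ w, Rot W H a b Q J w)

omit [Finite G] [Finite Ω] [FaithfulSMul G Ω] in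
theorem Loc.card_pts {H Q : Subgroup G} {a b : Ω} (hL : Loc W H a Q) (h : TISetting W)
    (ha : a ∈ pts W H) (hb : b ∈ pts W H) (hba : b ≠ a) [Finite (pts W H)] :
    Nat.card (pts W H) = Nat.card Q + 1 := by
  have hQH : ∀ x ∈ Q, x ∈ H := fun x hx => core_le W H (hL.le hx).1
  have hQa : ∀ x ∈ Q, x • a = a := fun x hx => (hL.le hx).2
  have hbij : Function.Bijective fun x : Q =>
      (⟨(x : G) • b, h.smul_mem_pts (hQH x x.2) hb,
        fun e => hba (MulAction.injective (x : G) (e.trans (hQa x x.2).symm))⟩ :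
          {c : Ω // c ∈ pts W H ∧ c ≠ a}) := by
    constructor
    · intro x y hxy
      obtain ⟨g, -, hg⟩ := hL.regular b hb hba _ (h.smul_mem_pts (hQH y y.2) hb)
        (fun e => hba (MulAction.injective (y : G) (e.trans (hQa y y.2).symm)))
      exact Subtype.ext ((hg x ⟨x.2, congrArg Subtype.val hxy⟩).trans (hg y ⟨y.2, rfl⟩).symm)
    · rintro ⟨c, hc, hca⟩
      obtain ⟨g, ⟨hgQ, hgc⟩, -⟩ := hL.regular b hb hba c hc hca
      exact ⟨⟨g, hgQ⟩, Subtype.ext hgc⟩
  classical
  haveI : Fintype (pts W H) := Fintype.ofFinite _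
  rw [Nat.card_congr (Equiv.ofBijective _ hbij),
    Nat.card_congr (Equiv.subtypeSubtypeEquivSubtypeInter (fun c => c ∈ pts W H) (fun c => c ≠ a)).symm,
    Nat.card_eq_fintype_card (α := {x : {c // c ∈ pts W H} // (x : Ω) ≠ a}),
    Fintype.card_congr (Equiv.subtypeEquivRight
      (fun x : {c // c ∈ pts W H} => show (x : Ω) ≠ a ↔ x ≠ ⟨a, ha⟩ by rw [Ne, Ne, Subtype.ext_iff])),
    Fintype.card_subtype_compl, Fintype.card_subtype_eq, ← Nat.card_eq_fintype_card]
  have : 0 < Nat.card (pts W H) := Nat.card_pos_iff.2 ⟨⟨⟨a, ha⟩⟩, inferInstance⟩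
  change Nat.card {c // c ∈ pts W H} = Nat.card {c // c ∈ pts W H} - 1 + 1
  change 0 < Nat.card {c // c ∈ pts W H} at this
  omega

namespace TISetting

variable (h : TISetting W)
include h

omit [Finite Ω] in
theorem core_ne_top {g : G} (hg : g ≠ 1) {a : Ω} (hga : g • a = a) :
    core W (centralizer {g}) ≠ ⊤ := by
  intro htop
  refine hg (eq_of_smul_eq_smul fun c : Ω => ?_)
  obtain ⟨k, hk⟩ := h.onePoint.exists_move h.covers a c
  have hkg : k * g = g * k :=
    mem_centralizer_singleton_iff.1 (core_le W _ (htop ▸ mem_top k))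
  rw [one_smul, ← hk, smul_smul, ← hkg, mul_smul, hga]

omit [Finite G] [Finite Ω] [FaithfulSMul G Ω] in
theorem core_conj_mem {H : Subgroup G} {g x : G} (hg : g ∈ H) (hx : x ∈ core W H) :
    g * x * g⁻¹ ∈ core W H := by
  induction hx using Subgroup.closure_induction with
  | mem d hd =>
    obtain ⟨⟨hd1, c, hc⟩, hdH⟩ := hd
    exact mem_core_of_mem ⟨h.conj g c d hc, H.mul_mem (H.mul_mem hg hdH) (H.inv_mem hg)⟩
  | one => simp [one_mem]
  | mul y z _ _ hy hz =>
    rw [show g * (y * z) * g⁻¹ = (g * y * g⁻¹) * (g * z * g⁻¹) by group]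
    exact mul_mem hy hz
  | inv y _ hy =>
    rw [show g * y⁻¹ * g⁻¹ = (g * y * g⁻¹)⁻¹ by group]
    exact inv_mem hy

end TISetting

variable {q : ℕ}

/-- A bad involution in a centred configuration of unitary size. -/
structure CubeSetting (W : Ω → Subgroup G) (q : ℕ) : Prop where
  setting : TISetting W
  cfg : CentredConfig W q 3
  loc : CoreLocHyp W

namespace CubeSetting

variable (S : CubeSetting W q)
include S

omit [Finite G] [Finite Ω] [FaithfulSMul G Ω] in
theorem inf_eq {z : G} {a : Ω} (hz : IsBad Ω z) (hza : z • a = a) :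
    W a ⊓ centralizer {z} = W a :=
  inf_eq_left.2 fun d hd => mem_centralizer_singleton_iff.2 (S.cfg.comm z a hz hza d hd).eq.symm

omit [Finite Ω] [FaithfulSMul G Ω] in
theorem mem_pts_of_le {a : Ω} {g : G} (hg : ∀ d ∈ W a, Commute g d) :
    a ∈ pts W (centralizer {g}) := by
  show W a ⊓ centralizer {g} ≠ ⊥
  rw [inf_eq_left.2 fun d hd => mem_centralizer_singleton_iff.2 (hg d hd).eq.symm]
  exact S.setting.ne_bot a

/-- The data of a bad involution at two of its fixed points. -/
theorem exists_line {z : G} {a b : Ω} (hz : IsBad Ω z) (hza : z • a = a) (hzb : z • b = b)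
    (hba : b ≠ a) :
    ∃ Q J w, Loc W (centralizer {z}) a Q ∧ Torus W (centralizer {z}) a b Q J ∧
      Rot W (centralizer {z}) a b Q J w ∧ Nat.card Q = q ^ 3 := by
  have hp := S.setting.pts_centralizer (z := z) hz.1
  have ha : a ∈ pts W (centralizer {z}) := hp.symm ▸ hza
  have hb : b ∈ pts W (centralizer {z}) := hp.symm ▸ hzb
  have hinf := S.inf_eq hz hza
  obtain ⟨Q, hQ, J, hJ, hw⟩ := S.loc _ a b (S.setting.core_centralizer_ne_top hz) ha hb hba
    (by rw [hinf, S.cfg.card_W]; exact S.cfg.four)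
  have hcard : Nat.card Q = q ^ 3 := by
    have h1 := hQ.card_pts S.setting ha hb hba
    rw [hp] at h1
    have h2 : Nat.card {c : Ω | z • c = c} = q ^ 3 + 1 := S.cfg.card_fixed z hz
    omega
  obtain ⟨w, hw'⟩ := hw (by rw [hinf, S.cfg.card_W, hcard])
  exact ⟨Q, J, w, hQ, hJ, hw', hcard⟩

omit [Finite G] in
theorem two_pow : ∀ a : Ω, ∃ r, Nat.card (W a) = 2 ^ r ∧ q = 2 ^ r ∧ 2 ≤ r := by
  intro a
  have hP : IsPGroup 2 (W a) := fun x => ⟨1, Subtype.ext (by
    rw [pow_one, SubmonoidClass.coe_pow, pow_two]; exact S.setting.sq a x x.2)⟩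
  haveI : Fact (Nat.Prime 2) := ⟨Nat.prime_two⟩
  have hfin : Finite (W a) := Nat.finite_of_card_ne_zero (by
    rw [S.cfg.card_W]; have := S.cfg.four; omega)
  obtain ⟨r, hr⟩ := IsPGroup.iff_card.1 hP
  refine ⟨r, hr, (S.cfg.card_W a).symm.trans hr, ?_⟩
  by_contra h
  have h4 := S.cfg.four
  rw [← S.cfg.card_W a, hr] at h4
  interval_cases r <;> omega

/-- A rotation fixes a second point on the line of a bad involution it centralises. -/
theorem exists_q_fixed {v w : G} {c₀ : Ω} (hv : IsBad Ω v) (hvc : v • c₀ = c₀)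
    (hw : ∃ p k : ℕ, p.Prime ∧ p ≠ 2 ∧ 0 < k ∧ orderOf w = p ^ k) (hwv : Commute w v) (hwc : w • c₀ = c₀)
    (hcomm : ∀ d ∈ W c₀, Commute w d) :
    q ≤ Nat.card {c : Ω // v • c = c ∧ c ∈ pts W (centralizer {w}) ∧ c ≠ c₀} := by
  classical
  obtain ⟨p, k, hp, hp2, -, ho⟩ := hw
  haveI : Fact p.Prime := ⟨hp⟩
  let X := {c : Ω // v • c = c ∧ c ≠ c₀}
  have hmove : ∀ g ∈ zpowers w, g • c₀ = c₀ ∧ Commute g v := by
    intro g hg
    obtain ⟨k, rfl⟩ := mem_zpowers_iff.1 hg
    exact ⟨mem_stabilizer_iff.1 (zpow_mem (mem_stabilizer_iff.2 hwc) k), hwv.zpow_left k⟩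
  let act : MulAction (zpowers w) X :=
    { smul := fun g c => ⟨(g : G) • (c : Ω), by
          rw [smul_smul, ← (hmove g g.2).2.eq, mul_smul, c.2.1],
        fun e => c.2.2 (MulAction.injective (g : G) (e.trans (hmove g g.2).1.symm))⟩
      one_smul := fun c => Subtype.ext (one_smul G (c : Ω))
      mul_smul := fun g g' c => Subtype.ext (mul_smul (g : G) g' (c : Ω)) }
  have hcardX : Nat.card X = q ^ 3 := by
    haveI : Fintype {c : Ω // v • c = c} := Fintype.ofFinite _
    have h2 : Nat.card {c : Ω // v • c = c} = q ^ 3 + 1 := S.cfg.card_fixed v hv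
    rw [show Nat.card X = Nat.card {x : {c : Ω // v • c = c} // (x : Ω) ≠ c₀} from
        Nat.card_congr (Equiv.subtypeSubtypeEquivSubtypeInter _ (fun c => c ≠ c₀)).symm,
      Nat.card_eq_fintype_card, Fintype.card_congr (Equiv.subtypeEquivRight
        (fun x : {c : Ω // v • c = c} => show (x : Ω) ≠ c₀ ↔ x ≠ ⟨c₀, hvc⟩ by
          rw [Ne, Ne, Subtype.ext_iff])),
      Fintype.card_subtype_compl, Fintype.card_subtype_eq, ← Nat.card_eq_fintype_card, h2]
    omega
  have hP : IsPGroup p (zpowers w) :=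
    IsPGroup.of_card (n := k) (by rw [Nat.card_zpowers, ho])
  have hmod := @IsPGroup.card_modEq_card_fixedPoints p (zpowers w) _ hP _ X act _
  obtain ⟨r, -, hqr, -⟩ := S.two_pow c₀
  obtain ⟨⟨⟨b, hvb, hbc⟩, hb⟩⟩ : Nonempty (@MulAction.fixedPoints (zpowers w) X _ act) := by
    by_contra hne
    rw [not_nonempty_iff] at hne
    rw [hcardX, hqr, Nat.card_of_isEmpty, Nat.modEq_zero_iff_dvd] at hmod
    exact hp2 ((Nat.prime_dvd_prime_iff_eq hp Nat.prime_two).1
      (hp.dvd_of_dvd_pow (hp.dvd_of_dvd_pow hmod)))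
  have hwb : w • b = b := congrArg Subtype.val (hb ⟨w, mem_zpowers w⟩)
  obtain ⟨Q, J, u, -, hJ, -, -⟩ := S.exists_line hv hvc hvb hbc
  have hcb : ∀ d ∈ W b, Commute w d := by
    intro d hd
    refine hJ.both w (mem_centralizer_singleton_iff.2 hwv.eq) hwc hwb
      (fun e he => hcomm e he.1) d ⟨hd, ?_⟩
    exact mem_centralizer_singleton_iff.2 (S.cfg.comm v b hv hvb d hd).eq.symm
  have hbX : b ∈ pts W (centralizer {w}) := S.mem_pts_of_le hcb
  have hmem : ∀ e ∈ W c₀, v • e • b = e • b ∧ e • b ∈ pts W (centralizer {w}) ∧ e • b ≠ c₀ := by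
    intro e he
    refine ⟨?_, S.setting.smul_mem_pts (mem_centralizer_singleton_iff.2 (hcomm e he).eq.symm) hbX,
      fun h1 => hbc (MulAction.injective e (h1.trans (mem_stabilizer_iff.1 (S.setting.fix c₀ he)).symm))⟩
    rw [smul_smul, (S.cfg.comm v c₀ hv hvc e he).eq, mul_smul, hvb]
  rw [← S.cfg.card_W c₀]
  refine Nat.card_le_card_of_injective (fun e : W c₀ => ⟨(e : G) • b, hmem e e.2⟩) fun e e' he => ?_
  have he' : (e : G) • b = (e' : G) • b := congrArg Subtype.val he
  by_contra hne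
  refine hbc (S.setting.unique c₀ ((e' : G)⁻¹ * e) (mul_mem (inv_mem e'.2) e.2)
    (fun h1 => hne (Subtype.ext (inv_mul_eq_one.1 h1).symm)) b ?_)
  rw [mul_smul, he', inv_smul_smul]

/-- The points of the centraliser of a rotation. -/
theorem exists_loc_rot {z w : G} {a b : Ω} {Q J : Subgroup G} (hz : IsBad Ω z) (hza : z • a = a)
    (hzb : z • b = b) (hba : b ≠ a) (hJ : Torus W (centralizer {z}) a b Q J)
    (hw : Rot W (centralizer {z}) a b Q J w) :
    b ∈ pts W (centralizer {w}) ∧ ∃ R, Loc W (centralizer {w}) a R ∧ Nat.card R = q ^ 3 := by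
  classical
  have hwz : Commute w z := mem_centralizer_singleton_iff.1 (core_le W _ hw.mem)
  have hwa : ∀ d ∈ W a, Commute w d := fun d hd => hw.central d (by rw [S.inf_eq hz hza]; exact hd)
  have hwb : ∀ d ∈ W b, Commute w d := fun d hd =>
    hJ.both w (core_le W _ hw.mem) hw.fix_a hw.fix_b (fun e he => hwa e he.1) d
      (by rw [S.inf_eq hz hzb]; exact hd)
  have hw1 : w ≠ 1 := fun e => by
    obtain ⟨p, k, hp, -, hk, ho⟩ := hw.prime
    rw [e, orderOf_one] at ho
    exact absurd ho.symm (Nat.one_lt_pow hk.ne' hp.one_lt).ne'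
  set X := pts W (centralizer {w}) with hX
  have haX : a ∈ X := S.mem_pts_of_le hwa
  have hbX : b ∈ X := S.mem_pts_of_le hwb
  obtain ⟨R, hR, -⟩ := S.loc _ a b (S.setting.core_ne_top hw1 hw.fix_a) haX hbX hba (by
    rw [inf_eq_left.2 fun d hd => mem_centralizer_singleton_iff.2 (hwa d hd).eq.symm, S.cfg.card_W]
    exact S.cfg.four)
  refine ⟨hbX, R, hR, ?_⟩
  have hinf : Nat.card ↥(W a ⊓ centralizer {w}) = q := by
    rw [inf_eq_left.2 fun d hd => mem_centralizer_singleton_iff.2 (hwa d hd).eq.symm, S.cfg.card_W]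
  haveI : Fintype Ω := Fintype.ofFinite _
  haveI : Fintype G := Fintype.ofFinite _
  -- a line of `z` inside
  let S₀ : Finset Ω := insert a ((Finset.univ.filter fun e : G => e ∈ W a).image fun e => e • b)
  have hS₀ : ∀ c ∈ S₀, w • c = c ∧ (∀ d ∈ W c, Commute w d) ∧ z • c = c := by
    intro c hc
    simp only [S₀, Finset.mem_insert, Finset.mem_image, Finset.mem_filter, Finset.mem_univ,
      true_and] at hc
    rcases hc with rfl | ⟨e, he, rfl⟩
    · exact ⟨hw.fix_a, hwa, hza⟩
    refine ⟨by rw [smul_smul, (hwa e he).eq, mul_smul, hw.fix_b], fun d hd => ?_, ?_⟩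
    · have h1 : e⁻¹ * d * e ∈ W b := by
        have := S.setting.conj e⁻¹ (e • b) d hd
        rwa [inv_smul_smul, inv_inv] at this
      have h2 := ((hwa e he).mul_right (hwb _ h1)).mul_right (hwa e he).inv_right
      rwa [show e * (e⁻¹ * d * e) * e⁻¹ = d by group] at h2
    · rw [smul_smul, (S.cfg.comm z a hz hza e he).eq, mul_smul, hzb]
  have hS₀card : S₀.card = q + 1 := by
    rw [Finset.card_insert_of_notMem, Finset.card_image_of_injOn]
    · congr 1
      rw [← S.cfg.card_W a, ← Fintype.card_subtype, Nat.card_eq_fintype_card]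
    · intro e he e' he' hee
      simp only [Finset.coe_filter, Finset.mem_univ, true_and, Set.mem_ofPred_eq] at he he'
      by_contra hne
      refine hba (S.setting.unique a (e'⁻¹ * e) (mul_mem (inv_mem he') he)
        (fun h1 => hne (inv_mul_eq_one.1 h1).symm) b ?_)
      have hee' : e • b = e' • b := hee
      rw [mul_smul, hee', inv_smul_smul]
    · simp only [Finset.mem_image, Finset.mem_filter, Finset.mem_univ, true_and, not_exists, not_and]
      intro e he h1
      exact hba (MulAction.injective e (h1.trans (mem_stabilizer_iff.1 (S.setting.fix a he)).symm))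
  -- the pairs of an outer point and a middle member
  let A : Finset Ω := Finset.univ.filter fun c => c ∈ X ∧ z • c ≠ c
  let B : (c₀ : Ω) → Finset (Ω × G) := fun c₀ => Finset.univ.filter fun p =>
    p.2 ∈ W c₀ ∧ p.2 ≠ 1 ∧ (z * p.2) • p.1 = p.1 ∧ p.1 ∈ X ∧ p.1 ≠ c₀
  have hB : ∀ c₀ ∈ S₀, (q - 1) * q ≤ (B c₀).card := by
    intro c₀ hc₀
    obtain ⟨hwc, hwW, hzc⟩ := hS₀ c₀ hc₀
    have hcard : Nat.card {p : Σ f : {f : G // f ∈ W c₀ ∧ f ≠ 1},
        {c : Ω // (z * (f : G)) • c = c ∧ c ∈ X ∧ c ≠ c₀} // True} = (B c₀).card := by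
      rw [← Fintype.card_coe, ← Nat.card_eq_fintype_card]
      exact Nat.card_congr
        { toFun := fun p => ⟨(p.1.2.1, p.1.1.1), by
            simp [B, p.1.1.2.1, p.1.1.2.2, p.1.2.2.1, p.1.2.2.2.1, p.1.2.2.2.2]⟩
          invFun := fun p => ⟨⟨⟨p.1.2, by
              have := p.2; simp only [B, Finset.mem_filter] at this; exact ⟨this.2.1, this.2.2.1⟩⟩,
            ⟨p.1.1, by
              have := p.2; simp only [B, Finset.mem_filter] at this; exact this.2.2.2⟩⟩, trivial⟩
          left_inv := fun p => rfl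
          right_inv := fun p => rfl }
    rw [← hcard, Nat.card_congr (Equiv.subtypeUnivEquiv fun _ => trivial), Nat.card_sigma]
    refine le_trans ?_ (Finset.sum_le_sum fun f _ =>
      S.exists_q_fixed (S.cfg.bad_mul z c₀ hz hzc f.1 f.2.1)
        (by rw [mul_smul, mem_stabilizer_iff.1 (S.setting.fix c₀ f.2.1), hzc])
        hw.prime (hwz.mul_right (hwW f.1 f.2.1)) hwc hwW)
    rw [Finset.sum_const, Finset.card_univ, smul_eq_mul]
    refine Nat.mul_le_mul_right _ (le_of_eq ?_)
    have h1 : (Finset.univ.filter fun f : G => f ∈ W c₀).card = q := by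
      rw [← S.cfg.card_W c₀, ← Fintype.card_subtype, Nat.card_eq_fintype_card]
    rw [Fintype.card_subtype, show (Finset.univ.filter fun f : G => f ∈ W c₀ ∧ f ≠ 1) =
      (Finset.univ.filter fun f : G => f ∈ W c₀).erase 1 by ext f; simp [and_comm],
      Finset.card_erase_of_mem (by simp [one_mem]), h1]
  have hlow : (q + 1) * ((q - 1) * q) ≤ (S₀.sigma fun c₀ => B c₀).card := by
    rw [Finset.card_sigma, ← hS₀card, ← smul_eq_mul, ← Finset.sum_const]
    exact Finset.sum_le_sum hB
  have hup : (S₀.sigma fun c₀ => B c₀).card ≤ A.card * (q - 1) := by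
    let C : Finset (Σ _ : Ω, G) := A.sigma fun c => Finset.univ.filter fun f : G =>
      f ∈ swappers (members W) c (z • c)
    have hC : C.card ≤ A.card * (q - 1) := by
      rw [Finset.card_sigma]
      refine (Finset.sum_le_card_nsmul _ _ (q - 1) fun c hc => ?_).trans (le_of_eq (smul_eq_mul _ _))
      simp only [A, Finset.mem_filter] at hc
      rw [← Fintype.card_subtype, ← Nat.card_eq_fintype_card]
      have h1 : Nat.card {f : G // f ∈ swappers (members W) c (z • c)} =
          Nat.card (dat (members W) (z • c)) :=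
        S.setting.onePoint.card_swappers (OnePoint.dat_nonempty S.setting.covers c) (Ne.symm hc.2.2)
      rw [h1, S.setting.dat_eq, Nat.card_coe_set_eq, Set.ncard_eq_toFinset_card']
      refine le_of_eq ?_
      have h2 : (Finset.univ.filter fun f : G => f ∈ W (z • c)).card = q := by
        rw [← S.cfg.card_W (z • c), ← Fintype.card_subtype, Nat.card_eq_fintype_card]
      rw [Set.toFinset_ofPred, show (Finset.univ.filter fun f : G => f ∈ W (z • c) ∧ f ≠ 1) =
        (Finset.univ.filter fun f : G => f ∈ W (z • c)).erase 1 by ext f; simp [and_comm],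
        Finset.card_erase_of_mem (by simp [one_mem]), h2]
    refine le_trans (Finset.card_le_card_of_injOn
      (fun p => (⟨p.2.1, p.2.2⟩ : Σ _ : Ω, G)) (fun p hp => ?_) ?_) hC
    · obtain ⟨c₀, c, f⟩ := p
      simp only [Finset.mem_coe, Finset.mem_sigma, B, Finset.mem_filter, Finset.mem_univ, true_and] at hp
      obtain ⟨hc₀, hf, hf1, hfix, hcX, hne⟩ := hp
      obtain ⟨-, -, hzc⟩ := hS₀ c₀ hc₀
      have hfc : f • c = z • c := by
        have h1 : z • f • c = c := by rwa [← mul_smul]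
        conv_rhs => rw [← h1]
        rw [smul_smul z z, show z * z = 1 by rw [← pow_two, ← hz.1, pow_orderOf_eq_one], one_smul]
      simp only [Finset.mem_coe, C, A, Finset.mem_sigma, Finset.mem_filter, Finset.mem_univ, true_and]
      refine ⟨⟨hcX, fun h1 => hne (S.setting.unique c₀ f hf hf1 c (hfc.trans h1))⟩,
        ⟨hf1, c₀, hf⟩, hfc⟩
    · rintro ⟨c₀, c, f⟩ hp ⟨c₁, c', f'⟩ hp' h1
      simp only [Sigma.mk.inj_iff, heq_eq_eq] at h1
      obtain ⟨rfl, rfl⟩ := h1
      simp only [Finset.mem_coe, Finset.mem_sigma, B, Finset.mem_filter, Finset.mem_univ, true_and] at hp hp'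
      rw [show c₀ = c₁ from S.setting.unique c₁ f hp'.2.1 hp.2.2.1 c₀
        (mem_stabilizer_iff.1 (S.setting.fix c₀ hp.2.1))]
  have hA : (q + 1) * q ≤ A.card := by
    refine Nat.le_of_mul_le_mul_right ?_ (show 0 < q - 1 by have := S.cfg.four; omega)
    calc (q + 1) * q * (q - 1) = (q + 1) * ((q - 1) * q) := by ring
      _ ≤ A.card * (q - 1) := hlow.trans hup
  have hXcard : (q + 1) * q + (q + 1) ≤ Nat.card X := by
    rw [← hS₀card, Nat.card_eq_fintype_card, ← Set.toFinset_card]
    refine le_trans ?_ (Finset.card_le_card (s := A ∪ S₀) fun c hc => ?_)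
    · rw [Finset.card_union_of_disjoint (Finset.disjoint_left.2 fun c hc hc' => by
        simp only [A, Finset.mem_filter] at hc
        exact hc.2.2 (hS₀ c hc').2.2)]
      exact Nat.add_le_add_right (hS₀card ▸ hA) _
    · rw [Set.mem_toFinset]
      rcases Finset.mem_union.1 hc with hc | hc
      · simp only [A, Finset.mem_filter] at hc
        exact hc.2.1
      · exact S.mem_pts_of_le (hS₀ c hc).2.1
  have h1 := hR.card_pts S.setting haX hbX hba
  rw [← hX] at h1
  rcases hR.card with e | e | e <;> rw [hinf] at e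
  · exfalso; nlinarith [S.cfg.four]
  · exfalso; nlinarith [S.cfg.four]
  · exact e

end CubeSetting

end CfsgLib.LocalEven.TIEndgame
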