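import Cfsg.Agent.Lib.LocalEven.TIEndgame.Central.LinearSylow
import Cfsg.Agent.Lib.LocalEven.TIEndgame.AffineTwo
import Cfsg.Agent.Lib.LocalEven.TIEndgame.DetFour

/-!
# The linear case: a Sylow 2-subgroup at a point

A Sylow 2-subgroup `S` at `a` containing `tGroup W a z` meets `cW W a` in it and normalises `E`.
If `tGroup W a z` keeps the class of `z` modulo `W a`, so does `S`: for odd rank the determinant
on `E` would separate `z` from the members, for even rank the affine group on the classes is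
linear.
-/

set_option autoImplicit false
set_option linter.unusedSectionVars false
set_option linter.unusedVariables false
set_option linter.style.haveILetI false

namespace CfsgLib.LocalEven.TIEndgame

open MulAction Subgroup
open scoped commutatorElement

universe u

variable {G Ω : Type u} [Group G] [Finite G] [Finite Ω] [MulAction G Ω] [FaithfulSMul G Ω]

namespace LinCtx

variable {W : Ω → Subgroup G} {a b : Ω} {z : G} {Q N J : Subgroup G} (C : LinCtx W a b z Q N J)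
include C

theorem exists_pow : ∃ r : ℕ, r ≠ 0 ∧ Nat.card ↥(W a) = 2 ^ r := by
  haveI : Fact (Nat.Prime 2) := ⟨Nat.prime_two⟩
  have h2 : IsPGroup 2 ↥(W a) := fun x => ⟨1, Subtype.ext (by
    simpa [pow_two] using C.ti.sq a x x.2)⟩
  obtain ⟨r, hr⟩ := h2.exists_card_eq
  refine ⟨r, fun e => ?_, hr⟩
  have := C.q_four
  rw [hr, e] at this
  omega

variable {E : Subgroup G} (D : LinE W a z J E)
include D

theorem exists_sylow : ∃ S : Subgroup G, IsPGroup 2 S ∧ S ≤ stabilizer G a ∧ Odd S.index ∧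
    tGroup W a z ≤ S := by
  haveI : Fact (Nat.Prime 2) := ⟨Nat.prime_two⟩
  have hle : tGroup W a z ≤ stabilizer G a := fun g hg => mem_stabilizer_iff.2 (C.T_fix hg)
  obtain ⟨S, hS⟩ := ((C.T_two D).of_equiv (subgroupOfEquivOfLe hle).symm).exists_le_sylow
  refine ⟨(S : Subgroup (stabilizer G a)).map (stabilizer G a).subtype, S.2.map _, map_subtype_le _,
    ?_, fun g hg => ⟨⟨g, hle hg⟩, hS (mem_subgroupOf.2 hg), rfl⟩⟩
  haveI : IsPretransitive G Ω := ⟨C.ti.onePoint.exists_move C.ti.covers⟩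
  rw [Subgroup.index_map_subtype, index_stabilizer_of_transitive, C.points]
  obtain ⟨r, hr, hq⟩ := C.exists_pow
  refine Odd.mul ?_ (Even.add_one (Even.pow_of_ne_zero ?_ (by norm_num)))
  · rw [← Nat.not_even_iff_odd, even_iff_two_dvd]
    exact S.not_dvd_index
  · rw [hq]; exact Even.pow_of_ne_zero even_two hr

variable {S : Subgroup G} (hS2 : IsPGroup 2 S) (hSa : S ≤ stabilizer G a)
  (hTS : tGroup W a z ≤ S)
include hS2 hSa hTS

theorem sylow_inf : S ⊓ cW W a = tGroup W a z := by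
  haveI : Fact (Nat.Prime 2) := ⟨Nat.prime_two⟩
  refine le_antisymm (fun x hx => ?_) (le_inf hTS inf_le_left)
  by_cases h : ∃ g ∈ tGroup W a z, kap z g ≠ 1
  · obtain ⟨g, hg, hk⟩ := h
    have hxa : x • a = a := mem_stabilizer_iff.1 (hSa hx.1)
    obtain ⟨t, ht, htb⟩ := C.T_transitive D hg hk (c := x • b)
      (fun e => C.fam.ne (smul_left_cancel x (e.trans hxa.symm)))
    have hU := C.two_stab (U := S ⊓ cW W a ⊓ stabilizer G b)
      (hS2.to_le (inf_le_left.trans inf_le_left)) (fun u hu => hu.1.2) C.fam.ne (fun u hu => hu.2)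
      (u₀ := z) ⟨⟨hTS (C.P_le_T (C.cY_le_P C.z_cY)), C.bad_cW C.fam.bad C.fam.fix_a⟩, C.fam.fix_b⟩
      C.z_ne (t⁻¹ * x) ⟨Subgroup.mem_inf.2 ⟨mul_mem (inv_mem (hTS ht)) (Subgroup.mem_inf.1 hx).1, mul_mem (inv_mem (Subgroup.mem_inf.1 ht).1) (Subgroup.mem_inf.1 hx).2⟩,
        mem_stabilizer_iff.2 (by rw [mul_smul, inv_smul_eq_iff, htb])⟩
    rw [show x = t * (t⁻¹ * x) by group]
    refine mul_mem ht ?_
    rcases hU with e | e <;> rw [e]
    · exact one_mem _
    · exact C.P_le_T (C.cY_le_P C.z_cY)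
  · push Not at h
    set R := S ⊓ cW W a with hR
    haveI : Group.IsNilpotent R := (hS2.to_le inf_le_left : IsPGroup 2 R).isNilpotent
    by_contra hxT
    set H := (cMod W a z).subgroupOf R with hH
    have hne : H < ⊤ := lt_top_iff_ne_top.2 fun e => hxT (C.P_le_T
      (mem_subgroupOf.1 (show (⟨x, hx⟩ : R) ∈ H by rw [e]; exact mem_top _)))
    obtain ⟨y, hy, hyH⟩ := SetLike.exists_of_lt (Group.normalizerCondition_of_isNilpotent H hne)
    refine hyH (mem_subgroupOf.2 (C.T_zero D ?_ (h _ ?_)))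
    all_goals
      refine Subgroup.mem_inf.2 ⟨y.2.2, Subgroup.mem_normalizer_iff.2 fun g => ⟨fun hg => ?_, fun hg => ?_⟩⟩
    all_goals
      have hgR : ∀ k ∈ cMod W a z, k ∈ R := fun k hk => ⟨hTS (C.P_le_T hk), C.P_cW hk⟩
    all_goals first
      | exact mem_subgroupOf.1 ((Subgroup.mem_normalizer_iff.1 hy ⟨g, hgR g hg⟩).1
          (mem_subgroupOf.2 hg))
      | (have hgmem : g ∈ R := by
            have h1 := mul_mem (mul_mem (inv_mem y.2) (hgR _ hg)) y.2
            simpa [mul_assoc] using h1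
         exact mem_subgroupOf.1 ((Subgroup.mem_normalizer_iff.1 hy ⟨g, hgmem⟩).2
           (mem_subgroupOf.2 hg)))

theorem sylow_conj {g x : G} (hg : g ∈ S) (hx : x ∈ tGroup W a z) :
    g * x * g⁻¹ ∈ tGroup W a z := by
  rw [← C.sylow_inf D hS2 hSa hTS]
  exact Subgroup.mem_inf.2 ⟨mul_mem (mul_mem hg (hTS hx)) (inv_mem hg),
    C.conj_cW (mem_stabilizer_iff.1 (hSa hg)) hx.1⟩

theorem sylow_zE {g e : G} (hg : g ∈ S) (he : e ∈ E) : z * (g * (z * e) * g⁻¹) ∈ E :=
  C.T_bad D (isBad_conj g (C.zE_bad D he)) (C.sylow_conj D hS2 hSa hTS hg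
    (C.P_le_T (mul_mem (C.cY_le_P C.z_cY) (D.le_P he))))

/-- `S` normalises `E`. -/
theorem sylow_E {g e : G} (hg : g ∈ S) (he : e ∈ E) : g * e * g⁻¹ ∈ E := by
  have h1 := C.sylow_zE D hS2 hSa hTS hg (one_mem E)
  have h2 := C.sylow_zE D hS2 hSa hTS hg he
  have hi := C.zE_inv D h1
  rw [mul_one] at hi h1
  rw [← mul_assoc z z, C.z_sq, one_mul] at hi
  have : g * e * g⁻¹ = (z * (g * z * g⁻¹))⁻¹ * (z * (g * (z * e) * g⁻¹)) := by
    calc g * e * g⁻¹ = (g * z * g⁻¹) * (g * (z * e) * g⁻¹) := by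
          rw [show g * z * g⁻¹ * (g * (z * e) * g⁻¹) = g * (z * z * e) * g⁻¹ by group, C.z_sq,
            one_mul]
      _ = (z * (g * z * g⁻¹))⁻¹ * z * (g * (z * e) * g⁻¹) := by rw [← hi]
      _ = _ := by group
  rw [this]
  exact mul_mem (inv_mem h1) h2

theorem sylow_norm {g : G} (hg : g ∈ S) : g ∈ normalizer (cMod W a z : Set G) := by
  have key : ∀ k ∈ S, ∀ x ∈ cMod W a z, k * x * k⁻¹ ∈ cMod W a z := fun k hk x hx => by
    rcases D.cases x hx with h | h
    · exact D.le_P (C.sylow_E D hS2 hSa hTS hk h)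
    · have h1 := C.sylow_zE D hS2 hSa hTS hk h
      rw [← mul_assoc z z, C.z_sq, one_mul] at h1
      rw [show k * x * k⁻¹ = z * (z * (k * x * k⁻¹)) by rw [← mul_assoc z z, C.z_sq, one_mul]]
      exact mul_mem (C.cY_le_P C.z_cY) (D.le_P h1)
  refine Subgroup.mem_normalizer_iff.2 fun x => ⟨key g hg x, fun h => ?_⟩
  have := key g⁻¹ (inv_mem hg) _ h
  simpa [mul_assoc] using this

/-- Odd rank: if all of `tGroup W a z` keeps the class of `z`, contradiction. -/
theorem false_of_odd_rank (hodd : Odd S.index) (hT : ∀ g ∈ tGroup W a z, kap z g = 1) {r : ℕ}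
    (hr : Odd r) (hq : Nat.card ↥(W a) = 2 ^ r) : False := by
  have hzE : ∀ k : G, k⁻¹ * z * k ∈ S → z * (k⁻¹ * z * k) ∈ E := fun k hk => by
    have hb : IsBad Ω (k⁻¹ * z * k) := by simpa using isBad_conj k⁻¹ C.fam.bad
    refine C.T_bad D hb ?_
    rw [← C.sylow_inf D hS2 hSa hTS]
    exact ⟨hk, C.bad_cW hb (mem_stabilizer_iff.1 (hSa hk))⟩
  refine DetFour.closure_ne_top E S D.comm (fun x hx => ?_) (fun x hx hx2 => ?_) (r := r) ?_ hr ?_
    hodd (members W) (fun d hd => ?_) (u := z) C.z_sq (fun k hk x hx => ?_) (fun d hd k hk x hx => ?_)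
    C.fam.setting.gen
  · rw [show (4 : ℕ) = 2 * 2 from rfl, pow_mul, pow_two, pow_two]
    exact C.E_four D hx
  · obtain ⟨y, hy, hyx⟩ := C.exists_tau (D.invol x hx hx2)
    rcases D.cases y hy with h | h
    · exact ⟨y, h, (D.sq y h).trans hyx⟩
    · refine ⟨z * y, h, (D.sq _ h).trans ?_⟩
      rw [C.tau_mul (C.cY_le_P C.z_cY) hy, tau_eq_one.2 (Commute.refl z), one_mul, hyx]
  · rw [D.card, hq, ← pow_mul, mul_comm, pow_mul]
    norm_num
  · intro g hg
    refine Subgroup.mem_normalizer_iff.2 fun x => ⟨fun h => C.sylow_E D hS2 hSa hTS hg h, fun h => ?_⟩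
    have := C.sylow_E D hS2 hSa hTS (inv_mem hg) h
    simpa [mul_assoc] using this
  · obtain ⟨-, c, hc⟩ := hd
    exact C.ti.sq c d hc
  · have he := hzE k hk
    have hv : k⁻¹ * z * k = z * (z * (k⁻¹ * z * k)) := by rw [← mul_assoc z z, C.z_sq, one_mul]
    have hzx : z * x * z⁻¹ = x⁻¹ := by
      rw [C.zE_inv D hx, mul_inv_cancel_right]
    rw [hv]
    generalize z * (k⁻¹ * z * k) = e at he
    calc z * e * x * (z * e)⁻¹ = z * (e * x * e⁻¹) * z⁻¹ := by group
      _ = x⁻¹ := by rw [(D.comm e he x hx).eq, mul_inv_cancel_right, hzx]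
  · have hm : k⁻¹ * d * k ∈ members W := by simpa using C.ti.onePoint.conj_mem k⁻¹ d hd
    have hw := C.ti.mem_of_fixed hm (mem_stabilizer_iff.1 (hSa hk))
    rw [(C.W_central (D.le_P hx) hw).eq, mul_inv_cancel_right]

omit hS2 hSa hTS in
/-- Even rank: the affine group on the classes of `z` is linear. -/
theorem kap_eq_one_of_even (hT : ∀ g ∈ tGroup W a z, kap z g = 1) {r : ℕ} (hr : Even r)
    (hq : Nat.card ↥(W a) = 2 ^ r) {g : G} (hga : g • a = a)
    (hg : g ∈ normalizer (cMod W a z : Set G)) : kap z g = 1 := by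
  classical
  letI : CommGroup ↥(W a) := { (inferInstance : Group ↥(W a)) with
    mul_comm := fun v w => Subtype.ext (C.ti.mul_comm_of_mem v.2 w.2).eq }
  set M := stabilizer G a ⊓ normalizer (cMod W a z : Set G) with hM
  have hMa : ∀ k : M, (k : G) • a = a := fun k => mem_stabilizer_iff.1 k.2.1
  let ρ : M →* MulAut ↥(W a) := (W a).normalizerMonoidHom.comp
    (Subgroup.inclusion ((inf_le_left : M ≤ stabilizer G a).trans (C.ti.le_normalizer a)))
  have hρ : ∀ (k : M) (v : W a), ((ρ k v : W a) : G) = (k : G) * v * (k : G)⁻¹ := fun _ _ => rfl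
  let τ₀ : M → ↥(W a) := fun k => ⟨kap z k, C.kap_mem D.le_P (C.norm_tau D (hMa k) k.2.2)⟩
  have hmul : ∀ k l : M, τ₀ (k * l) = τ₀ k * ρ k (τ₀ l) := fun k l => Subtype.ext (by
    rw [Subgroup.coe_mul, hρ]
    exact C.kap_mul D (hMa k) k.2.2 (hMa l) l.2.2)
  have hker : ∀ k : M, ρ k = 1 → τ₀ k = 1 := fun k hk => Subtype.ext (hT k
    (Subgroup.mem_inf.2 ⟨mem_cW.2 ⟨hMa k, fun w hw => by
      have h1 := congrArg Subtype.val (DFunLike.congr_fun hk (⟨w, hw⟩ : W a))
      rw [hρ] at h1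
      exact (mul_inv_eq_iff_eq_mul.1 h1).symm⟩, k.2.2⟩))
  have hcongr : ∀ k l : M, ρ k = ρ l → τ₀ k = τ₀ l := fun k l h => by
    have h1 := hmul l (l⁻¹ * k)
    rwa [mul_inv_cancel_left, hker (l⁻¹ * k) (by rw [map_mul, map_inv, h, inv_mul_cancel]),
      map_one, mul_one] at h1
  have hsurj : ∀ x : ρ.range, ∃ k : M, ρ k = x := fun x => x.2
  choose σ hσ using hsurj
  have hJM : ∀ j ∈ J, j ∈ M := fun j hj => ⟨mem_stabilizer_iff.2 (C.J_fix_a hj), C.J_norm hj⟩
  haveI := C.fam.torus.cyclic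
  let ι : J →* ρ.range := ρ.rangeRestrict.comp (Subgroup.inclusion hJM)
  haveI : IsCyclic ι.range := isCyclic_of_surjective _ ι.rangeRestrict_surjective
  have hι : ∀ j : J, ((ι j : ρ.range) : MulAut ↥(W a)) = ρ ⟨j, hJM j j.2⟩ := fun _ => rfl
  have htrans : ∀ v w : W a, v ≠ 1 → w ≠ 1 → ∃ x ∈ ι.range, (x : MulAut ↥(W a)) v = w := by
    intro v w hv hw
    obtain ⟨j, hj, hjv⟩ := C.fam.torus.trans v (by rw [C.W_le_cent]; exact v.2)
      (fun e => hv (Subtype.ext e)) w (by rw [C.W_le_cent]; exact w.2)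
      (fun e => hw (Subtype.ext e))
    exact ⟨ι ⟨j, hj⟩, ⟨⟨j, hj⟩, rfl⟩, Subtype.ext (by rw [hι, hρ]; exact hjv)⟩
  have hcardJ : Nat.card ι.range + 1 = Nat.card ↥(W a) := by
    have hc := C.fam.torus.card
    rw [C.W_le_cent] at hc
    refine le_antisymm ?_ ?_
    · rw [← hc]
      exact Nat.add_le_add_right (Nat.card_le_card_of_surjective _ ι.rangeRestrict_surjective) 1
    · haveI : Fintype ↥(W a) := Fintype.ofFinite _
      obtain ⟨f, hf⟩ : ∃ f : W a, f ≠ 1 := by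
        haveI : Nontrivial ↥(W a) := Finite.one_lt_card_iff_nontrivial.1 (by
          have := C.q_four; omega)
        exact exists_ne 1
      let F : ι.range → {w : W a // w ≠ 1} := fun x => ⟨(x.1 : MulAut ↥(W a)) f,
        fun e => hf ((x.1 : MulAut ↥(W a)).injective (e.trans (map_one _).symm))⟩
      have hF : Function.Surjective F := fun ⟨w, hw⟩ => by
        obtain ⟨x, hx, hxf⟩ := htrans f w hf hw
        exact ⟨⟨x, hx⟩, Subtype.ext hxf⟩
      have h1 := Nat.card_le_card_of_surjective F hF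
      rw [Nat.card_eq_fintype_card (α := {w : W a // w ≠ 1}), Fintype.card_subtype_compl,
        Fintype.card_subtype_eq, ← Nat.card_eq_fintype_card] at h1
      omega
  have hτJ : ∀ j : J, τ₀ ⟨j, hJM j j.2⟩ = 1 := fun j => Subtype.ext (by
    show kap z (j : G) = 1
    rw [kap, tau_eq_one.2 (C.J_comm j.2), mul_one])
  have hall := AffineTwo.cocycle_eq_one (X := ρ.range) (V := ↥(W a)) ρ.range.subtype
    Subtype.val_injective (fun x => τ₀ (σ x)) (fun x y => by
      show τ₀ (σ (x * y)) = τ₀ (σ x) * (x : MulAut ↥(W a)) (τ₀ (σ y))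
      calc τ₀ (σ (x * y)) = τ₀ (σ x * σ y) := hcongr _ _ (by rw [map_mul, hσ, hσ, hσ]; rfl)
        _ = τ₀ (σ x) * ρ (σ x) (τ₀ (σ y)) := hmul _ _
        _ = τ₀ (σ x) * (x : MulAut ↥(W a)) (τ₀ (σ y)) := by rw [hσ])
    (fun v => Subtype.ext (C.ti.sq a v v.2)) hr hq ι.range hcardJ htrans
    (fun x hx => by
      obtain ⟨j, rfl⟩ := hx
      rw [hcongr _ ⟨j, hJM j j.2⟩ (by rw [hσ, hι])]
      exact hτJ j)
    (fun x hx y hy => by
      obtain ⟨j, rfl⟩ := hy
      obtain ⟨p, hp, hpb, hpc⟩ := C.exists_cover (hMa (σ x))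
        ((C.kap_eq_one D (C.norm_tau D (hMa _) (σ x).2.2)).1 (congrArg Subtype.val hx))
      have hpM : p ∈ M := ⟨mem_stabilizer_iff.2 (mem_cW.1 (C.P_cW hp)).1, C.norm_P hp⟩
      set s : M := ⟨p, hpM⟩⁻¹ * σ x with hs
      have hρs : ρ s = x := by
        rw [hs, map_mul, map_inv, hσ, show ρ ⟨p, hpM⟩ = 1 from MulEquiv.ext fun v =>
          Subtype.ext (by
            rw [hρ]
            show p * (v : G) * p⁻¹ = v
            rw [← (C.W_central hp v.2).eq, mul_inv_cancel_right]), inv_one, one_mul]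
      have hn := C.fam.torus.normal s (Subgroup.mem_centralizer_singleton_iff.2 hpc.eq.symm)
        (by rw [hs, Subgroup.coe_mul, Subgroup.coe_inv, mul_smul, hMa, inv_smul_eq_iff,
          (mem_cW.1 (C.P_cW hp)).1]) hpb j j.2
      refine ⟨⟨_, hn⟩, Subtype.ext ?_⟩
      rw [hι]
      show ρ _ = (x : MulAut ↥(W a)) * ρ ⟨j, hJM j j.2⟩ * (x : MulAut ↥(W a))⁻¹
      rw [← hρs, ← map_inv, ← map_mul, ← map_mul]
      rfl)
  have h1 := hcongr ⟨g, mem_stabilizer_iff.2 hga, hg⟩ (σ ⟨ρ ⟨g, mem_stabilizer_iff.2 hga, hg⟩, _, rfl⟩)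
    (by rw [hσ])
  rw [hall] at h1
  exact congrArg Subtype.val h1

end LinCtx

end CfsgLib.LocalEven.TIEndgame
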