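import Cfsg.Agent.Lib.LocalEven.TIEndgame.Central.LinearBasic
import Mathlib.Combinatorics.Enumerative.DoubleCounting

/-!
# The linear case: the pointwise stabiliser of a line has order two
-/

set_option autoImplicit false
set_option linter.unusedSectionVars false
set_option linter.unusedVariables false

namespace CfsgLib.LocalEven.TIEndgame

open MulAction Subgroup
open scoped commutatorElement

universe u

variable {G Ω : Type u} [Group G] [Finite G] [Finite Ω] [MulAction G Ω] [FaithfulSMul G Ω]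

/-- A subgroup acting without fixed points on a set has order dividing its size. -/
theorem card_dvd_of_free {H : Type*} [Group H] [Finite H] {X : Type*} [Finite X] [MulAction H X]
    (hfree : ∀ (h : H) (x : X), h • x = x → h = 1) : Nat.card H ∣ Nat.card X := by
  classical
  have : Fintype (orbitRel.Quotient H X) := Fintype.ofFinite _
  rw [Nat.card_congr (selfEquivSigmaOrbits H X), Nat.card_sigma]
  refine Finset.dvd_sum fun x _ => dvd_of_eq ?_
  exact Nat.card_eq_of_bijective (fun h : H => (⟨h • x.out, mem_orbit _ h⟩ : orbit H x.out))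
    ⟨fun g h e => by
      have e' : g • x.out = h • x.out := congrArg Subtype.val e
      exact (inv_mul_eq_one.1 (hfree (h⁻¹ * g) (x.out : X)
        (by rw [mul_smul, e']; exact inv_smul_smul h (x.out : X)))).symm,
    fun ⟨_, h, rfl⟩ => ⟨h, rfl⟩⟩

namespace LinCtx

variable {W : Ω → Subgroup G} {a b : Ω} {z : G} {Q N J : Subgroup G} (C : LinCtx W a b z Q N J)
include C

theorem q_four : 4 ≤ Nat.card ↥(W a) := C.fam.four

theorem card_fix_ne {v : G} (hv : IsBad Ω v) (hva : v • a = a) :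
    Nat.card {c : Ω // v • c = c ∧ c ≠ a} = Nat.card ↥(W a) := by
  classical
  have : Fintype Ω := Fintype.ofFinite Ω
  have h := C.fix_card v hv hva
  have h1 : Nat.card {c : Ω // v • c = c ∧ c ≠ a} = (Finset.univ.filter fun c : Ω => v • c = c).card - 1 := by
    rw [Nat.card_eq_fintype_card, Fintype.card_subtype,
      ← Finset.card_erase_of_mem (s := Finset.univ.filter fun c => v • c = c) (a := a) (by simp [hva])]
    congr 1
    ext c; simp; tauto
  have h2 : Nat.card (fixedBy Ω v) = (Finset.univ.filter fun c : Ω => v • c = c).card := by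
    rw [← Fintype.card_subtype, ← Nat.card_eq_fintype_card]
    rfl
  rw [h1, ← h2, h]
  omega

/-- `W a` is transitive on the further points of a line through `a`. -/
theorem exists_W_move {v : G} (hv : IsBad Ω v) (hva : v • a = a) {c c' : Ω} (hc : v • c = c)
    (hca : c ≠ a) (hc' : v • c' = c') (hca' : c' ≠ a) : ∃ w ∈ W a, w • c = c' := by
  have hW : ∀ w : ↥(W a), v • ((w : G) • c) = (w : G) • c ∧ (w : G) • c ≠ a := fun w => by
    refine ⟨by rw [← mul_smul, (C.fam.all a v hv hva w w.2).eq, mul_smul, hc], fun e => hca ?_⟩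
    exact smul_left_cancel (w : G) (e.trans (C.w_fix w.2).symm)
  have hbij : Function.Bijective (fun w : ↥(W a) => (⟨(w : G) • c, hW w⟩ :
      {x : Ω // v • x = x ∧ x ≠ a})) := by
    rw [Nat.bijective_iff_injective_and_card]
    refine ⟨fun w w' e => Subtype.ext ?_, (C.card_fix_ne hv hva).symm⟩
    have e' : (w : G) • c = (w' : G) • c := congrArg Subtype.val e
    exact (inv_mul_eq_one.1 (C.semireg (mul_mem (inv_mem w'.2) w.2) hca
      (by rw [mul_smul, e', inv_smul_smul]))).symm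
  obtain ⟨w, hw⟩ := hbij.2 ⟨c', hc', hca'⟩
  exact ⟨w, w.2, congrArg Subtype.val hw⟩

/-- Splitting an element preserving a line. -/
theorem exists_split {v s : G} (hv : IsBad Ω v) (hva : v • a = a) {c : Ω} (hc : v • c = c)
    (hca : c ≠ a) (hs : s • a = a) (hsv : Commute v s) :
    ∃ w ∈ W a, (w⁻¹ * s) • c = c := by
  obtain ⟨w, hw, hwc⟩ := C.exists_W_move hv hva hc hca (c' := s • c)
    (by rw [← mul_smul, hsv.eq, mul_smul, hc])
    (fun e => hca (smul_left_cancel s (e.trans hs.symm)))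
  exact ⟨w, hw, by rw [mul_smul, ← hwc, inv_smul_smul]⟩

theorem invol' {v : G} (hv2 : v * v = 1) (hva : v • a = a) (hvW : v ∉ W a) : IsBad Ω v :=
  (C.invol v (orderOf_eq_prime (by rw [pow_two, hv2]) fun e => hvW (e ▸ one_mem _)) hva).resolve_left
    hvW

theorem isBad_cY {n : G} (hn : n ∈ cY W a z) (hnW : n ∉ W a) : IsBad Ω n :=
  C.invol' (C.cY_sq hn) (mem_cW.1 (mem_cY.1 hn).1).1 hnW

/-- The covered points of an abelian group `S` of bad involutions and members. -/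
theorem covered {S : Subgroup G} (hS : S ≤ cW W a) (hWS : W a ≤ S)
    (hcomm : ∀ s ∈ S, ∀ t ∈ S, Commute s t) (hbad : ∀ s ∈ S, s ∉ W a → IsBad Ω s)
    (hne : ¬ S ≤ W a) :
    Nat.card {c : Ω // c ≠ a ∧ ∃ s ∈ S, s ∉ W a ∧ s • c = c} = Nat.card ↥(W a) ^ 2 ∧
      ∀ c : Ω, c ≠ a → (∃ s ∈ S, s ∉ W a ∧ s • c = c) →
        Nat.card ↥(W a) * Nat.card ↥(S ⊓ stabilizer G c) = Nat.card S := by
  classical
  have key : ∀ c : Ω, c ≠ a → (∃ s ∈ S, s ∉ W a ∧ s • c = c) →
      Nat.card ↥(W a) * Nat.card ↥(S ⊓ stabilizer G c) = Nat.card S := by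
    rintro c hca ⟨s, hs, hsW, hsc⟩
    rw [← Nat.card_prod]
    refine Nat.card_eq_of_bijective (fun p : ↥(W a) × ↥(S ⊓ stabilizer G c) =>
      (⟨(p.1 : G) * p.2, mul_mem (hWS p.1.2) (Subgroup.mem_inf.1 p.2.2).1⟩ : S)) ⟨?_, ?_⟩
    · rintro ⟨x, n⟩ ⟨y, m⟩ h
      have h' : (x : G) * n = y * m := congrArg Subtype.val h
      have h1 : (y : G)⁻¹ * x = m * (n : G)⁻¹ := by
        rw [eq_mul_inv_iff_mul_eq, mul_assoc, h', inv_mul_cancel_left]
      have h2 : (y : G)⁻¹ * x = 1 := C.semireg (mul_mem (inv_mem y.2) x.2) hca (by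
        rw [h1]
        exact mem_stabilizer_iff.1 (Subgroup.mem_inf.1 (mul_mem m.2 (inv_mem n.2))).2)
      have hxy : x = y := Subtype.ext (inv_mul_eq_one.1 h2).symm
      subst hxy
      exact Prod.ext rfl (Subtype.ext (mul_left_cancel h'))
    · rintro ⟨g, hg⟩
      obtain ⟨w, hw, hwc⟩ := C.exists_split (hbad s hs hsW) (mem_cW.1 (hS hs)).1 hsc hca
        (mem_cW.1 (hS hg)).1 (hcomm s hs g hg)
      exact ⟨(⟨w, hw⟩, ⟨w⁻¹ * g, Subgroup.mem_inf.2 ⟨mul_mem (inv_mem (hWS hw)) hg, mem_stabilizer_iff.2 hwc⟩⟩),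
        Subtype.ext (mul_inv_cancel_left w g)⟩
  refine ⟨?_, key⟩
  have : Fintype G := Fintype.ofFinite G
  have : Fintype Ω := Fintype.ofFinite Ω
  let A : Finset G := Finset.univ.filter fun s => s ∈ S ∧ s ∉ W a
  let B : Finset Ω := Finset.univ.filter fun c => c ≠ a ∧ ∃ s ∈ S, s ∉ W a ∧ s • c = c
  have hdc := Finset.sum_card_bipartiteAbove_eq_sum_card_bipartiteBelow
    (s := A) (t := B) (fun (s : G) (c : Ω) => s • c = c)
  have hA : A.card = Nat.card S - Nat.card ↥(W a) := by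
    rw [show A = (Finset.univ.filter fun s => s ∈ S) \ (Finset.univ.filter fun s => s ∈ W a) by
      ext s; simp [A], Finset.card_sdiff_of_subset (by intro s; simpa using @hWS s)]
    rw [← Fintype.card_subtype, ← Fintype.card_subtype, ← Nat.card_eq_fintype_card,
      ← Nat.card_eq_fintype_card]
  have hab : ∀ s ∈ A, (Finset.bipartiteAbove (fun (s : G) (c : Ω) => s • c = c) B s).card =
      Nat.card ↥(W a) := by
    intro s hs
    simp only [A, Finset.mem_filter, Finset.mem_univ, true_and] at hs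
    rw [← C.card_fix_ne (hbad s hs.1 hs.2) (mem_cW.1 (hS hs.1)).1, Nat.card_eq_fintype_card,
      Fintype.card_subtype]
    congr 1
    ext c
    simp only [Finset.mem_bipartiteAbove, B, Finset.mem_filter, Finset.mem_univ, true_and]
    exact ⟨fun h => ⟨h.2, h.1.1⟩, fun h => ⟨⟨h.2, s, hs.1, hs.2, h.1⟩, h.1⟩⟩
  have hbe : ∀ c ∈ B, (Finset.bipartiteBelow (fun (s : G) (c : Ω) => s • c = c) A c).card =
      Nat.card S / Nat.card ↥(W a) - 1 := by
    intro c hc
    simp only [B, Finset.mem_filter, Finset.mem_univ, true_and] at hc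
    rw [← key c hc.1 hc.2, Nat.mul_div_cancel_left _ Nat.card_pos,
      Nat.card_eq_fintype_card (α := ↥(S ⊓ stabilizer G c)), Fintype.card_subtype,
      ← Finset.card_erase_of_mem (a := (1 : G))
        (s := Finset.univ.filter fun s => s ∈ S ⊓ stabilizer G c)
        (Finset.mem_filter.2 ⟨Finset.mem_univ _, one_mem _⟩)]
    congr 1
    ext s
    simp only [Finset.mem_bipartiteBelow, A, Finset.mem_filter, Finset.mem_univ, true_and,
      Finset.mem_erase, Subgroup.mem_inf, mem_stabilizer_iff]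
    refine ⟨fun h => ⟨fun e => h.1.2 (e ▸ one_mem _), h.1.1, h.2⟩, fun h => ⟨⟨h.2.1, fun hsW => ?_⟩, h.2.2⟩⟩
    exact h.1 (C.semireg hsW hc.1 h.2.2)
  rw [Finset.sum_congr rfl hab, Finset.sum_congr rfl hbe, Finset.sum_const, Finset.sum_const,
    smul_eq_mul, smul_eq_mul, hA] at hdc
  obtain ⟨k, hk⟩ := card_dvd_of_le hWS
  rw [hk, Nat.mul_div_cancel_left _ Nat.card_pos] at hdc
  have hk2 : 2 ≤ k := by
    rcases k with _ | _ | k
    · simp at hk
    · exact absurd (eq_of_le_of_card_ge hWS (by rw [hk, zero_add, mul_one])).ge hne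
    · omega
  rw [Nat.card_eq_fintype_card (α := {c : Ω // c ≠ a ∧ _}), Fintype.card_subtype]
  have h3 : B.card * (k - 1) = Nat.card ↥(W a) ^ 2 * (k - 1) := by
    rw [← hdc, pow_two, show Nat.card ↥(W a) * k - Nat.card ↥(W a) = Nat.card ↥(W a) * (k - 1) by
      rw [Nat.mul_sub, mul_one]]
    ring
  exact Nat.eq_of_mul_eq_mul_right (by omega) h3

theorem bracket_mul_left {n m g : G} (hn : n ∈ N) (hm : m ∈ N) (hg : g ∈ cMod W a z) :
    ⁅n * m, g⁆ = ⁅m, g⁆ * ⁅n, g⁆ := by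
  have hmW : ⁅m, g⁆ ∈ W a := C.P_comm_mem (C.cY_le_P (C.N_le hm)) hg
  rw [show ⁅n * m, g⁆ = n * ⁅m, g⁆ * n⁻¹ * ⁅n, g⁆ by simp only [commutatorElement_def]; group,
    ← ((mem_cW.1 (mem_cY.1 (C.N_le hn)).1).2 _ hmW).eq, mul_inv_cancel_right]

theorem bracket_mul_right {n g h : G} (hn : n ∈ N) (hg : g ∈ cMod W a z) (hh : h ∈ cMod W a z) :
    ⁅n, g * h⁆ = ⁅n, g⁆ * ⁅n, h⁆ := by
  have hW' : ⁅n, h⁆ ∈ W a := C.P_comm_mem (C.cY_le_P (C.N_le hn)) hh
  rw [show ⁅n, g * h⁆ = ⁅n, g⁆ * (g * ⁅n, h⁆ * g⁻¹) by simp only [commutatorElement_def]; group,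
    ← (C.W_central hg hW').eq, mul_inv_cancel_right]

theorem sq_mul {n g : G} (hn : n ∈ N) : n * g * (n * g) = ⁅n, g⁆ * (g * g) := by
  have hi : n⁻¹ = n := inv_eq_of_mul_eq_one_right (C.fam.sq_N n hn)
  rw [commutatorElement_def, hi]; group

theorem zero_iff {n g : G} (hn : n ∈ N) (hg : g ∈ cMod W a z) :
    n * g * (n * g) = 1 ↔ g * g = ⁅n, g⁆ := by
  have hW' : ⁅n, g⁆ ∈ W a := C.P_comm_mem (C.cY_le_P (C.N_le hn)) hg
  rw [C.sq_mul hn, mul_eq_one_iff_inv_eq, C.w_inv hW']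
  exact eq_comm

theorem z_mem_N : z ∈ N := C.fam.mem_N

theorem notMem_cY_of_E {E : Subgroup G} (hEA : ∀ g ∈ E, g ∈ cY W a z → g ∈ W a) {g : G}
    (hg : g ∈ E) (hgW : g ∉ W a) : g ∉ cY W a z := fun h => hgW (hEA g hg h)

theorem tau_notMem {E : Subgroup G} (hEP : E ≤ cMod W a z)
    (hEA : ∀ g ∈ E, g ∈ cY W a z → g ∈ W a) {g : G} (hg : g ∈ E) (hgW : g ∉ W a) :
    ⁅z, g⁆ ≠ 1 := fun h =>
  C.notMem_cY_of_E hEA hg hgW (mem_cY.2 ⟨C.P_cW (hEP hg), tau_eq_one.1 h⟩)

theorem zero_unique {E : Subgroup G} (hEP : E ≤ cMod W a z)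
    (hEA : ∀ g ∈ E, g ∈ cY W a z → g ∈ W a) {n m g : G} (hn : n ∈ N) (hm : m ∈ N) (hg : g ∈ E)
    (hgW : g ∉ W a) (h1 : n * g * (n * g) = 1) (h2 : m * g * (m * g) = 1) : n = m := by
  rw [C.zero_iff hn (hEP hg)] at h1
  rw [C.zero_iff hm (hEP hg)] at h2
  by_contra hne
  have hnm : n * m ≠ 1 := fun e => hne (by
    rw [mul_eq_one_iff_eq_inv.1 e, inv_eq_of_mul_eq_one_right (C.fam.sq_N m hm)])
  have h0 : ⁅n * m, g⁆ = 1 := by
    rw [C.bracket_mul_left hn hm (hEP hg), ← h1, ← h2]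
    exact C.ti.sq a _ (C.P_sq (hEP hg))
  exact C.notMem_cY_of_E hEA hg hgW (by
    rw [← C.fam.cY_eq _ (mul_mem hn hm) hnm]
    exact mem_cY.2 ⟨C.P_cW (hEP hg), commutatorElement_eq_one_iff_commute.1 h0⟩)

theorem zero_transfer {E : Subgroup G} (hEP : E ≤ cMod W a z)
    (hEA : ∀ g ∈ E, g ∈ cY W a z → g ∈ W a) (hEJ : ∀ j ∈ J, ∀ g ∈ E, j * g * j⁻¹ ∈ E)
    {n g g' : G} (hn : n ∈ N) (hg : g ∈ E) (hgW : g ∉ W a) (hg' : g' ∈ E) (hgW' : g' ∉ W a)
    (h : n * g * (n * g) = 1) : n * g' * (n * g') = 1 := by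
  obtain ⟨j, hj, hjg⟩ := C.fam.torus.trans ⁅z, g⁆
    (by rw [C.W_le_cent]; exact C.tau_mem (hEP hg)) (C.tau_notMem hEP hEA hg hgW) ⁅z, g'⁆
    (by rw [C.W_le_cent]; exact C.tau_mem (hEP hg')) (C.tau_notMem hEP hEA hg' hgW')
  set d := (j * g * j⁻¹)⁻¹ * g' with hd
  have hgj : j * g * j⁻¹ ∈ E := hEJ j hj g hg
  have hdW : d ∈ W a := by
    refine hEA d (mul_mem (inv_mem hgj) hg') (mem_cY.2 ⟨C.P_cW (hEP (mul_mem (inv_mem hgj) hg')),
      tau_eq_one.1 ?_⟩)
    have h1 := C.tau_mul (hEP hgj) (hEP (mul_mem (inv_mem hgj) hg'))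
    rw [← hd, show j * g * j⁻¹ * d = g' by rw [hd]; group, C.tau_conj hj, hjg] at h1
    exact left_eq_mul.1 h1
  have hnj : j * n = n * j := (C.fam.comm_J n hn j hj).eq.symm
  have he : n * g' = j * (n * g) * j⁻¹ * d := by
    calc n * g' = (n * j) * g * j⁻¹ * d := by rw [hd]; group
      _ = j * (n * g) * j⁻¹ * d := by rw [← hnj]; group
  have hdc : Commute d (j * (n * g) * j⁻¹) :=
    C.W_central (C.P_J hj (mul_mem (C.cY_le_P (C.N_le hn)) (hEP hg))) hdW
  rw [he, show ∀ t : G, t * d * (t * d) = t * (d * t) * d from fun t => by group, hdc.eq,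
    show ∀ t : G, t * (t * d) * d = (t * t) * (d * d) from fun t => by group, C.ti.sq a d hdW,
    mul_one, show j * (n * g) * j⁻¹ * (j * (n * g) * j⁻¹) = j * (n * g * (n * g)) * j⁻¹ by group, h]
  group

theorem mul_decomp {E : Subgroup G} (hWE : W a ≤ E) (hEP : E ≤ cMod W a z)
    (hdec : ∀ g ∈ cMod W a z, ∃ n ∈ cY W a z, n⁻¹ * g ∈ E) {g : G} (hg : g ∈ cMod W a z) :
    ∃ n ∈ N, ∃ e ∈ E, g = n * e := by
  obtain ⟨y, hy, hyg⟩ := hdec g hg
  obtain ⟨x, hx, n, hn, rfl⟩ := C.fam.decomp y hy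
  rw [C.Q_eq] at hx
  refine ⟨n, hn, x * ((x * n)⁻¹ * g), mul_mem (hWE hx) hyg, ?_⟩
  have hc : Commute x n := C.W_central (C.cY_le_P (C.N_le hn)) hx
  calc g = x * n * ((x * n)⁻¹ * g) := by group
    _ = n * (x * ((x * n)⁻¹ * g)) := by rw [hc.eq, mul_assoc]

theorem card_E {E : Subgroup G} (hWE : W a ≤ E) (hEP : E ≤ cMod W a z)
    (hEA : ∀ g ∈ E, g ∈ cY W a z → g ∈ W a)
    (hdec : ∀ g ∈ cMod W a z, ∃ n ∈ cY W a z, n⁻¹ * g ∈ E) :
    Nat.card E = Nat.card ↥(W a) ^ 2 := by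
  have h : Nat.card ↥(cMod W a z) = Nat.card N * Nat.card E := by
    rw [← Nat.card_prod]
    refine (Nat.card_eq_of_bijective (fun p : N × E => (⟨(p.1 : G) * p.2,
      mul_mem (C.cY_le_P (C.N_le p.1.2)) (hEP p.2.2)⟩ : ↥(cMod W a z))) ⟨?_, ?_⟩).symm
    · rintro ⟨n, e⟩ ⟨m, f⟩ h
      have h' : (n : G) * e = m * f := congrArg Subtype.val h
      have h1 : (m : G)⁻¹ * n = f * (e : G)⁻¹ := by
        rw [eq_mul_inv_iff_mul_eq, mul_assoc, h', inv_mul_cancel_left]
      have hm : (m : G)⁻¹ * n ∈ N := mul_mem (inv_mem m.2) n.2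
      have h2 : (m : G)⁻¹ * n = 1 :=
        C.N_inf_W hm (hEA _ (h1 ▸ mul_mem f.2 (inv_mem e.2)) (C.N_le hm))
      have hnm : n = m := Subtype.ext (inv_mul_eq_one.1 h2).symm
      subst hnm
      exact Prod.ext rfl (Subtype.ext (mul_left_cancel h'))
    · rintro ⟨g, hg⟩
      obtain ⟨n, hn, e, he, rfl⟩ := C.mul_decomp hWE hEP hdec hg
      exact ⟨(⟨n, hn⟩, ⟨e, he⟩), rfl⟩
  rw [C.card_P, C.card_cY] at h
  have hN : 0 < Nat.card N := Nat.card_pos
  exact Nat.eq_of_mul_eq_mul_left hN (by rw [← h]; ring)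

theorem two_le_card_N : 2 ≤ Nat.card N := by
  rw [Nat.succ_le_iff, Finite.one_lt_card_iff_nontrivial]
  exact ⟨⟨⟨z, C.z_mem_N⟩, 1, fun e => C.z_ne (congrArg Subtype.val e)⟩⟩

theorem even_card_N : Even (Nat.card N) := by
  rw [even_iff_two_dvd, ← C.fam.bad.1]
  exact Subgroup.orderOf_dvd_natCard N C.z_mem_N

theorem card_N_le_W {E : Subgroup G} (hEP : E ≤ cMod W a z)
    (hEA : ∀ g ∈ E, g ∈ cY W a z → g ∈ W a) {g : G} (hg : g ∈ E) (hgW : g ∉ W a) :
    Nat.card N ≤ Nat.card ↥(W a) := by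
  refine Nat.card_le_card_of_injective (fun n : N => (⟨⁅(n : G), g⁆,
    C.P_comm_mem (C.cY_le_P (C.N_le n.2)) (hEP hg)⟩ : ↥(W a))) fun n m e => ?_
  have e' : ⁅(n : G), g⁆ = ⁅(m : G), g⁆ := congrArg Subtype.val e
  by_contra hne
  have hnm : (n : G) * m ≠ 1 := fun h => hne (Subtype.ext (by
    rw [mul_eq_one_iff_eq_inv.1 h, inv_eq_of_mul_eq_one_right (C.fam.sq_N m m.2)]))
  have h0 : ⁅(n : G) * m, g⁆ = 1 := by
    rw [C.bracket_mul_left n.2 m.2 (hEP hg), e']
    exact C.ti.sq a _ (C.P_comm_mem (C.cY_le_P (C.N_le m.2)) (hEP hg))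
  exact C.notMem_cY_of_E hEA hg hgW (by
    rw [← C.fam.cY_eq _ (mul_mem n.2 m.2) hnm]
    exact mem_cY.2 ⟨C.P_cW (hEP hg), commutatorElement_eq_one_iff_commute.1 h0⟩)

/-- Without bad involution outside `cY W a z` the count fails. -/
theorem false_of_no_zero {E : Subgroup G} (hWE : W a ≤ E) (hEP : E ≤ cMod W a z)
    (hdec : ∀ g ∈ cMod W a z, ∃ n ∈ cY W a z, n⁻¹ * g ∈ E)
    (hno : ∀ n ∈ N, ∀ g ∈ E, g ∉ W a → n * g * (n * g) ≠ 1) : False := by
  classical
  set q := Nat.card ↥(W a) with hq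
  have hz : z ∉ W a := C.bad_notMem C.fam.bad
  obtain ⟨hcov, -⟩ := C.covered (S := cY W a z) inf_le_left (C.W_le_cY C.fam.bad C.fam.fix_a)
    (fun s hs t ht => C.cY_comm hs ht) (fun s hs hsW => C.isBad_cY hs hsW)
    (fun h => hz (h C.z_cY))
  let P := cMod W a z
  let X : Set Ω := {c | c ≠ a ∧ ¬ ∃ s ∈ cY W a z, s ∉ W a ∧ s • c = c}
  have hPa : ∀ p : P, (p : G) • a = a := fun p => (mem_cW.1 (C.P_cW p.2)).1
  have hXinv : ∀ p : P, ∀ c ∈ X, (p : G) • c ∈ X := by
    rintro p c ⟨hca, hc⟩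
    refine ⟨fun e => hca (smul_left_cancel (p : G) (e.trans (hPa p).symm)),
      fun ⟨s, hs, hsW, hsc⟩ => hc ?_⟩
    have hsP := C.cY_le_P hs
    refine ⟨(p : G)⁻¹ * s * p, ?_, fun h => hsW ?_, ?_⟩
    · have h1 := C.P_conj_self (inv_mem p.2) hsP
      rw [inv_inv] at h1
      have h2 := mul_mem hs (C.W_le_cY C.fam.bad C.fam.fix_a h1)
      rwa [mul_inv_cancel_left] at h2
    · have := C.conj_W (hPa p) h
      rwa [show (p : G) * ((p : G)⁻¹ * s * p) * (p : G)⁻¹ = s by group] at this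
    · rw [mul_smul, mul_smul, hsc, inv_smul_smul]
  let _act : MulAction P X :=
    { smul := fun p c => ⟨(p : G) • (c : Ω), hXinv p c c.2⟩
      one_smul := fun c => Subtype.ext (one_smul G (c : Ω))
      mul_smul := fun p q c => Subtype.ext (mul_smul (p : G) (q : G) (c : Ω)) }
  have hfree : ∀ (p : P) (c : X), p • c = c → p = 1 := by
    rintro ⟨p, hp⟩ ⟨c, hca, hc⟩ h
    have hpc : p • c = c := congrArg Subtype.val h
    have hp2 : p * p = 1 := C.semireg (C.P_sq hp) hca (by rw [mul_smul, hpc, hpc])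
    by_contra h1
    have hpW : p ∉ W a := fun hw => h1 (Subtype.ext (C.semireg hw hca hpc))
    obtain ⟨n, hn, e, he, rfl⟩ := C.mul_decomp hWE hEP hdec hp
    by_cases heW : e ∈ W a
    · exact hc ⟨n * e, mul_mem (C.N_le hn) (C.W_le_cY C.fam.bad C.fam.fix_a heW), hpW, hpc⟩
    · exact hno n hn e he heW hp2
  have hX : Nat.card X = q ^ 3 - q ^ 2 := by
    have : Fintype Ω := Fintype.ofFinite Ω
    have h3 := C.points
    rw [Nat.card_eq_fintype_card] at h3
    rw [← hcov, Nat.card_eq_fintype_card, Fintype.card_subtype, Nat.card_eq_fintype_card,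
      Fintype.card_subtype]
    rw [show (Finset.univ.filter fun c => c ∈ X) = (Finset.univ.erase a) \
        (Finset.univ.filter fun c => c ≠ a ∧ ∃ s ∈ cY W a z, s ∉ W a ∧ s • c = c) by
      ext c
      simp only [X, Finset.mem_filter, Finset.mem_univ, true_and, Finset.mem_sdiff, Finset.mem_erase,
        ne_eq, and_true, Set.mem_ofPred_eq]
      by_cases hc : c = a <;> simp [hc], Finset.card_sdiff_of_subset (fun c hc => by simp at hc ⊢; exact hc.1),
      Finset.card_erase_of_mem (Finset.mem_univ a), Finset.card_univ, h3, Nat.add_sub_cancel]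
  have hdvd : Nat.card P ∣ Nat.card X := card_dvd_of_free hfree
  rw [hX, C.card_P, C.card_cY, ← hq, show q * (q * Nat.card N) = q ^ 2 * Nat.card N by ring,
    show q ^ 3 - q ^ 2 = q ^ 2 * (q - 1) by
      rw [Nat.mul_sub, mul_one]; ring_nf] at hdvd
  have h5 := Nat.dvd_of_mul_dvd_mul_left (by have := C.q_four; positivity) hdvd
  obtain ⟨k, hk⟩ := C.J_odd
  have ht := C.fam.torus.card
  rw [C.W_le_cent, hk, ← hq] at ht
  have h2 : 2 ∣ q - 1 := dvd_trans C.even_card_N.two_dvd h5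
  omega

set_option maxHeartbeats 1000000 in
-- two counts in one proof
/-- An elementary complement is impossible. -/
theorem false_of_elementary {E : Subgroup G} (hWE : W a ≤ E) (hEP : E ≤ cMod W a z)
    (hEA : ∀ g ∈ E, g ∈ cY W a z → g ∈ W a)
    (hdec : ∀ g ∈ cMod W a z, ∃ n ∈ cY W a z, n⁻¹ * g ∈ E)
    (hsq : ∀ g ∈ E, g * g = 1) : False := by
  classical
  set q := Nat.card ↥(W a) with hq
  have h4 := C.q_four
  have hE := C.card_E hWE hEP hEA hdec
  have hEW : ¬ E ≤ W a := fun h => by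
    have := card_le_of_le h
    rw [hE, ← hq] at this
    nlinarith
  obtain ⟨g₀, hg₀, hg₀W⟩ := SetLike.not_le_iff_exists.1 hEW
  have hEc : ∀ s ∈ E, ∀ t ∈ E, Commute s t := by
    intro s hs t ht
    have hi : ∀ r ∈ E, r⁻¹ = r := fun r hr => inv_eq_of_mul_eq_one_right (hsq r hr)
    show s * t = t * s
    calc s * t = (s * t)⁻¹ := (hi _ (mul_mem hs ht)).symm
      _ = t⁻¹ * s⁻¹ := mul_inv_rev s t
      _ = t * s := by rw [hi s hs, hi t ht]
  have hEbad : ∀ s ∈ E, s ∉ W a → IsBad Ω s := fun s hs hsW =>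
    C.invol' (hsq s hs) (mem_cW.1 (C.P_cW (hEP hs))).1 hsW
  -- `|N| = q`
  have hNq : Nat.card N = q := by
    refine le_antisymm (C.card_N_le_W hEP hEA hg₀ hg₀W) ?_
    have hbad := hEbad g₀ hg₀ hg₀W
    have ha := (mem_cW.1 (C.P_cW (hEP hg₀))).1
    have h1 : E ≤ cY W a g₀ := fun s hs => mem_cY.2 ⟨C.P_cW (hEP hs), hEc g₀ hg₀ s hs⟩
    have h2 := (card_le_of_le h1).trans (C.fam.maximal g₀ hbad ha)
    rw [hE, C.card_cY, ← hq] at h2
    exact Nat.le_of_mul_le_mul_left (by rw [← pow_two]; exact h2) (by omega)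
  obtain ⟨hcovA, -⟩ := C.covered (S := cY W a z) inf_le_left (C.W_le_cY C.fam.bad C.fam.fix_a)
    (fun s hs t ht => C.cY_comm hs ht) (fun s hs hsW => C.isBad_cY hs hsW)
    (fun h => C.bad_notMem C.fam.bad (h C.z_cY))
  obtain ⟨hcovE, -⟩ := C.covered (S := E) (fun s hs => C.P_cW (hEP hs)) hWE hEc hEbad hEW
  let P := cMod W a z
  have hPa : ∀ p : P, (p : G) • a = a := fun p => (mem_cW.1 (C.P_cW p.2)).1
  have hconj : ∀ (H : Subgroup G), W a ≤ H → H ≤ P → ∀ p : P, ∀ s ∈ H, (p : G)⁻¹ * s * p ∈ H :=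
    fun H h1 h2 p s hs => by
      have h := C.P_conj_self (inv_mem p.2) (h2 hs)
      rw [inv_inv] at h
      have h' := mul_mem hs (h1 h)
      rwa [mul_inv_cancel_left] at h'
  let cov : Subgroup G → Ω → Prop := fun H c => ∃ s ∈ H, s ∉ W a ∧ s • c = c
  have hcovinv : ∀ H : Subgroup G, W a ≤ H → H ≤ P → ∀ p : P, ∀ c,
      cov H ((p : G) • c) → cov H c := by
    rintro H h1 h2 p c ⟨s, hs, hsW, hsc⟩
    refine ⟨(p : G)⁻¹ * s * p, hconj H h1 h2 p s hs, fun h => hsW ?_, ?_⟩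
    · have := C.conj_W (hPa p) h
      rwa [show (p : G) * ((p : G)⁻¹ * s * p) * (p : G)⁻¹ = s by group] at this
    · rw [mul_smul, mul_smul, hsc, inv_smul_smul]
  have hAP : cY W a z ≤ P := C.cY_le_P
  -- no point is covered twice
  have hdisj : ∀ c, c ≠ a → cov (cY W a z) c → cov E c → False := by
    rintro c hca ⟨n, hn, hnW, hnc⟩ ⟨e, he, heW, hec⟩
    have hne : Commute n e := by
      have hp : n * e ∈ P := mul_mem (hAP hn) (hEP he)
      have hpp : n * e * (n * e) = 1 := C.semireg (C.P_sq hp) hca (by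
        simp only [mul_smul, hec, hnc])
      show n * e = e * n
      rw [← inv_eq_of_mul_eq_one_right hpp, mul_inv_rev,
        inv_eq_of_mul_eq_one_right (hsq e he), inv_eq_of_mul_eq_one_right (C.cY_sq hn)]
    obtain ⟨x, hx, n', hn', rfl⟩ := C.fam.decomp n hn
    rw [C.Q_eq] at hx
    have hn1 : n' ≠ 1 := fun h => hnW (by rw [h, mul_one]; exact hx)
    have hne' : Commute n' e := by
      have h := ((C.W_central (hEP he) hx).inv_left).mul_left hne
      rwa [inv_mul_cancel_left] at h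
    exact C.notMem_cY_of_E hEA he heW (by
      rw [← C.fam.cY_eq n' hn' hn1]; exact mem_cY.2 ⟨C.P_cW (hEP he), hne'⟩)
  let X : Set Ω := {c | c ≠ a ∧ ¬ cov (cY W a z) c ∧ ¬ cov E c}
  let _act : MulAction P X :=
    { smul := fun p c => ⟨(p : G) • (c : Ω),
        fun e => c.2.1 (smul_left_cancel (p : G) (e.trans (hPa p).symm)),
        fun h => c.2.2.1 (hcovinv _ (C.W_le_cY C.fam.bad C.fam.fix_a) hAP p _ h),
        fun h => c.2.2.2 (hcovinv _ hWE hEP p _ h)⟩
      one_smul := fun c => Subtype.ext (one_smul G (c : Ω))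
      mul_smul := fun p q c => Subtype.ext (mul_smul (p : G) (q : G) (c : Ω)) }
  have hfree : ∀ (p : P) (c : X), p • c = c → p = 1 := by
    rintro ⟨p, hp⟩ ⟨c, hca, hcA, hcE⟩ h
    have hpc : p • c = c := congrArg Subtype.val h
    have hp2 : p * p = 1 := C.semireg (C.P_sq hp) hca (by rw [mul_smul, hpc, hpc])
    by_contra h1
    have hpW : p ∉ W a := fun hw => h1 (Subtype.ext (C.semireg hw hca hpc))
    obtain ⟨n, hn, e, he, rfl⟩ := C.mul_decomp hWE hEP hdec hp
    by_cases heW : e ∈ W a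
    · exact hcA ⟨n * e, mul_mem (C.N_le hn) (C.W_le_cY C.fam.bad C.fam.fix_a heW), hpW, hpc⟩
    · have hn1 : n = 1 := C.zero_unique hEP hEA hn (one_mem N) he heW hp2
        (by rw [one_mul]; exact hsq e he)
      subst hn1
      rw [one_mul] at hpc
      exact hcE ⟨e, he, heW, hpc⟩
  have hX : Nat.card X = q ^ 3 - 2 * q ^ 2 := by
    have : Fintype Ω := Fintype.ofFinite Ω
    have h3 := C.points
    rw [Nat.card_eq_fintype_card] at h3
    rw [Nat.card_eq_fintype_card, Fintype.card_subtype] at hcovA hcovE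
    rw [Nat.card_eq_fintype_card, Fintype.card_subtype]
    rw [show (Finset.univ.filter fun c => c ∈ X) = (Finset.univ.erase a) \
        ((Finset.univ.filter fun c => c ≠ a ∧ cov (cY W a z) c) ∪
         (Finset.univ.filter fun c => c ≠ a ∧ cov E c)) by
      ext c
      simp only [X, Finset.mem_filter, Finset.mem_univ, true_and, Finset.mem_sdiff, Finset.mem_erase,
        Finset.mem_union, ne_eq, and_true, Set.mem_ofPred_eq]
      by_cases hc : c = a <;> simp [hc],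
      Finset.card_sdiff_of_subset (fun c hc => by simp at hc ⊢; rcases hc with hc | hc <;> exact hc.1),
      Finset.card_erase_of_mem (Finset.mem_univ a), Finset.card_univ, h3, Nat.add_sub_cancel,
      Finset.card_union_of_disjoint, hcovA, hcovE, two_mul]
    rw [Finset.disjoint_filter]
    exact fun c _ h1 h2 => hdisj c h1.1 h1.2 h2.2
  have hdvd : Nat.card P ∣ Nat.card X := card_dvd_of_free hfree
  rw [hX, C.card_P, C.card_cY, hNq, ← hq, show q * (q * q) = q ^ 3 by ring] at hdvd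
  have hlt : q ^ 3 - 2 * q ^ 2 < q ^ 3 := Nat.sub_lt (by positivity) (by positivity)
  have h0 := Nat.eq_zero_of_dvd_of_lt hdvd hlt
  have h6 : 2 * q ^ 2 < q ^ 3 := by nlinarith
  omega

/-- In the linear case `N = {1, z}`, and `P` is `E` extended by `z` inverting it. -/
theorem structure_P : ∃ E : Subgroup G, W a ≤ E ∧ E ≤ cMod W a z ∧
    (∀ j ∈ J, ∀ g ∈ E, j * g * j⁻¹ ∈ E) ∧ (∀ n ∈ N, n = 1 ∨ n = z) ∧
    (∀ g ∈ E, g * g = ⁅z, g⁆) ∧ (∀ g ∈ E, g * g = 1 → g ∈ W a) ∧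
    (∀ g ∈ E, ∀ h ∈ E, Commute g h) ∧ (∀ g ∈ cMod W a z, g ∈ E ∨ z * g ∈ E) ∧ z ∉ E ∧
    Nat.card E = Nat.card ↥(W a) ^ 2 := by
  classical
  obtain ⟨E, hWE, hEP, hEA, hdec, hEJ⟩ := C.exists_E
  have hE := C.card_E hWE hEP hEA hdec
  set q := Nat.card ↥(W a) with hq
  have h4 : 4 ≤ q := C.q_four
  have hEW : ¬ E ≤ W a := fun h => by
    have := card_le_of_le h
    rw [hE, ← hq] at this
    nlinarith
  obtain ⟨g₀, hg₀, hg₀W⟩ := SetLike.not_le_iff_exists.1 hEW
  -- a zero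
  obtain ⟨n₀, hn₀, g₁, hg₁, hg₁W, hz₁⟩ :
      ∃ n₀ ∈ N, ∃ g ∈ E, g ∉ W a ∧ n₀ * g * (n₀ * g) = 1 := by
    by_contra h
    push Not at h
    exact C.false_of_no_zero hWE hEP hdec h
  have hall : ∀ g ∈ E, g * g = ⁅n₀, g⁆ := by
    intro g hg
    by_cases hgW : g ∈ W a
    · rw [C.ti.sq a g hgW, eq_comm, commutatorElement_eq_one_iff_commute]
      exact (C.W_central (C.cY_le_P (C.N_le hn₀)) hgW).symm
    · exact (C.zero_iff hn₀ (hEP hg)).1 (C.zero_transfer hEP hEA hEJ hn₀ hg₁ hg₁W hg hgW hz₁)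
  have hn₀1 : n₀ ≠ 1 := by
    rintro rfl
    exact C.false_of_elementary hWE hEP hEA hdec fun g hg => by
      rw [hall g hg, commutatorElement_one_left]
  have hEc : ∀ g ∈ E, ∀ h ∈ E, Commute g h := by
    intro g hg h hh
    have h1 := hall (g * h) (mul_mem hg hh)
    rw [C.bracket_mul_right hn₀ (hEP hg) (hEP hh), ← hall g hg, ← hall h hh] at h1
    show g * h = h * g
    have h2 : g * (h * g) * h = g * (g * h) * h :=
      calc g * (h * g) * h = g * h * (g * h) := by group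
        _ = g * g * (h * h) := h1
        _ = g * (g * h) * h := by group
    exact (mul_left_cancel (mul_right_cancel h2)).symm
  -- the centraliser of the bad involution `x = n₀ g₁`
  set x := n₀ * g₁ with hx
  have hxP : x ∈ cMod W a z := mul_mem (C.cY_le_P (C.N_le hn₀)) (hEP hg₁)
  have hxW : x ∉ W a := fun h => hn₀1 (by
    have : n₀ ∈ E := by
      have h' := mul_mem (hWE h) (inv_mem hg₁)
      rwa [hx, mul_inv_cancel_right] at h'
    exact C.N_inf_W hn₀ (hEA _ this (C.N_le hn₀)))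
  have hxa : x • a = a := (mem_cW.1 (C.P_cW hxP)).1
  have hxbad : IsBad Ω x := C.invol' hz₁ hxa hxW
  let φ : ↥(cMod W a z) →* ↥(W a) := MonoidHom.mk'
    (fun p => ⟨⁅x, (p : G)⁆, C.P_comm_mem hxP p.2⟩) (fun p p' => Subtype.ext (by
      show ⁅x, (p : G) * p'⁆ = ⁅x, (p : G)⁆ * ⁅x, (p' : G)⁆
      rw [show ⁅x, (p : G) * p'⁆ = ⁅x, (p : G)⁆ * ((p : G) * ⁅x, (p' : G)⁆ * (p : G)⁻¹) by
          simp only [commutatorElement_def]; group,
        ← (C.W_central p.2 (C.P_comm_mem hxP p'.2)).eq, mul_inv_cancel_right]))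
  set K := φ.ker.map (cMod W a z).subtype with hK
  have hKmem : ∀ g, g ∈ K ↔ g ∈ cMod W a z ∧ Commute x g := fun g => by
    rw [hK, Subgroup.mem_map]
    constructor
    · rintro ⟨p, hp, rfl⟩
      exact ⟨p.2, commutatorElement_eq_one_iff_commute.1 (congrArg Subtype.val hp)⟩
    · exact fun ⟨hg, hc⟩ => ⟨⟨g, hg⟩, Subtype.ext (commutatorElement_eq_one_iff_commute.2 hc), rfl⟩
  have hKcard : q * Nat.card N ≤ Nat.card K := by
    have h1 : Nat.card φ.range ≤ q := card_le_card_group _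
    have h2 : Nat.card ↥(cMod W a z) = Nat.card φ.range * Nat.card φ.ker := by
      rw [Subgroup.card_eq_card_quotient_mul_card_subgroup φ.ker,
        Nat.card_congr (QuotientGroup.quotientKerEquivRange φ).toEquiv]
    rw [hK, Subgroup.card_map_of_injective (Subgroup.subtype_injective _)]
    rw [C.card_P, C.card_cY, ← hq] at h2
    by_contra hlt
    push Not at hlt
    have : Nat.card φ.range * Nat.card φ.ker < q * (q * Nat.card N) :=
      lt_of_le_of_lt (Nat.mul_le_mul_right _ h1) ((Nat.mul_lt_mul_left (by omega)).2 hlt)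
    omega
  -- `K` is elementary
  obtain ⟨c, hca, hxc⟩ : ∃ c, c ≠ a ∧ x • c = c := by
    obtain ⟨-, p, p', hpp, hp, hp'⟩ := hxbad
    by_cases h : p = a
    · exact ⟨p', fun e => hpp (h.trans e.symm), hp'⟩
    · exact ⟨p, h, hp⟩
  have hKsq : ∀ s ∈ K, s * s = 1 := by
    intro s hs
    obtain ⟨hsP, hsx⟩ := (hKmem s).1 hs
    obtain ⟨w, hw, hwc⟩ := C.exists_split hxbad hxa hxc hca (mem_cW.1 (C.P_cW hsP)).1 hsx
    have h2 : w⁻¹ * s * (w⁻¹ * s) = 1 := C.semireg (C.P_sq (mul_mem (inv_mem (C.W_le_P hw)) hsP))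
      hca (by rw [mul_smul, hwc, hwc])
    have hc : Commute w s := C.W_central hsP hw
    calc s * s = (w * w) * (s * s) := by rw [C.ti.sq a w hw, one_mul]
      _ = w * (w * s) * s := by group
      _ = w * (s * w) * s := by rw [hc.eq]
      _ = (w * s) * (w * s) := by group
      _ = 1 := by rw [← C.w_inv hw]; exact h2
  -- every element of `K` is in `W a` times `1` or `n₀`
  have hKsub : ∀ s ∈ K, ∀ n ∈ N, ∀ e ∈ E, s = n * e → n = 1 ∨ n = n₀ := by
    intro s hs n hn e he hse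
    by_cases heW : e ∈ W a
    · by_contra hne
      push Not at hne
      obtain ⟨hsP, hsx⟩ := (hKmem s).1 hs
      have hce : Commute x e := (C.W_central hxP heW).symm
      have hnx : Commute n x := by
        have h := (hsx.mul_right hce.inv_right).symm
        rwa [hse, mul_inv_cancel_right] at h
      have hng : Commute n g₁ := by
        have h := ((C.cY_comm (C.N_le hn) (C.N_le hn₀)).inv_right).mul_right hnx
        rwa [hx, inv_mul_cancel_left] at h
      exact C.notMem_cY_of_E hEA hg₁ hg₁W (by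
        rw [← C.fam.cY_eq n hn hne.1]; exact mem_cY.2 ⟨C.P_cW (hEP hg₁), hng⟩)
    · exact Or.inr (C.zero_unique hEP hEA hn hn₀ he heW (by rw [← hse]; exact hKsq s hs)
        ((C.zero_iff hn₀ (hEP he)).2 (hall e he)))
  have hKE : ∀ e ∈ E, e ∈ K → e ∈ W a := by
    intro e he heK
    by_contra heW
    exact hn₀1 (C.zero_unique hEP hEA (one_mem N) hn₀ he heW (by rw [one_mul]; exact hKsq e heK)
      ((C.zero_iff hn₀ (hEP he)).2 (hall e he))).symm
  have hN2 : Nat.card N = 2 := by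
    refine le_antisymm ?_ C.two_le_card_N
    have hcover : Nat.card K ≤ q * 2 := by
      have hKn : ∀ s ∈ K, s ∉ E → x⁻¹ * s ∈ W a := by
        intro s hs hsE
        obtain ⟨n, hn, e, he, hse⟩ := C.mul_decomp hWE hEP hdec ((hKmem s).1 hs).1
        rcases hKsub s hs n hn e he hse with h | h
        · exact absurd (by rw [hse, h, one_mul]; exact he) hsE
        · have hxK : x ∈ K := (hKmem x).2 ⟨hxP, Commute.refl x⟩
          refine hKE _ ?_ (mul_mem (inv_mem hxK) hs)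
          rw [hse, h, hx, show (n₀ * g₁)⁻¹ * (n₀ * e) = g₁⁻¹ * e by group]
          exact mul_mem (inv_mem hg₁) he
      let F : K → ↥(W a) × Bool := fun s =>
        if h : (s : G) ∈ E then (⟨s, hKE s h s.2⟩, false) else (⟨x⁻¹ * s, hKn s s.2 h⟩, true)
      have hF : Function.Injective F := by
        intro s t h
        simp only [F] at h
        split_ifs at h with h1 h2 h2
        · exact Subtype.ext (congrArg (fun p : ↥(W a) × Bool => (p.1 : G)) h)
        · simp at h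
        · simp at h
        · exact Subtype.ext (mul_left_cancel (congrArg (fun p : ↥(W a) × Bool => (p.1 : G)) h))
      have := Nat.card_le_card_of_injective F hF
      rwa [Nat.card_prod, show Nat.card Bool = 2 by simp, ← hq] at this
    have := hKcard.trans hcover
    exact Nat.le_of_mul_le_mul_left this (by omega)
  have hN : ∀ n ∈ N, n = 1 ∨ n = z := by
    intro n hn
    by_contra h
    push Not at h
    have : Fintype N := Fintype.ofFinite N
    rw [Nat.card_eq_fintype_card] at hN2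
    have h3 : ({1, ⟨z, C.z_mem_N⟩, ⟨n, hn⟩} : Finset N).card = 3 :=
      Finset.card_eq_three.2 ⟨_, _, _, fun e => C.z_ne (congrArg Subtype.val e).symm,
        fun e => h.1 (congrArg Subtype.val e).symm,
        fun e => h.2 (congrArg Subtype.val e).symm, rfl⟩
    have := Finset.card_le_univ ({1, ⟨z, C.z_mem_N⟩, ⟨n, hn⟩} : Finset N)
    omega
  have hn₀z : n₀ = z := (hN n₀ hn₀).resolve_left hn₀1
  subst hn₀z
  refine ⟨E, hWE, hEP, hEJ, hN, hall, fun g hg hg2 => ?_, hEc, fun g hg => ?_, fun hzE => ?_, hE⟩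
  · rw [hall g hg] at hg2
    by_contra hgW
    exact C.tau_notMem hEP hEA hg hgW hg2
  · obtain ⟨n, hn, e, he, rfl⟩ := C.mul_decomp hWE hEP hdec hg
    rcases hN n hn with rfl | rfl
    · exact Or.inl (by rw [one_mul]; exact he)
    · exact Or.inr (by rw [← mul_assoc, C.z_sq, one_mul]; exact he)
  · exact C.bad_notMem C.fam.bad (hEA _ hzE C.z_cY)

end LinCtx

end CfsgLib.LocalEven.TIEndgame
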