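import Cfsg.Agent.Lib.LocalEven.TIEndgame.Central.LinearCases
import Cfsg.Agent.Lib.LocalEven.TIEndgame.Classify

/-!
# The linear case: the 2-elements at a point

`E` is the homocyclic subgroup of `cMod W a z` inverted by `z`.  The coset `z E` covers the further
points.  `T` is the part of `cW W a` normalising `cMod W a z`; it fixes the translation classes of
`z` modulo `W a`, or it is transitive on the further points.
-/

set_option autoImplicit false
set_option linter.unusedSectionVars false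
set_option linter.unusedVariables false
set_option linter.style.haveILetI false

namespace CfsgLib.LocalEven.TIEndgame

open MulAction Subgroup
open scoped commutatorElement

universe u

variable {G Ω : Type u} [Group G] [Finite G] [Finite Ω] [MulAction G Ω] [FaithfulSMul G Ω]

/-- The homocyclic subgroup of the linear case. -/
structure LinE (W : Ω → Subgroup G) (a : Ω) (z : G) (J E : Subgroup G) : Prop where
  W_le : W a ≤ E
  le_P : E ≤ cMod W a z
  conj_J : ∀ j ∈ J, ∀ g ∈ E, j * g * j⁻¹ ∈ E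
  sq : ∀ g ∈ E, g * g = ⁅z, g⁆
  invol : ∀ g ∈ E, g * g = 1 → g ∈ W a
  comm : ∀ g ∈ E, ∀ h ∈ E, Commute g h
  cases : ∀ g ∈ cMod W a z, g ∈ E ∨ z * g ∈ E
  notMem : z ∉ E
  card : Nat.card E = Nat.card ↥(W a) ^ 2

/-- The square of the translation class of `z` under `g`. -/
def kap (z g : G) : G := ⁅z, g⁆ * ⁅z, g⁆

omit [Finite G] [Finite Ω] [FaithfulSMul G Ω] in
theorem conj_eq_z_mul_comm {z : G} (hz : z * z = 1) (g : G) : g * z * g⁻¹ = z * ⁅z, g⁆ := by
  have hzi : z⁻¹ = z := inv_eq_of_mul_eq_one_right hz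
  rw [commutatorElement_def, hzi]
  calc g * z * g⁻¹ = (z * z) * (g * z * g⁻¹) := by rw [hz, one_mul]
    _ = z * (z * g * z * g⁻¹) := by group

/-- The part of `cW W a` normalising `cMod W a z`. -/
def tGroup (W : Ω → Subgroup G) (a : Ω) (z : G) : Subgroup G :=
  cW W a ⊓ normalizer (cMod W a z : Set G)

namespace LinCtx

variable {W : Ω → Subgroup G} {a b : Ω} {z : G} {Q N J : Subgroup G} (C : LinCtx W a b z Q N J)
include C

theorem N_cases : ∀ n ∈ N, n = 1 ∨ n = z := by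
  obtain ⟨E, -, -, -, hN, -⟩ := C.structure_P
  exact hN

theorem exists_linE : ∃ E : Subgroup G, LinE W a z J E := by
  obtain ⟨E, h1, h2, h3, -, h5, h6, h7, h8, h9, h10⟩ := C.structure_P
  exact ⟨E, h1, h2, h3, h5, h6, h7, h8, h9, h10⟩

theorem card_cY_le {v : G} (hv : IsBad Ω v) (hva : v • a = a) :
    Nat.card ↥(cY W a v) ≤ Nat.card ↥(W a) * 2 := by
  refine (C.fam.maximal v hv hva).trans ?_
  rw [C.card_cY]
  refine Nat.mul_le_mul_left _ ?_
  classical
  refine le_trans (Nat.card_le_card_of_injective (fun n : N => decide ((n : G) = 1)) ?_)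
    (le_of_eq (by simp))
  intro n m h
  simp only [decide_eq_decide] at h
  apply Subtype.ext
  rcases C.N_cases n n.2 with e | e <;> rcases C.N_cases m m.2 with e' | e'
  · rw [e, e']
  · exact absurd (e'.symm.trans (h.1 e)) C.z_ne
  · exact absurd (e.symm.trans (h.2 e')) C.z_ne
  · rw [e, e']

/-- The centraliser in `cW W a` of a bad involution `v` is `W a` times `v`. -/
theorem cY_cases {v g : G} (hv : IsBad Ω v) (hva : v • a = a) (hg : g ∈ cY W a v) :
    g ∈ W a ∨ v * g ∈ W a := by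
  have hv1 : v * v = 1 := by rw [← pow_two, ← hv.1, pow_orderOf_eq_one]
  have hvY : v ∈ cY W a v := mem_cY.2 ⟨C.bad_cW hv hva, Commute.refl v⟩
  have hmem : ∀ p : ↥(W a) × Bool, (if p.2 then v * (p.1 : G) else (p.1 : G)) ∈ cY W a v := by
    rintro ⟨w, t⟩
    cases t
    · exact C.W_le_cY hv hva w.2
    · exact mul_mem hvY (C.W_le_cY hv hva w.2)
  have hbij : Function.Bijective (fun p : ↥(W a) × Bool => (⟨_, hmem p⟩ : ↥(cY W a v))) := by
    refine Function.Injective.bijective_of_nat_card_le ?_ ?_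
    · rintro ⟨w, t⟩ ⟨w', t'⟩ h
      have h' : (if t then v * (w : G) else (w : G)) = if t' then v * (w' : G) else (w' : G) :=
        congrArg Subtype.val h
      have hno : ∀ x y : ↥(W a), v * (x : G) ≠ y := fun x y e =>
        C.bad_notMem (a := a) hv (by
          have := mul_mem y.2 (inv_mem x.2)
          rwa [← e, mul_inv_cancel_right] at this)
      cases t <;> cases t' <;> simp at h'
      · exact Prod.ext h' rfl
      · exact absurd h'.symm (hno _ _)
      · exact absurd h' (hno _ _)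
      · exact Prod.ext h' rfl
    · rw [Nat.card_prod, show Nat.card Bool = 2 by simp]
      exact C.card_cY_le hv hva
  obtain ⟨⟨w, t⟩, h⟩ := hbij.2 ⟨g, hg⟩
  have h' : (if t then v * (w : G) else (w : G)) = g := congrArg Subtype.val h
  cases t <;> simp at h'
  · exact Or.inl (h' ▸ w.2)
  · refine Or.inr ?_
    rw [← h', ← mul_assoc, hv1, one_mul]
    exact w.2

/-- A 2-group of `cW W a` fixing a further point has at most two elements. -/
theorem two_stab {U : Subgroup G} (hU : IsPGroup 2 U) (hUY : U ≤ cW W a) {c : Ω} (hc : c ≠ a)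
    (hUc : ∀ u ∈ U, u • c = c) {u₀ : G} (hu₀ : u₀ ∈ U) (hu₀1 : u₀ ≠ 1) :
    ∀ u ∈ U, u = 1 ∨ u = u₀ := by
  haveI : Fact (Nat.Prime 2) := ⟨Nat.prime_two⟩
  haveI : Nontrivial U := ⟨⟨⟨u₀, hu₀⟩, 1, fun e => hu₀1 (congrArg Subtype.val e)⟩⟩
  haveI := hU.center_nontrivial
  obtain ⟨k, hk⟩ := (hU.to_subgroup (Subgroup.center U)).exists_card_eq
  have h1 : 1 < Nat.card (Subgroup.center U) := Finite.one_lt_card
  have hk0 : k ≠ 0 := fun e => by rw [hk, e] at h1; simp at h1
  obtain ⟨x, hx⟩ := exists_prime_orderOf_dvd_card' (G := Subgroup.center U) 2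
    (hk ▸ dvd_pow_self 2 hk0)
  set v : G := ((x : U) : G) with hvdef
  have hv2 : orderOf v = 2 := by rw [hvdef, Subgroup.orderOf_coe, Subgroup.orderOf_coe, hx]
  have hvU : v ∈ U := (x : U).2
  have hva : v • a = a := (mem_cW.1 (hUY hvU)).1
  have hvv : v * v = 1 := by rw [← pow_two, ← hv2, pow_orderOf_eq_one]
  have hv1 : v ≠ 1 := fun e => by rw [e, orderOf_one] at hv2; omega
  have hbad : IsBad Ω v :=
    C.invol' hvv hva fun hw => hv1 (C.semireg hw hc (hUc v hvU))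
  have hall : ∀ u ∈ U, u = 1 ∨ u = v := by
    intro u hu
    have hcom : Commute v u :=
      (congrArg Subtype.val (Subgroup.mem_center_iff.1 x.2 ⟨u, hu⟩)).symm
    rcases C.cY_cases hbad hva (mem_cY.2 ⟨hUY hu, hcom⟩) with h | h
    · exact Or.inl (C.semireg h hc (hUc u hu))
    · have h' := C.semireg h hc (by rw [mul_smul, hUc u hu, hUc v hvU])
      exact Or.inr (by rw [← mul_eq_one_iff_inv_eq.1 h', inv_eq_of_mul_eq_one_right hvv])
  rcases hall u₀ hu₀ with h | h
  · exact absurd h hu₀1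
  · rw [h]; exact hall

theorem zero_conj (g : G) : g * z * g⁻¹ = z * ⁅z, g⁆ := conj_eq_z_mul_comm C.z_sq g

variable {E : Subgroup G} (D : LinE W a z J E)
include D

theorem E_fix {g : G} (hg : g ∈ E) : g • a = a := (mem_cW.1 (C.P_cW (D.le_P hg))).1

theorem E_four {g : G} (hg : g ∈ E) : g * g * (g * g) = 1 := C.ti.sq a _ (C.P_sq (D.le_P hg))

theorem zE_sq {g : G} (hg : g ∈ E) : z * g * (z * g) = 1 := by
  have h : z * g * z⁻¹ * g⁻¹ = g * g := by rw [D.sq g hg, commutatorElement_def]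
  calc z * g * (z * g) = (z * g * z⁻¹ * g⁻¹) * g * ((z * z) * g) := by group
    _ = g * g * g * g := by rw [h, C.z_sq, one_mul]
    _ = g * g * (g * g) := by group
    _ = 1 := C.E_four D hg

theorem zE_inv {g : G} (hg : g ∈ E) : z * g = g⁻¹ * z := by
  rw [← inv_eq_of_mul_eq_one_right (C.zE_sq D hg), mul_inv_rev,
    inv_eq_of_mul_eq_one_right C.z_sq]

theorem zE_fix {g : G} (hg : g ∈ E) : (z * g) • a = a := by
  rw [mul_smul, C.E_fix D hg, C.fam.fix_a]

theorem zE_bad {g : G} (hg : g ∈ E) : IsBad Ω (z * g) := by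
  refine C.invol' (C.zE_sq D hg) (C.zE_fix D hg) fun hw => D.notMem ?_
  have := mul_mem (D.W_le hw) (inv_mem hg)
  rwa [mul_inv_cancel_right] at this

theorem bad_P {v : G} (hv : IsBad Ω v) (hvP : v ∈ cMod W a z) : z * v ∈ E := by
  refine (D.cases v hvP).resolve_left fun hE => C.bad_notMem hv (D.invol v hE ?_)
  rw [← pow_two, ← hv.1, pow_orderOf_eq_one]

/-- Every further point is fixed by an element of `z E`. -/
theorem exists_zE_fix {c : Ω} (hc : c ≠ a) : ∃ g ∈ E, (z * g) • c = c := by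
  let A := Σ g : E, {x : Ω // (z * (g : G)) • x = x ∧ x ≠ a}
  let f : A → {x : Ω // x ≠ a} := fun p => ⟨p.2.1, p.2.2.2⟩
  have hf : Function.Injective f := by
    rintro ⟨g, x, hx, hxa⟩ ⟨h, y, hy, hya⟩ e
    have e' : x = y := congrArg Subtype.val e
    subst e'
    have hgh : (g : G) • x = (h : G) • x := smul_left_cancel z
      (by rw [← mul_smul, ← mul_smul, hx, hy])
    have hmem := mul_mem (inv_mem g.2) h.2
    have hfix : ((g : G)⁻¹ * h) • x = x := by rw [mul_smul, ← hgh, inv_smul_smul]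
    have hW := C.semireg (C.P_sq (D.le_P hmem)) hxa (by rw [mul_smul, hfix, hfix])
    have hgh' : g = h :=
      Subtype.ext (inv_mul_eq_one.1 (C.semireg (D.invol _ hmem hW) hxa hfix))
    subst hgh'
    rfl
  have hcard : Nat.card {x : Ω // x ≠ a} = Nat.card ↥(W a) ^ 3 := by
    have : Fintype Ω := Fintype.ofFinite Ω
    classical
    have h3 := C.points
    rw [Nat.card_eq_fintype_card (α := Ω)] at h3
    rw [Nat.card_eq_fintype_card, Fintype.card_subtype_compl, Fintype.card_subtype_eq, h3]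
    omega
  have hbij : Function.Bijective f := by
    refine hf.bijective_of_nat_card_le ?_
    have : Fintype E := Fintype.ofFinite E
    rw [hcard, Nat.card_sigma,
      Finset.sum_congr rfl (fun (g : E) _ => C.card_fix_ne (C.zE_bad D g.2) (C.zE_fix D g.2)),
      Finset.sum_const, Finset.card_univ, ← Nat.card_eq_fintype_card, D.card, smul_eq_mul]
    exact le_of_eq (by ring)
  obtain ⟨⟨g, x, hx, hxa⟩, hp⟩ := hbij.2 ⟨c, hc⟩
  have : x = c := congrArg Subtype.val hp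
  exact ⟨g, g.2, this ▸ hx⟩

/-! ### The normaliser of `cMod W a z` -/

theorem norm_tau {g : G} (hga : g • a = a) (hg : g ∈ normalizer (cMod W a z : Set G)) :
    ⁅z, g⁆ ∈ E := by
  have h := C.bad_P D (isBad_conj g C.fam.bad)
    ((Subgroup.mem_normalizer_iff.1 hg z).1 (C.cY_le_P C.z_cY))
  rwa [C.zero_conj g, ← mul_assoc, C.z_sq, one_mul] at h

theorem norm_E {g e : G} (hga : g • a = a) (hg : g ∈ normalizer (cMod W a z : Set G))
    (he : e ∈ E) : g * e * g⁻¹ ∈ E := by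
  have hP : g * e * g⁻¹ ∈ cMod W a z := (Subgroup.mem_normalizer_iff.1 hg e).1 (D.le_P he)
  by_cases heW : e ∈ W a
  · exact D.W_le (C.conj_W hga heW)
  · refine (D.cases _ hP).resolve_right fun h => heW (D.invol e he ?_)
    have h2 := C.zE_sq D h
    rw [← mul_assoc z z, C.z_sq, one_mul] at h2
    calc e * e = g⁻¹ * ((g * e * g⁻¹) * (g * e * g⁻¹)) * g := by group
      _ = 1 := by rw [h2]; group

omit D in
theorem kap_mem {g : G} {E' : Subgroup G} (hE : E' ≤ cMod W a z) (h : ⁅z, g⁆ ∈ E') :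
    kap z g ∈ W a := C.P_sq (hE h)

theorem kap_eq_one {g : G} (h : ⁅z, g⁆ ∈ E) : kap z g = 1 ↔ ⁅z, g⁆ ∈ W a :=
  ⟨fun e => D.invol _ h e, fun e => C.ti.sq a _ e⟩

theorem kap_mul {g k : G} (hga : g • a = a) (hg : g ∈ normalizer (cMod W a z : Set G))
    (hka : k • a = a) (hk : k ∈ normalizer (cMod W a z : Set G)) :
    kap z (g * k) = kap z g * (g * kap z k * g⁻¹) := by
  have h1 := C.norm_tau D hga hg
  have h2 := C.norm_E D hga hg (C.norm_tau D hka hk)
  have e : ⁅z, g * k⁆ = ⁅z, g⁆ * (g * ⁅z, k⁆ * g⁻¹) := by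
    simp only [commutatorElement_def]; group
  show ⁅z, g * k⁆ * ⁅z, g * k⁆ = _
  rw [e, (D.comm _ h2 _ h1).mul_mul_mul_comm]
  simp only [kap]
  group

omit D in
theorem norm_P {g : G} (hg : g ∈ cMod W a z) : g ∈ normalizer (cMod W a z : Set G) :=
  Subgroup.le_normalizer hg

omit D in
theorem J_norm {j : G} (hj : j ∈ J) : j ∈ normalizer (cMod W a z : Set G) := by
  refine Subgroup.mem_normalizer_iff.2 fun x => ⟨fun hx => C.P_J hj hx, fun hx => ?_⟩
  have := C.P_J (inv_mem hj) hx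
  simpa [mul_assoc] using this

theorem kap_P {g : G} (hg : g ∈ cMod W a z) : kap z g = 1 :=
  (C.kap_eq_one D (D.W_le (C.tau_mem hg))).2 (C.tau_mem hg)

omit D in
theorem kap_conj_J {j g : G} (hj : j ∈ J) : kap z (j * g * j⁻¹) = j * kap z g * j⁻¹ := by
  show ⁅z, j * g * j⁻¹⁆ * ⁅z, j * g * j⁻¹⁆ = _
  rw [C.tau_conj hj]
  simp only [kap]
  group

/-! ### The group `tGroup W a z` -/

omit D in
theorem T_fix {g : G} (hg : g ∈ tGroup W a z) : g • a = a := (mem_cW.1 hg.1).1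

omit D in
theorem P_le_T : cMod W a z ≤ tGroup W a z := fun g hg => ⟨C.P_cW hg, C.norm_P hg⟩

omit D in
theorem T_J {j g : G} (hj : j ∈ J) (hg : g ∈ tGroup W a z) : j * g * j⁻¹ ∈ tGroup W a z :=
  Subgroup.mem_inf.2 ⟨C.conj_cW (C.J_fix_a hj) hg.1,
    mul_mem (mul_mem (C.J_norm hj) (Subgroup.mem_inf.1 hg).2) (inv_mem (C.J_norm hj))⟩

theorem T_kap_mul {g k : G} (hg : g ∈ tGroup W a z) (hka : k • a = a)
    (hk : k ∈ normalizer (cMod W a z : Set G)) : kap z (g * k) = kap z g * kap z k := by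
  rw [C.kap_mul D (C.T_fix hg) hg.2 hka hk,
    ← ((mem_cW.1 hg.1).2 _ (C.kap_mem D.le_P (C.norm_tau D hka hk))).eq, mul_inv_cancel_right]

theorem T_zero {g : G} (hg : g ∈ tGroup W a z) (h : kap z g = 1) : g ∈ cMod W a z :=
  C.mem_P.2 ⟨hg.1, (C.kap_eq_one D (C.norm_tau D (C.T_fix hg) hg.2)).1 h⟩

/-- Squares in `tGroup W a z` lie in `E`. -/
theorem T_sq {g : G} (hg : g ∈ tGroup W a z) : g * g ∈ E := by
  have hP : g * g ∈ cMod W a z := C.T_zero D (mul_mem hg hg) (by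
    rw [C.T_kap_mul D hg (C.T_fix hg) hg.2]
    exact C.ti.sq a _ (C.kap_mem D.le_P (C.norm_tau D (C.T_fix hg) hg.2)))
  refine (D.cases _ hP).resolve_right fun h => ?_
  have hv : IsBad Ω (g * g) := by
    have := C.zE_bad D h
    rwa [← mul_assoc, C.z_sq, one_mul] at this
  have hva : (g * g) • a = a := by rw [mul_smul, C.T_fix hg, C.T_fix hg]
  have hv2 : g * g * (g * g) = 1 := by rw [← pow_two (g * g), ← hv.1, pow_orderOf_eq_one]
  have hne : g * g ≠ 1 := fun e => by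
    have := hv.1
    rw [e, orderOf_one] at this
    omega
  rcases C.cY_cases hv hva (mem_cY.2 ⟨hg.1, (Commute.refl g).mul_left (Commute.refl g)⟩) with h' | h'
  · exact hne (C.ti.sq a g h')
  · refine hne ?_
    have h6 := C.ti.sq a _ h'
    calc g * g = g * g * (g * g * (g * g)) := by rw [hv2, mul_one]
      _ = g * g * g * (g * g * g) := by group
      _ = 1 := h6

theorem T_two : IsPGroup 2 ↥(tGroup W a z) := fun g => ⟨3, Subtype.ext (by
  have h := C.E_four D (C.T_sq D g.2)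
  show (((g : ↥(tGroup W a z)) ^ 2 ^ 3 : ↥(tGroup W a z)) : G) = 1
  rw [SubmonoidClass.coe_pow]
  rw [show (2 : ℕ) ^ 3 = 2 * 2 * 2 from rfl, pow_mul, pow_mul, pow_two, pow_two, pow_two]
  exact h)⟩

theorem T_stab {g : G} (hg : g ∈ tGroup W a z) (hgb : g • b = b) : g = 1 ∨ g = z :=
  C.two_stab (U := tGroup W a z ⊓ stabilizer G b) ((C.T_two D).to_le inf_le_left)
    (fun x hx => hx.1.1) C.fam.ne (fun x hx => hx.2)
    (u₀ := z) ⟨C.P_le_T (C.cY_le_P C.z_cY), C.fam.fix_b⟩ C.z_ne g ⟨hg, hgb⟩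

/-- Elements fixed by the torus modulo `E` lie in `cMod W a z`. -/
theorem T_fixed {g : G} (hg : g ∈ tGroup W a z) (hJ : ∀ j ∈ J, j * g * j⁻¹ * g⁻¹ ∈ E) :
    g ∈ cMod W a z := by
  refine C.T_zero D hg (C.W_fixed (C.kap_mem D.le_P (C.norm_tau D (C.T_fix hg) hg.2)) fun j hj => ?_)
  have he := D.le_P (hJ j hj)
  rw [← C.kap_conj_J hj, show j * g * j⁻¹ = (j * g * j⁻¹ * g⁻¹) * g by group,
    C.T_kap_mul D (C.P_le_T he) (C.T_fix hg) hg.2, C.kap_P D he, one_mul]

/-- If some element of `tGroup W a z` moves the class of `z`, all classes are reached. -/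
theorem T_surj {g₀ : G} (hg₀ : g₀ ∈ tGroup W a z) (h₀ : kap z g₀ ≠ 1) {f : G} (hf : f ∈ W a) :
    ∃ g ∈ tGroup W a z, kap z g = f := by
  by_cases hf1 : f = 1
  · exact ⟨1, one_mem _, by rw [hf1, C.kap_P D (one_mem _)]⟩
  obtain ⟨j, hj, hjf⟩ := C.fam.torus.trans _
    (by rw [C.W_le_cent]; exact C.kap_mem D.le_P (C.norm_tau D (C.T_fix hg₀) hg₀.2)) h₀ f
    (by rw [C.W_le_cent]; exact hf) hf1
  exact ⟨j * g₀ * j⁻¹, C.T_J hj hg₀, by rw [C.kap_conj_J hj, hjf]⟩

/-- In that case `tGroup W a z` is transitive on the further points. -/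
theorem T_transitive {g₀ : G} (hg₀ : g₀ ∈ tGroup W a z) (h₀ : kap z g₀ ≠ 1) {c : Ω} (hc : c ≠ a) :
    ∃ t ∈ tGroup W a z, t • b = c := by
  obtain ⟨e, he, hec⟩ := C.exists_zE_fix D hc
  obtain ⟨g, hg, hge⟩ := C.T_surj D hg₀ h₀ (C.P_sq (D.le_P he))
  have hτ := C.norm_tau D (C.T_fix hg) hg.2
  have hf : ⁅z, g⁆⁻¹ * e ∈ W a := by
    refine D.invol _ (mul_mem (inv_mem hτ) he) ?_
    rw [(D.comm _ he _ (inv_mem hτ)).mul_mul_mul_comm, ← mul_inv_rev,
      show ⁅z, g⁆ * ⁅z, g⁆ = e * e from hge, inv_mul_cancel]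
  obtain ⟨p, hp, hpf⟩ := C.exists_tau hf
  have hconj : g * p * z * (g * p)⁻¹ = z * e := by
    calc g * p * z * (g * p)⁻¹ = g * (p * z * p⁻¹) * g⁻¹ := by group
      _ = g * (z * (⁅z, g⁆⁻¹ * e)) * g⁻¹ := by rw [C.zero_conj p, hpf]
      _ = g * z * g⁻¹ * (g * (⁅z, g⁆⁻¹ * e) * g⁻¹) := by group
      _ = z * ⁅z, g⁆ * (⁅z, g⁆⁻¹ * e) := by
          rw [C.zero_conj g, ← ((mem_cW.1 hg.1).2 _ hf).eq, mul_inv_cancel_right]
      _ = z * e := by group
  set h := g * p with hdef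
  have hh : h ∈ tGroup W a z := mul_mem hg (C.P_le_T hp)
  have hha : h⁻¹ • a = a := by rw [inv_smul_eq_iff, C.T_fix hh]
  have hzc : z • h⁻¹ • c = h⁻¹ • c := by
    rw [← hconj, mul_smul, mul_smul, ← eq_inv_smul_iff] at hec
    exact hec
  obtain ⟨w, hw, hwc⟩ := C.exists_W_move C.fam.bad C.fam.fix_a C.fam.fix_b C.fam.ne hzc
    (fun e' => hc (smul_left_cancel h⁻¹ (e'.trans hha.symm)))
  exact ⟨h * w, mul_mem hh (C.P_le_T (C.W_le_P hw)), by rw [mul_smul, hwc, smul_inv_smul]⟩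

/-- Bad involutions of `tGroup W a z` lie in `z E`. -/
theorem T_bad {v : G} (hv : IsBad Ω v) (hvT : v ∈ tGroup W a z) : z * v ∈ E := by
  by_cases hk : kap z v = 1
  · exact C.bad_P D hv (C.T_zero D hvT hk)
  obtain ⟨c, hca, hvc⟩ : ∃ c, c ≠ a ∧ v • c = c := by
    obtain ⟨-, p, p', hpp, hp, hp'⟩ := hv
    by_cases h : p = a
    · exact ⟨p', fun e => hpp (h.trans e.symm), hp'⟩
    · exact ⟨p, h, hp⟩
  obtain ⟨t, ht, htc⟩ := C.T_transitive D hvT hk hca
  have hb : (t⁻¹ * v * t) • b = b := by rw [mul_smul, mul_smul, htc, hvc, inv_smul_eq_iff, htc]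
  rcases C.T_stab D (mul_mem (mul_mem (inv_mem ht) hvT) ht) hb with h | h
  · exfalso
    have h1 : v = 1 := by
      calc v = t * (t⁻¹ * v * t) * t⁻¹ := by group
        _ = 1 := by rw [h]; group
    have h2 := hv.1
    rw [h1, orderOf_one] at h2
    omega
  · have h1 : v = z * ⁅z, t⁆ := by
      rw [← C.zero_conj t, ← h]; group
    rw [h1, ← mul_assoc, C.z_sq, one_mul]
    exact C.norm_tau D (C.T_fix ht) ht.2

omit D in
/-- An element translating `z` inside `W a` is a translation times an element fixing `b`. -/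
theorem exists_cover {g : G} (hga : g • a = a) (hg : ⁅z, g⁆ ∈ W a) :
    ∃ p ∈ cMod W a z, (p⁻¹ * g) • b = b ∧ Commute z (p⁻¹ * g) := by
  obtain ⟨p, hp, hpf⟩ := C.exists_tau hg
  have hc : Commute z (p⁻¹ * g) := by
    have e : p * z * p⁻¹ = g * z * g⁻¹ := by rw [C.zero_conj p, C.zero_conj g, hpf]
    show z * (p⁻¹ * g) = p⁻¹ * g * z
    calc z * (p⁻¹ * g) = p⁻¹ * (p * z * p⁻¹) * g := by group
      _ = p⁻¹ * g * z := by rw [e]; group
  have hpa : p⁻¹ • a = a := (mem_cW.1 (C.P_cW (inv_mem hp))).1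
  obtain ⟨w, hw, hwb⟩ := C.exists_W_move C.fam.bad C.fam.fix_a C.fam.fix_b C.fam.ne
    (c' := (p⁻¹ * g) • b) (by rw [← mul_smul, hc.eq, mul_smul, C.fam.fix_b])
    (fun e => C.fam.ne (smul_left_cancel (p⁻¹ * g) (e.trans (by rw [mul_smul, hga, hpa]))))
  refine ⟨p * w, mul_mem hp (C.W_le_P hw), ?_, ?_⟩
  · rw [mul_inv_rev, mul_assoc, mul_smul, ← hwb, inv_smul_smul]
  · rw [mul_inv_rev, mul_assoc]
    exact (C.z_comm hw).inv_right.mul_right hc

end LinCtx

end CfsgLib.LocalEven.TIEndgame
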