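import Cfsg.Agent.Lib.LocalEven.TIEndgame.Defs

/-!
# A centred bad involution and two points of its line

`LocalPair W a b z Q J`: the bad involution `z` fixes `a` and `b`, centralises the groups at its
fixed points and has linear or Suzuki local data. Then the elements of `cY W a z` fixing `b`
centralise the data and fix all fixed points of `z`; one of odd order is trivial.
-/

set_option autoImplicit false
set_option linter.style.haveILetI false

namespace CfsgLib.LocalEven.TIEndgame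

open MulAction Subgroup
open scoped commutatorElement

universe u

variable {G Ω : Type u} [Group G] [MulAction G Ω]

/-- Local data at every bad involution and every pair of its fixed points. -/
def LocTorus (W : Ω → Subgroup G) : Prop :=
  ∀ x : G, ∀ c : Ω, IsBad Ω x → x • c = c → ∃ Q, Loc W (centralizer {x}) c Q ∧
    ∀ d : Ω, x • d = d → d ≠ c → ∃ J, Torus W (centralizer {x}) c d Q J

/-- A centred bad involution with non-cubic local data at two of its points. -/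
structure LocalPair (W : Ω → Subgroup G) (a b : Ω) (z : G) (Q J : Subgroup G) : Prop where
  bad : IsBad Ω z
  fix_a : z • a = a
  fix_b : z • b = b
  ne : b ≠ a
  inf_eq : ∀ c : Ω, z • c = c → W c ⊓ centralizer {z} = W c
  loc : Loc W (centralizer {z}) a Q
  torus : Torus W (centralizer {z}) a b Q J
  four : 4 ≤ Nat.card ↥(W a)
  not_cube : Nat.card Q = Nat.card ↥(W a) ∨ Nat.card Q = Nat.card ↥(W a) ^ 2

theorem commute_of_isCyclic {J : Subgroup G} (hJ : IsCyclic J) {i j : G} (hi : i ∈ J) (hj : j ∈ J) :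
    Commute i j := by
  obtain ⟨g, hg⟩ := hJ.exists_generator
  obtain ⟨k, hk⟩ := mem_zpowers_iff.1 (hg ⟨i, hi⟩)
  obtain ⟨l, hl⟩ := mem_zpowers_iff.1 (hg ⟨j, hj⟩)
  have hk' : (g : G) ^ k = i := congrArg Subtype.val hk
  have hl' : (g : G) ^ l = j := congrArg Subtype.val hl
  rw [← hk', ← hl']
  exact (Commute.refl (g : G)).zpow_zpow k l

theorem card_le_two_mul [Finite G] {A B : Subgroup G} {x : G}
    (h : ∀ y ∈ A, y ∈ B ∨ x⁻¹ * y ∈ B) : Nat.card A ≤ 2 * Nat.card B := by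
  have hsub : (A : Set G) ⊆ (B : Set G) ∪ (fun w => x * w) '' (B : Set G) := fun y hy =>
    (h y hy).imp id fun h1 => ⟨_, h1, mul_inv_cancel_left x y⟩
  have h1 := (Set.ncard_le_ncard hsub (Set.toFinite _)).trans (Set.ncard_union_le _ _)
  rw [Set.ncard_image_of_injective _ (mul_right_injective x), ← Nat.card_coe_set_eq,
    ← Nat.card_coe_set_eq] at h1
  exact h1.trans (two_mul _).ge

theorem TISetting.card_W_eq [Finite G] {W : Ω → Subgroup G} (h : TISetting W) (a c : Ω) :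
    Nat.card ↥(W a) = Nat.card ↥(W c) := by
  obtain ⟨g, rfl⟩ := h.onePoint.exists_move h.covers a c
  refine Nat.card_congr ⟨fun x => ⟨g * x * g⁻¹, h.conj g a x x.2⟩,
    fun y => ⟨g⁻¹ * y * g, by simpa using h.conj g⁻¹ (g • a) y y.2⟩,
    fun x => Subtype.ext ?_, fun y => Subtype.ext ?_⟩ <;> simp [mul_assoc]

variable {W : Ω → Subgroup G}

theorem mem_cY_iff {a : Ω} {z g : G} :
    g ∈ cY W a z ↔ g • a = a ∧ (∀ d ∈ W a, Commute g d) ∧ Commute g z := by
  simp only [cY, cW, Subgroup.mem_inf, mem_stabilizer_iff, Subgroup.mem_centralizer_iff,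
    Set.mem_singleton_iff, forall_eq, SetLike.mem_coe, and_assoc]
  exact and_congr_right fun _ => and_congr
    ⟨fun H d hd => (H d hd).symm, fun H d hd => (H d hd).symm⟩ ⟨Eq.symm, Eq.symm⟩

/-- Translating `z` by a member at `a` does not change `cY W a z`. -/
theorem cY_mul {a : Ω} {z f : G} (hf : f ∈ W a) : cY W a (z * f) = cY W a z := by
  ext g
  simp only [mem_cY_iff]
  refine and_congr_right fun _ => and_congr_right fun hW => ⟨fun hc => ?_, fun hc => hc.mul_right (hW f hf)⟩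
  have := hc.mul_right ((hW f hf).inv_right)
  rwa [mul_inv_cancel_right] at this

namespace LocalPair

variable {a b : Ω} {z : G} {Q J : Subgroup G} (P : LocalPair W a b z Q J)
include P

theorem commute_core {g : G} (hg : g ∈ core W (centralizer {z})) : Commute z g :=
  (mem_centralizer_singleton_iff.1
    (((closure_le (centralizer {z})).2 Set.inter_subset_right) hg)).symm

theorem card_W : Nat.card ↥(W a ⊓ centralizer {z}) = Nat.card ↥(W a) := by
  rw [P.inf_eq a P.fix_a]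

theorem commute_W {c : Ω} (hc : z • c = c) {d : G} (hd : d ∈ W c) : Commute z d := by
  rw [← P.inf_eq c hc] at hd
  exact (mem_centralizer_singleton_iff.1 hd.2).symm

theorem W_le_Q : W a ≤ Q := (P.inf_eq a P.fix_a).ge.trans P.loc.inf_le

theorem Q_central {x : G} (hx : x ∈ Q) {d : G} (hd : d ∈ W a) : Commute x d :=
  P.loc.central x hx d (by rwa [P.inf_eq a P.fix_a])

theorem smul_a_of_Q {x : G} (hx : x ∈ Q) : x • a = a :=
  mem_stabilizer_iff.1 (P.loc.le hx).2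

theorem commute_Q {x : G} (hx : x ∈ Q) : Commute z x := P.commute_core (P.loc.le hx).1

theorem Q_le_cY : Q ≤ cY W a z := fun x hx =>
  mem_cY_iff.2 ⟨P.smul_a_of_Q hx, fun _ => P.Q_central hx, (P.commute_Q hx).symm⟩

theorem z_mem : z ∈ cY W a z :=
  mem_cY_iff.2 ⟨P.fix_a, fun _ hd => P.commute_W P.fix_a hd, Commute.refl z⟩

theorem commute_J {j : G} (hj : j ∈ J) : Commute z j :=
  P.commute_core (Subgroup.mem_inf.1 (Subgroup.mem_inf.1 (P.torus.le hj)).1).1

theorem J_fix_a {j : G} (hj : j ∈ J) : j • a = a :=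
  mem_stabilizer_iff.1 (Subgroup.mem_inf.1 (Subgroup.mem_inf.1 (P.torus.le hj)).1).2

theorem J_fix_b {j : G} (hj : j ∈ J) : j • b = b :=
  mem_stabilizer_iff.1 (Subgroup.mem_inf.1 (P.torus.le hj)).2

theorem two_fixed {g : G} (hg : g ∈ cY W a z) {c : Ω} (hc : z • c = c) : z • g • c = g • c := by
  rw [smul_smul, ← (mem_cY_iff.1 hg).2.2.eq, mul_smul, hc]

section

variable [Finite G] (h : TISetting W)
include h

theorem mem_pts {c : Ω} : c ∈ pts W (centralizer {z}) ↔ z • c = c := by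
  rw [h.pts_centralizer P.bad.1]; rfl

theorem torus_free {j f : G} (hj : j ∈ J) (hf : f ∈ W a) (hf1 : f ≠ 1) (hc : Commute j f) :
    j = 1 := by
  let ψ : J → ↑((W a : Set G) \ {1}) := fun i => ⟨(i : G) * f * (i : G)⁻¹, by
    have := h.conj i a f hf
    rwa [P.J_fix_a i.2] at this, fun e => hf1 (conj_eq_one_iff.1 e)⟩
  have hsurj : Function.Surjective ψ := by
    rintro ⟨x, hx, hx1⟩
    obtain ⟨i, hi, hix⟩ := P.torus.trans f (by rwa [P.inf_eq a P.fix_a]) hf1 x
      (by rwa [P.inf_eq a P.fix_a]) hx1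
    exact ⟨⟨i, hi⟩, Subtype.ext hix⟩
  have hcard : Nat.card J ≤ Nat.card ↑((W a : Set G) \ {1}) := by
    have h1 := P.torus.card
    rw [P.card_W] at h1
    rw [Nat.card_coe_set_eq, Set.ncard_diff_singleton_of_mem (one_mem (W a)), ← Nat.card_coe_set_eq]
    exact (Nat.eq_sub_of_add_eq h1).le
  have := (hsurj.bijective_of_nat_card_le hcard).1 (a₁ := ⟨j, hj⟩) (a₂ := 1) (Subtype.ext (by
    show j * f * j⁻¹ = ((1 : J) : G) * f * ((1 : J) : G)⁻¹
    rw [hc.eq]; simp))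
  exact congrArg Subtype.val this

theorem exists_translation {c : Ω} (hc : z • c = c) (hca : c ≠ a) : ∃ x ∈ Q, x • b = c := by
  obtain ⟨x, hx, -⟩ :=
    P.loc.regular b ((P.mem_pts h).2 P.fix_b) P.ne c ((P.mem_pts h).2 hc) hca
  exact ⟨x, hx⟩

theorem eq_one_of_fix {x : G} (hx : x ∈ Q) (hxb : x • b = b) : x = 1 := by
  obtain ⟨u, -, hu⟩ :=
    P.loc.regular b ((P.mem_pts h).2 P.fix_b) P.ne b ((P.mem_pts h).2 P.fix_b) P.ne
  exact (hu x ⟨hx, hxb⟩).trans (hu 1 ⟨one_mem _, one_smul _ _⟩).symm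

theorem card_fixed [Finite Ω] : Nat.card (fixedBy Ω z) = Nat.card Q + 1 := by
  have hmap : ∀ x : Q, (x : G) • b ∈ fixedBy Ω z \ {a} := fun x => by
    refine ⟨?_, fun e => P.ne (smul_left_cancel (x : G) ?_)⟩
    · rw [mem_fixedBy, smul_smul, (P.commute_Q x.2).eq, mul_smul, P.fix_b]
    · rw [Set.mem_singleton_iff.1 e, P.smul_a_of_Q x.2]
  have hcard : Nat.card Q = Nat.card ↑(fixedBy Ω z \ {a}) := by
    refine Nat.card_eq_of_bijective (fun x => ⟨_, hmap x⟩) ⟨fun x y hxy => ?_, fun c => ?_⟩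
    · have hxy' : (x : G) • b = (y : G) • b := congrArg Subtype.val hxy
      refine Subtype.ext (inv_mul_eq_one.1 (P.eq_one_of_fix h (mul_mem (inv_mem x.2) y.2) ?_))
      rw [mul_smul, ← hxy', inv_smul_smul]
    · obtain ⟨x, hx, hxc⟩ := P.exists_translation h c.2.1 c.2.2
      exact ⟨⟨x, hx⟩, Subtype.ext hxc⟩
  rw [hcard, Nat.card_coe_set_eq, Nat.card_coe_set_eq,
    Set.ncard_diff_singleton_add_one (show a ∈ fixedBy Ω z from P.fix_a) (Set.toFinite _)]

theorem comm_J {n : G} (hn : n ∈ cY W a z) (hnb : n • b = b) {j : G} (hj : j ∈ J) :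
    Commute n j := by
  obtain ⟨hna, hnW, hnz⟩ := mem_cY_iff.1 hn
  have hnj : n * j * n⁻¹ ∈ J :=
    P.torus.normal n (mem_centralizer_singleton_iff.2 hnz.eq) hna hnb j hj
  obtain ⟨f, hf, hf1⟩ : ∃ f ∈ W a, f ≠ 1 := by
    obtain ⟨⟨f, hf⟩, hf1⟩ := (Subgroup.ne_bot_iff_exists_ne_one).1 (h.ne_bot a)
    exact ⟨f, hf, fun e => hf1 (Subtype.ext e)⟩
  have hjf : j * f * j⁻¹ ∈ W a := by
    have := h.conj j a f hf
    rwa [P.J_fix_a hj] at this
  have hc : Commute (j⁻¹ * (n * j * n⁻¹)) f := by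
    refine mul_inv_eq_iff_eq_mul.1 ?_
    have e1 : n⁻¹ * f * n = f := by rw [mul_assoc, ← (hnW f hf).eq, inv_mul_cancel_left]
    calc j⁻¹ * (n * j * n⁻¹) * f * (j⁻¹ * (n * j * n⁻¹))⁻¹
        = j⁻¹ * (n * (j * (n⁻¹ * f * n) * j⁻¹) * n⁻¹) * j := by group
      _ = j⁻¹ * (j * f * j⁻¹) * j := by rw [e1, (hnW _ hjf).eq, mul_inv_cancel_right]
      _ = f := by group
  have := P.torus_free h (mul_mem (inv_mem hj) hnj) hf hf1 hc
  exact mul_inv_eq_iff_eq_mul.1 (inv_mul_eq_one.1 this).symm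

theorem comm_Q {n : G} (hn : n ∈ cY W a z) (hnb : n • b = b) {x : G} (hx : x ∈ Q) :
    Commute n x := by
  obtain ⟨hna, hnW, hnz⟩ := mem_cY_iff.1 hn
  rcases P.not_cube with hq | hq
  · have : Q = W a := (Subgroup.eq_of_le_of_card_ge P.W_le_Q hq.le).symm
    exact hnW x (this ▸ hx)
  have hq' : Nat.card Q = Nat.card ↥(W a ⊓ centralizer {z}) ^ 2 := by rw [P.card_W]; exact hq
  -- `δ x = x⁻¹ * n x n⁻¹`
  have hconj : ∀ x ∈ Q, n * x * n⁻¹ ∈ Q := fun x hx =>
    P.loc.normal n (mem_centralizer_singleton_iff.2 hnz.eq) hna x hx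
  have hδ : ∀ x ∈ Q, x⁻¹ * (n * x * n⁻¹) ∈ W a := fun x hx => by
    refine P.loc.square_inj hq' x hx _ (hconj x hx) ?_
    rw [show n * x * n⁻¹ * (n * x * n⁻¹) = n * (x * x) * n⁻¹ by group,
      (hnW _ (P.loc.sq_mem x hx)).eq, mul_inv_cancel_right]
  by_contra hne
  set t := x⁻¹ * (n * x * n⁻¹) with ht
  have ht1 : t ≠ 1 := fun e => hne (mul_inv_eq_iff_eq_mul.1 (inv_mul_eq_one.1 e).symm)
  have hxW : x ∉ W a := fun hxW => hne (hnW x hxW)
  have hsqW : ∀ y ∈ Q, y ∉ W a → y * y ∈ W a ⊓ centralizer {z} ∧ y * y ≠ 1 := fun y hy hyW =>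
    ⟨by rw [P.inf_eq a P.fix_a]; exact P.loc.sq_mem y hy, fun e => hyW (P.loc.invol y hy e)⟩
  obtain ⟨i, hi, hit⟩ := P.torus.trans (x * x) (hsqW x hx hxW).1 (hsqW x hx hxW).2 t
    (by rw [P.inf_eq a P.fix_a]; exact hδ x hx) ht1
  -- the squaring map is multiplicative
  have hsq : ∀ y ∈ Q, i * (y * y) * i⁻¹ = y⁻¹ * (n * y * n⁻¹) := by
    intro y hy
    by_cases hyW : y ∈ W a
    · rw [h.sq a y hyW, (hnW y hyW).eq, mul_inv_cancel_right]
      simp
    obtain ⟨j, hj, hjy⟩ := P.torus.trans (x * x) (hsqW x hx hxW).1 (hsqW x hx hxW).2 (y * y)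
      (hsqW y hy hyW).1 (hsqW y hy hyW).2
    have hjQ : j * x * j⁻¹ ∈ Q :=
      P.loc.normal j (mem_centralizer_singleton_iff.2 (P.commute_J hj).eq.symm) (P.J_fix_a hj) x hx
    have hw : (j * x * j⁻¹)⁻¹ * y ∈ W a := P.loc.square_inj hq' _ hjQ y hy (by rw [← hjy]; group)
    set w := (j * x * j⁻¹)⁻¹ * y with hwdef
    have hy' : y = j * x * j⁻¹ * w := by rw [hwdef, mul_inv_cancel_left]
    have hnj := P.comm_J h hn hnb hj
    have hwn : n * w * n⁻¹ = w := by rw [(hnW w hw).eq, mul_inv_cancel_right]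
    have hjt : j * t * j⁻¹ ∈ W a := by
      have := h.conj j a t (hδ x hx)
      rwa [P.J_fix_a hj] at this
    have e1 : n * (j * x * j⁻¹) * n⁻¹ = j * (n * x * n⁻¹) * j⁻¹ := by
      calc n * (j * x * j⁻¹) * n⁻¹ = (n * j) * x * (n * j)⁻¹ := by group
        _ = (j * n) * x * (j * n)⁻¹ := by rw [hnj.eq]
        _ = j * (n * x * n⁻¹) * j⁻¹ := by group
    have e2 : n * (j * x * j⁻¹) * n⁻¹ = j * x * j⁻¹ * (j * t * j⁻¹) := by
      rw [e1, ht]; group
    have hij := commute_of_isCyclic P.torus.cyclic hi hj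
    calc i * (y * y) * i⁻¹ = i * (j * (x * x) * j⁻¹) * i⁻¹ := by rw [hjy]
      _ = (i * j) * (x * x) * (i * j)⁻¹ := by group
      _ = j * (i * (x * x) * i⁻¹) * j⁻¹ := by rw [hij.eq]; group
      _ = j * t * j⁻¹ := by rw [hit]
      _ = w⁻¹ * (j * t * j⁻¹ * w) := by rw [(h.mul_comm_of_mem hjt hw).eq, inv_mul_cancel_left]
      _ = y⁻¹ * (n * y * n⁻¹) := by
        rw [hy', show n * (j * x * j⁻¹ * w) * n⁻¹ = (n * (j * x * j⁻¹) * n⁻¹) * (n * w * n⁻¹) by group,
          hwn, e2]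
        group
  have hcomm : ∀ y ∈ Q, Commute x y := fun y hy => by
    have hxy := mul_mem hx hy
    have hm : i * (x * y * (x * y)) * i⁻¹ = i * (x * x * (y * y)) * i⁻¹ := by
      rw [show i * (x * x * (y * y)) * i⁻¹ = i * (x * x) * i⁻¹ * (i * (y * y) * i⁻¹) by group,
        hsq _ hxy, hsq x hx, hsq y hy]
      have hc : Commute y⁻¹ (x⁻¹ * (n * x * n⁻¹)) := (P.Q_central (inv_mem hy) (hδ x hx))
      calc (x * y)⁻¹ * (n * (x * y) * n⁻¹)
          = y⁻¹ * (x⁻¹ * (n * x * n⁻¹)) * (n * y * n⁻¹) := by group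
        _ = x⁻¹ * (n * x * n⁻¹) * y⁻¹ * (n * y * n⁻¹) := by rw [hc.eq]
        _ = x⁻¹ * (n * x * n⁻¹) * (y⁻¹ * (n * y * n⁻¹)) := mul_assoc _ _ _
    have hm' : x * y * (x * y) = x * x * (y * y) := mul_left_cancel (mul_right_cancel hm)
    have h2 : x * (y * x) * y = x * (x * y) * y := by simpa only [mul_assoc] using hm'
    exact (mul_left_cancel (mul_right_cancel h2)).symm
  have hle := card_le_two_mul (x := x) fun y hy => P.loc.square_comm hq' x hx hxW y hy (hcomm y hy)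
  rw [hq] at hle
  have h4 := P.four
  nlinarith

/-- Elements of `cY W a z` fixing `b` fix all fixed points of `z`. -/
theorem pointwise {n : G} (hn : n ∈ cY W a z) (hnb : n • b = b) {c : Ω} (hc : z • c = c) :
    n • c = c := by
  by_cases hca : c = a
  · rw [hca, (mem_cY_iff.1 hn).1]
  obtain ⟨x, hx, hxc⟩ := P.exists_translation h hc hca
  rw [← hxc, smul_smul, (P.comm_Q h hn hnb hx).eq, mul_smul, hnb]

/-- Elements of `cY W a z` fixing `b` centralise the groups at all fixed points of `z`. -/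
theorem commute_W_of_mem {n : G} (hn : n ∈ cY W a z) (hnb : n • b = b) {c : Ω} (hc : z • c = c)
    {d : G} (hd : d ∈ W c) : Commute n d := by
  obtain ⟨hna, hnW, hnz⟩ := mem_cY_iff.1 hn
  by_cases hca : c = a
  · exact hnW d (hca ▸ hd)
  obtain ⟨x, hx, hxc⟩ := P.exists_translation h hc hca
  have hd' : x⁻¹ * d * x ∈ W b := by
    have := h.conj x⁻¹ c d hd
    rwa [← hxc, inv_smul_smul, inv_inv] at this
  have h1 : Commute n (x⁻¹ * d * x) :=
    P.torus.both n (mem_centralizer_singleton_iff.2 hnz.eq) hna hnb (fun d hd => hnW d hd.1) _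
      (by rwa [P.inf_eq b P.fix_b])
  have hnx := P.comm_Q h hn hnb hx
  have := (hnx.mul_right h1).mul_right hnx.inv_right
  rwa [show x * (x⁻¹ * d * x) * x⁻¹ = d by group] at this

theorem decomp {g : G} (hg : g ∈ cY W a z) :
    ∃ x ∈ Q, ∃ n ∈ cY W a z ⊓ stabilizer G b, g = x * n := by
  have hga : g • b ≠ a := fun e => P.ne (smul_left_cancel g (e.trans (mem_cY_iff.1 hg).1.symm))
  obtain ⟨x, hx, hxb⟩ := P.exists_translation h (P.two_fixed hg P.fix_b) hga
  refine ⟨x, hx, x⁻¹ * g, Subgroup.mem_inf.2 ⟨mul_mem (inv_mem (P.Q_le_cY hx)) hg, ?_⟩,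
    (mul_inv_cancel_left x g).symm⟩
  rw [mem_stabilizer_iff, mul_smul, ← hxb, inv_smul_smul]

theorem decomp_unique {x x' n n' : G} (hx : x ∈ Q) (hx' : x' ∈ Q) (hn : n • b = b)
    (hn' : n' • b = b) (he : x * n = x' * n') : x = x' ∧ n = n' := by
  have h1 : x⁻¹ * x' = n * n'⁻¹ := by
    rw [inv_mul_eq_iff_eq_mul, ← mul_assoc, he, mul_inv_cancel_right]
  have h2 : x⁻¹ * x' = 1 := by
    refine P.eq_one_of_fix h (mul_mem (inv_mem hx) hx') ?_
    rw [h1, mul_smul, inv_smul_eq_iff.2 hn'.symm, hn]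
  obtain rfl := inv_mul_eq_one.1 h2
  exact ⟨rfl, mul_left_cancel he⟩

theorem card_cY :
    Nat.card ↥(cY W a z) = Nat.card Q * Nat.card ↥(cY W a z ⊓ stabilizer G b) := by
  let f : Q × ↥(cY W a z ⊓ stabilizer G b) → cY W a z := fun p =>
    ⟨p.1 * p.2, mul_mem (P.Q_le_cY p.1.2) (Subgroup.mem_inf.1 p.2.2).1⟩
  have hf : Function.Bijective f := by
    refine ⟨fun p p' he => ?_, fun g => ?_⟩
    · obtain ⟨h1, h2⟩ := P.decomp_unique h p.1.2 p'.1.2
        (mem_stabilizer_iff.1 (Subgroup.mem_inf.1 p.2.2).2)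
        (mem_stabilizer_iff.1 (Subgroup.mem_inf.1 p'.2.2).2) (congrArg Subtype.val he)
      exact Prod.ext (Subtype.ext h1) (Subtype.ext h2)
    · obtain ⟨x, hx, n, hn, he⟩ := P.decomp h g.2
      exact ⟨(⟨x, hx⟩, ⟨n, hn⟩), Subtype.ext he.symm⟩
  rw [← Nat.card_eq_of_bijective f hf, Nat.card_prod]

/-- An element of odd order of `cY W a z` fixes all fixed points of `z`. -/
theorem pointwise_of_odd {n : G} (hn : n ∈ cY W a z) (ho : Odd (orderOf n)) {c : Ω}
    (hc : z • c = c) : n • c = c := by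
  obtain ⟨x, hx, m, hm, rfl⟩ := P.decomp h hn
  have hxm : Commute x m := (P.comm_Q h hm.1 (mem_stabilizer_iff.1 hm.2) hx).symm
  obtain ⟨k, hk⟩ := P.loc.pgroup ⟨x, hx⟩
  have hk' : x ^ 2 ^ k = 1 := congrArg Subtype.val hk
  obtain ⟨t, ht⟩ := exists_pow_eq_self_of_coprime
    (Nat.Coprime.pow_left k (Nat.coprime_two_left.2 ho) : Nat.Coprime (2 ^ k) (orderOf (x * m)))
  rw [← ht, hxm.mul_pow, hk', one_mul, ← pow_mul]
  have hm' : m ^ (2 ^ k * t) ∈ cY W a z ⊓ stabilizer G b := pow_mem hm _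
  exact P.pointwise h hm'.1 (mem_stabilizer_iff.1 hm'.2) hc

end

end LocalPair

end CfsgLib.LocalEven.TIEndgame
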